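import Cfsg.Agent.Lib.GW.Setting
import Cfsg.Agent.Lib.PCore.Basic
import Cfsg.Agent.Lib.Solvable.Basic
import Cfsg.Agent.Lib.Transfer.Residual
import Cfsg.Agent.Lib.DihedralCent.Tools
import Cfsg.Agent.Lib.DihedralSylow.Subgroups
import Cfsg.Agent.S0206
import Cfsg.Agent.S0514

/-!
# Groups with cyclic or dihedral Sylow 2-subgroups and known simple sections

* `IsKnown`, `KnownSections`, `SubDihedral` with their heredity to subgroups and quotients.
* `structure_of_oddCore_eq_bot`, `structure_mod_oddCore`: such a group modulo its odd core is a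
  2-group, `A₄`, `S₄`, or has a simple normal subgroup of known type with trivial centraliser.
-/

set_option autoImplicit false
set_option linter.style.haveILetI false

namespace Cfsg.Agent.GW

open Subgroup
open scoped MatrixGroups

universe u v

/-! ### Definitions -/

/-- `X` is `PSL₂` over a field of odd order greater than 3, or `A₇`. -/
def IsKnown (X : Type u) [Group X] : Prop :=
  (∃ (F : Type) (_ : Field F) (_ : Fintype F), Odd (Fintype.card F) ∧ 3 < Fintype.card F ∧
      Nonempty (X ≃* Matrix.ProjectiveSpecialLinearGroup (Fin 2) F)) ∨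
    Nonempty (X ≃* alternatingGroup (Fin 7))

/-- The Sylow 2-subgroups are dihedral of order at least 4. -/
def DihedralTwo (X : Type u) [Group X] : Prop :=
  ∀ S : Sylow 2 X, ∃ n : ℕ, 2 ≤ n ∧ Nonempty ((S : Subgroup X) ≃* DihedralGroup n)

/-- The Sylow 2-subgroups are cyclic, or dihedral of order at least 4. -/
def SubDihedral (X : Type u) [Group X] : Prop :=
  ∀ S : Sylow 2 X, IsCyclic (S : Subgroup X) ∨
    ∃ n : ℕ, 2 ≤ n ∧ Nonempty ((S : Subgroup X) ≃* DihedralGroup n)

/-- Every nonabelian simple section with dihedral Sylow 2-subgroups is known. -/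
def KnownSections (X : Type u) [Group X] : Prop :=
  ∀ (K : Subgroup X) (N : Subgroup K) [N.Normal], IsSimpleGroup (K ⧸ N) →
    ¬ IsMulCommutative (K ⧸ N) → DihedralTwo (K ⧸ N) → IsKnown (K ⧸ N)

/-! ### Transfer along isomorphisms, subgroups, quotients -/

theorem IsKnown.of_equiv {X : Type u} [Group X] {Y : Type v} [Group Y] (h : IsKnown X)
    (e : X ≃* Y) : IsKnown Y := by
  rcases h with ⟨F, iF, iF', h1, h2, ⟨f⟩⟩ | ⟨⟨f⟩⟩
  · exact Or.inl ⟨F, iF, iF', h1, h2, ⟨e.symm.trans f⟩⟩
  · exact Or.inr ⟨e.symm.trans f⟩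

theorem exists_sylow_equiv {X : Type u} [Group X] [Finite X] {Y : Type v} [Group Y] (e : X ≃* Y)
    (T : Sylow 2 Y) : ∃ S : Sylow 2 X, Nonempty ((S : Subgroup X) ≃* (T : Subgroup Y)) := by
  haveI : Fact (Nat.Prime 2) := ⟨Nat.prime_two⟩
  haveI : Finite Y := Finite.of_equiv X e.toEquiv
  obtain ⟨S, rfl⟩ := Sylow.mapSurjective_surjective (f := e.toMonoidHom) e.surjective 2 T
  exact ⟨S, ⟨(S : Subgroup X).equivMapOfInjective e.toMonoidHom e.injective⟩⟩

theorem DihedralTwo.of_equiv {X : Type u} [Group X] [Finite X] {Y : Type v} [Group Y]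
    (h : DihedralTwo X) (e : X ≃* Y) : DihedralTwo Y := by
  intro T
  obtain ⟨S, ⟨f⟩⟩ := exists_sylow_equiv e T
  obtain ⟨n, hn, ⟨g⟩⟩ := h S
  exact ⟨n, hn, ⟨f.symm.trans g⟩⟩

/-- The simple images of subgroups are known. -/
theorem KnownSections.known {X : Type u} [Group X] (h : KnownSections X) {Q : Type v} [Group Q]
    [Finite Q] (K : Subgroup X) (f : K →* Q) (hf : Function.Surjective f) (hs : IsSimpleGroup Q)
    (hna : ¬ IsMulCommutative Q) (hd : DihedralTwo Q) : IsKnown Q := by
  let e : K ⧸ f.ker ≃* Q := QuotientGroup.quotientKerEquivOfSurjective f hf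
  haveI : Finite (K ⧸ f.ker) := Finite.of_equiv Q e.symm.toEquiv
  refine (h K f.ker ?_ (fun hc => hna ?_) (hd.of_equiv e.symm)).of_equiv e
  · exact e.isSimpleGroup
  · exact ⟨⟨fun a b => e.symm.injective (by rw [map_mul, map_mul]; exact hc.is_comm.comm _ _)⟩⟩

theorem KnownSections.of_injective {X : Type u} [Group X] (h : KnownSections X) {Y : Type v}
    [Group Y] [Finite Y] (g : Y →* X) (hg : Function.Injective g) : KnownSections Y := by
  intro K N hN hs hna hd
  refine h.known (K.map g) ((QuotientGroup.mk' N).comp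
    (K.equivMapOfInjective g hg).symm.toMonoidHom) ?_ hs hna hd
  exact (QuotientGroup.mk'_surjective N).comp (K.equivMapOfInjective g hg).symm.surjective

theorem KnownSections.subgroup {X : Type u} [Group X] [Finite X] (h : KnownSections X)
    (L : Subgroup X) : KnownSections L :=
  h.of_injective L.subtype L.subtype_injective

theorem KnownSections.of_surjective {X : Type u} [Group X] [Finite X] (h : KnownSections X)
    {Y : Type v} [Group Y] (g : X →* Y) (hg : Function.Surjective g) : KnownSections Y := by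
  haveI : Finite Y := Finite.of_surjective g hg
  intro K N hN hs hna hd
  let g' : K.comap g →* K := (g.comp (K.comap g).subtype).codRestrict K (fun x => x.2)
  refine h.known (K.comap g) ((QuotientGroup.mk' N).comp g') ?_ hs hna hd
  refine (QuotientGroup.mk'_surjective N).comp ?_
  rintro ⟨y, hy⟩
  obtain ⟨x, rfl⟩ := hg y
  exact ⟨⟨x, hy⟩, rfl⟩

/-- A subgroup of a dihedral group is cyclic or dihedral. -/
theorem cyclic_or_dihedral_subgroup {n : ℕ} [NeZero n] (Q : Subgroup (DihedralGroup n)) :
    IsCyclic Q ∨ ∃ m : ℕ, 2 ≤ m ∧ Nonempty (Q ≃* DihedralGroup m) := by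
  open DihedralGroup in
  have hrot : ∀ b : ZMod n, r b ∈ Subgroup.zpowers (r (1 : ZMod n)) := fun b =>
    ⟨(b.val : ℤ), by
      show r (1 : ZMod n) ^ ((b.val : ℕ) : ℤ) = r b
      rw [r_one_zpow, Int.cast_natCast, ZMod.natCast_zmod_val]⟩
  by_cases hrefl : ∃ i, DihedralGroup.sr i ∈ Q
  swap
  · left
    refine Subgroup.isCyclic_of_le (H' := Subgroup.zpowers (DihedralGroup.r (1 : ZMod n))) ?_
    intro d hd
    rcases d with b | b
    · exact hrot b
    · exact absurd ⟨b, hd⟩ hrefl
  obtain ⟨i, hi⟩ := hrefl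
  set R := Q ⊓ Subgroup.zpowers (DihedralGroup.r (1 : ZMod n)) with hR
  haveI : IsCyclic R := Subgroup.isCyclic_of_le (inf_le_right : R ≤ _)
  obtain ⟨⟨g, hg⟩, hgen⟩ := IsCyclic.exists_generator (α := R)
  obtain ⟨a, rfl⟩ : ∃ a, g = DihedralGroup.r a := by
    obtain ⟨l, rfl⟩ := Subgroup.mem_zpowers_iff.mp hg.2
    exact ⟨(l : ZMod n), DihedralGroup.r_one_zpow l⟩
  set x := DihedralGroup.sr i with hx
  set y := DihedralGroup.sr (i + a) with hy
  have hxy : x * y = DihedralGroup.r a := by simp [hx, hy]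
  have hQ : Q = Subgroup.closure {x, y} := by
    have hxC : x ∈ Subgroup.closure {x, y} := Subgroup.subset_closure (Set.mem_insert _ _)
    have hyC : y ∈ Subgroup.closure {x, y} := Subgroup.subset_closure (Set.mem_insert_of_mem _ rfl)
    refine le_antisymm ?_ ((Subgroup.closure_le _).mpr ?_)
    · intro d hd
      have key : ∀ b, DihedralGroup.r b ∈ Q → DihedralGroup.r b ∈ Subgroup.closure {x, y} := by
        intro b hb
        obtain ⟨l, hl⟩ := Subgroup.mem_zpowers_iff.mp (hgen ⟨_, hb, hrot b⟩)
        have hl' : DihedralGroup.r a ^ l = DihedralGroup.r b := congrArg Subtype.val hl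
        rw [← hl', ← hxy]
        exact zpow_mem (mul_mem hxC hyC) l
      rcases d with b | b
      · exact key b hd
      · have h1 : x * DihedralGroup.sr b = DihedralGroup.r (b - i) := DihedralGroup.sr_mul_sr i b
        have h2 := key (b - i) (h1 ▸ Q.mul_mem hi hd)
        have h3 : DihedralGroup.sr b = x * DihedralGroup.r (b - i) := by simp [hx]
        rw [h3]
        exact mul_mem hxC h2
    · rintro d (rfl | rfl)
      · exact hi
      · have : y = x * DihedralGroup.r a := by simp [hx, hy]
        rw [this]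
        exact Q.mul_mem hi hg.1
  by_cases ha : a = 0
  · left
    rw [hQ, hy, ha, add_zero, ← hx, Set.pair_eq_singleton, ← Subgroup.zpowers_eq_closure]
    infer_instance
  · right
    have hne : x ≠ y := fun h => ha (add_eq_left.mp (DihedralGroup.sr.injEq _ _ ▸ h.symm))
    refine ⟨orderOf (x * y), ?_, ?_⟩
    · rw [hxy]
      refine Nat.succ_le_of_lt (lt_of_le_of_ne (orderOf_pos _) fun h => ha ?_)
      have := orderOf_eq_one_iff.mp h.symm
      exact DihedralGroup.r.inj (this.trans DihedralGroup.one_def)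
    · rw [hQ]
      exact S0206.result x y (DihedralGroup.orderOf_sr _) (DihedralGroup.orderOf_sr _) hne

theorem SubDihedral.of_injective {X : Type u} [Group X] [Finite X] (h : SubDihedral X)
    {Y : Type v} [Group Y] [Finite Y] (g : Y →* X) (hg : Function.Injective g) :
    SubDihedral Y := by
  intro T
  obtain ⟨S, hS⟩ := (T.2.map g).exists_le_sylow
  let j : (T : Subgroup Y) →* (S : Subgroup X) :=
    (g.comp (T : Subgroup Y).subtype).codRestrict S fun t => hS ⟨t, t.2, rfl⟩
  have hj : Function.Injective j := fun a b e => Subtype.ext (hg (congrArg Subtype.val e))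
  rcases h S with hc | ⟨n, hn, ⟨e⟩⟩
  · haveI := hc
    exact Or.inl (isCyclic_of_injective j hj)
  · haveI : NeZero n := ⟨by omega⟩
    let j' := e.toMonoidHom.comp j
    have hj' : Function.Injective j' := e.injective.comp hj
    rcases cyclic_or_dihedral_subgroup j'.range with hc | ⟨m, hm, ⟨f⟩⟩
    · exact Or.inl ((MonoidHom.ofInjective hj').isCyclic.mpr hc)
    · exact Or.inr ⟨m, hm, ⟨(MonoidHom.ofInjective hj').trans f⟩⟩

theorem SubDihedral.subgroup {X : Type u} [Group X] [Finite X] (h : SubDihedral X)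
    (L : Subgroup X) : SubDihedral L :=
  h.of_injective L.subtype L.subtype_injective

theorem SubDihedral.of_surjective {X : Type u} [Group X] [Finite X] (h : SubDihedral X)
    {Y : Type v} [Group Y] (f : X →* Y) (hf : Function.Surjective f)
    (hker : Odd (Nat.card f.ker)) : SubDihedral Y := by
  haveI : Fact (Nat.Prime 2) := ⟨Nat.prime_two⟩
  haveI : Finite Y := Finite.of_surjective f hf
  intro T
  obtain ⟨S, rfl⟩ := Sylow.mapSurjective_surjective hf 2 T
  have hinj : Function.Injective (f.comp (S : Subgroup X).subtype) := by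
    rw [injective_iff_map_eq_one]
    intro a ha
    have h1 : (a : X) ∈ f.ker := ha
    have h2 : orderOf (a : X) ∣ Nat.card f.ker := Subgroup.orderOf_dvd_natCard _ h1
    obtain ⟨k, hk⟩ := S.2 a
    have h3 : orderOf (a : X) ∣ 2 ^ k :=
      orderOf_dvd_of_pow_eq_one (by rw [← Subgroup.coe_pow, hk]; rfl)
    exact Subtype.ext (orderOf_eq_one_iff.mp
      (Nat.eq_one_of_dvd_coprimes ((Nat.coprime_two_right.mpr hker).pow_right k) h2 h3))
  let e : (S : Subgroup X) ≃* ((S.mapSurjective hf : Sylow 2 Y) : Subgroup Y) :=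
    (MonoidHom.ofInjective hinj).trans (MulEquiv.subgroupCongr (by
      rw [Sylow.coe_mapSurjective, MonoidHom.range_eq_map, ← Subgroup.map_map,
        ← MonoidHom.range_eq_map, Subgroup.range_subtype]))
  rcases h S with hc | ⟨n, hn, ⟨g⟩⟩
  · exact Or.inl (e.isCyclic.mp hc)
  · exact Or.inr ⟨n, hn, ⟨e.symm.trans g⟩⟩

theorem subDihedral_of_sylow {X : Type u} [Group X] [Finite X] (S : Sylow 2 X) {n : ℕ}
    (hn : 2 ≤ n) (e : (S : Subgroup X) ≃* DihedralGroup n) : SubDihedral X := by
  haveI : Fact (Nat.Prime 2) := ⟨Nat.prime_two⟩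
  exact fun T => Or.inr ⟨n, hn, ⟨(T.equiv S).trans e⟩⟩

/-- In the Gorenstein-Walter setting every subgroup has cyclic or dihedral Sylow 2-subgroups. -/
theorem Hyp.subDihedral {G : Type u} [Group G] [Finite G] {S : Sylow 2 G} {t : G} (hyp : Hyp S t)
    (H : Subgroup G) : SubDihedral H := by
  obtain ⟨n, hn, ⟨e⟩⟩ := hyp.dihedral
  exact (subDihedral_of_sylow S hn e).subgroup H

variable {X : Type u} [Group X] [Finite X]

/-- An element of 2-power order centralising a four group lies in it. -/
theorem SubDihedral.mem_four (hd : SubDihedral X) (V : Subgroup X) [IsKleinFour V] {z : X}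
    (hz : IsPGroup 2 (zpowers z)) (hc : z ∈ centralizer (V : Set X)) : z ∈ V := by
  classical
  haveI : Fact (Nat.Prime 2) := ⟨Nat.prime_two⟩
  have hV : IsPGroup 2 V := IsPGroup.of_card (n := 2) (by rw [IsKleinFour.card_four]; norm_num)
  obtain ⟨S, hS⟩ := (hV.to_sup_of_normal_left' hz
    ((zpowers_le.mpr hc).trans (centralizer_le_normalizer _))).exists_le_sylow
  have hVS : V ≤ (S : Subgroup X) := le_sup_left.trans hS
  have hzS : z ∈ (S : Subgroup X) := hS (mem_sup_right (mem_zpowers z))
  have hsq : ∀ v ∈ V, v * v = 1 := fun v hv => by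
    have := congrArg Subtype.val (IsKleinFour.mul_self (⟨v, hv⟩ : V))
    simpa using this
  rcases hd S with hcyc | ⟨n, hn, ⟨e⟩⟩
  · exfalso
    haveI := hcyc
    haveI : IsCyclic V := isCyclic_of_injective (inclusion hVS) (inclusion_injective hVS)
    exact IsKleinFour.not_isCyclic (G := V) inferInstance
  haveI : NeZero n := ⟨by omega⟩
  obtain ⟨φ, hφ⟩ := DihedralSylow.exists_embeds e
  set U := V.comap φ with hU
  have hmap : U.map φ = V := map_comap_eq_self (by rw [hφ.range]; exact hVS)
  have hcardU : Nat.card U = 4 := by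
    have := card_map_of_injective (K := U) hφ.inj
    rw [hmap, IsKleinFour.card_four] at this
    exact this.symm
  have hsqU : ∀ d ∈ U, d * d = 1 := fun d hd => hφ.inj (by rw [map_mul, map_one]; exact hsq _ hd)
  obtain ⟨i, hi⟩ : ∃ i, DihedralGroup.sr i ∈ U := by
    by_contra hno
    have hsub : ∀ d ∈ U, d = 1 ∨ d = DihedralGroup.r (DihedralSylow.half n) := by
      intro d hd
      rcases d with b | b
      · have := hsqU _ hd
        rw [DihedralGroup.r_mul_r, DihedralGroup.one_def, DihedralGroup.r.injEq] at this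
        rcases DihedralSylow.eq_zero_or_half this with h | h
        · exact Or.inl (by rw [h]; rfl)
        · exact Or.inr (by rw [h])
      · exact absurd ⟨b, hd⟩ hno
    have hle : Nat.card U ≤ Nat.card ({1, DihedralGroup.r (DihedralSylow.half n)} :
        Set (DihedralGroup n)) := Nat.card_mono (Set.toFinite _) (fun d hd => by simpa using hsub d hd)
    have h2 : Nat.card ({1, DihedralGroup.r (DihedralSylow.half n)} : Set (DihedralGroup n)) ≤ 2 := by
      rw [Nat.card_coe_set_eq]; exact (Set.ncard_insert_le _ _).trans (by simp)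
    omega
  -- the centraliser of a reflection has at most 4 elements
  set T : Set (DihedralGroup n) := {1, DihedralGroup.r (DihedralSylow.half n), DihedralGroup.sr i,
    DihedralGroup.sr (i + DihedralSylow.half n)} with hT
  have hcent : ∀ d, Commute d (DihedralGroup.sr i) → d ∈ T := by
    intro d hd
    rcases d with b | b
    · have := hd.eq
      rw [DihedralGroup.r_mul_sr, DihedralGroup.sr_mul_r, DihedralGroup.sr.injEq] at this
      rcases DihedralSylow.eq_zero_or_half (by linear_combination -this : b + b = 0) with h | h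
      · left; rw [h]; rfl
      · right; left; rw [h]
    · have := hd.eq
      rw [DihedralGroup.sr_mul_sr, DihedralGroup.sr_mul_sr, DihedralGroup.r.injEq] at this
      rcases DihedralSylow.eq_zero_or_half (by linear_combination -this : (b - i) + (b - i) = 0) with h | h
      · right; right; left; rw [sub_eq_zero.mp h]
      · right; right; right
        rw [Set.mem_singleton_iff, DihedralGroup.sr.injEq]
        exact (sub_eq_iff_eq_add'.mp h)
  have hUT : (U : Set (DihedralGroup n)) ⊆ T := by
    intro d hd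
    refine hcent d (hφ.inj ?_)
    rw [map_mul, map_mul]
    exact congrArg Subtype.val
      ((IsKleinFour.isMulCommutative (G := V)).is_comm.comm ⟨φ d, hd⟩ ⟨_, hi⟩)
  have hTcard : T.ncard ≤ 4 := by
    refine (Set.ncard_insert_le _ _).trans ?_
    refine Nat.succ_le_succ ((Set.ncard_insert_le _ _).trans ?_)
    refine Nat.succ_le_succ ((Set.ncard_insert_le _ _).trans ?_)
    simp
  have hUeq : (U : Set (DihedralGroup n)) = T :=
    Set.eq_of_subset_of_ncard_le hUT (by rw [← Nat.card_coe_set_eq]; exact hTcard.trans hcardU.ge)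
      (Set.toFinite _)
  obtain ⟨d, rfl⟩ := hφ.exists_preimage hzS
  have : d ∈ (U : Set (DihedralGroup n)) := by
    rw [hUeq]
    refine hcent d (hφ.inj ?_)
    rw [map_mul, map_mul]
    exact (mem_centralizer_iff.mp hc _ hi).symm
  exact this

/-- If two elements of order 2 commute they lie in a four group inside any subgroup containing
them. -/
theorem exists_four_of_commute {a b : X} (ha : orderOf a = 2) (hb : orderOf b = 2)
    (hab : a * b = b * a) (hne : a ≠ b) {L : Subgroup X} (haL : a ∈ L) (hbL : b ∈ L) :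
    ∃ V : Subgroup X, IsKleinFour V ∧ V ≤ L ∧ a ∈ V ∧ b ∈ V := by
  have ha2 : a * a = 1 := by rw [← pow_two, ← ha]; exact pow_orderOf_eq_one a
  have hb2 : b * b = 1 := by rw [← pow_two, ← hb]; exact pow_orderOf_eq_one b
  have ha1 : a ≠ 1 := fun h => by rw [h, orderOf_one] at ha; omega
  have hb1 : b ≠ 1 := fun h => by rw [h, orderOf_one] at hb; omega
  have hab1 : a * b ≠ 1 := fun h => hne (by
    rw [← inv_eq_of_mul_eq_one_right h, inv_eq_of_mul_eq_one_right ha2])
  have hba : b * a = a * b := hab.symm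
  have hA : ∀ c : X, a * (a * c) = c := fun c => by rw [← mul_assoc, ha2, one_mul]
  have hB : ∀ c : X, b * (b * c) = c := fun c => by rw [← mul_assoc, hb2, one_mul]
  have hBA : ∀ c : X, b * (a * c) = a * (b * c) := fun c => by rw [← mul_assoc, hba, mul_assoc]
  let V : Subgroup X :=
    { carrier := {1, a, b, a * b}
      one_mem' := Or.inl rfl
      mul_mem' := by
        rintro x y (rfl | rfl | rfl | rfl) (rfl | rfl | rfl | rfl) <;>
          simp [Set.mem_insert_iff, ha2, hb2, hA, hB, hBA, hba, mul_assoc]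
      inv_mem' := by
        rintro x (rfl | rfl | rfl | rfl) <;>
          simp [inv_eq_of_mul_eq_one_right ha2, inv_eq_of_mul_eq_one_right hb2, hba] }
  have hVsq : ∀ v ∈ V, v * v = 1 := by
    rintro v (rfl | rfl | rfl | rfl)
    · exact one_mul 1
    · exact ha2
    · exact hb2
    · rw [mul_assoc, hBA, hb2, mul_one, ha2]
  have hcard : Nat.card V = 4 := by
    show Nat.card ({1, a, b, a * b} : Set X) = 4
    rw [Nat.card_coe_set_eq]
    classical
    rw [Set.ncard_insert_of_notMem _ (Set.toFinite _),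
      Set.ncard_insert_of_notMem _ (Set.toFinite _),
      Set.ncard_insert_of_notMem _ (Set.toFinite _), Set.ncard_singleton]
    · simp only [Set.mem_singleton_iff]
      intro h; exact ha1 (mul_eq_right.mp h.symm)
    · simp only [Set.mem_insert_iff, Set.mem_singleton_iff, not_or]
      exact ⟨hne, fun h => hb1 (mul_eq_left.mp h.symm)⟩
    · simp only [Set.mem_insert_iff, Set.mem_singleton_iff, not_or]
      exact ⟨ha1.symm, hb1.symm, hab1.symm⟩
  refine ⟨V, ⟨hcard, ?_⟩, ?_, Or.inr (Or.inl rfl), Or.inr (Or.inr (Or.inl rfl))⟩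
  · haveI : Nontrivial V := Finite.one_lt_card_iff_nontrivial.mp (by rw [hcard]; norm_num)
    refine (Monoid.exponent_eq_prime_iff Nat.prime_two).mpr fun v hv => ?_
    exact orderOf_eq_prime (Subtype.ext (by rw [pow_two]; exact hVsq v v.2)) hv
  · rintro v (rfl | rfl | rfl | rfl)
    exacts [one_mem L, haL, hbL, mul_mem haL hbL]

omit [Finite X] in
theorem isKleinFour_map {Y : Type v} [Group Y] (f : X →* Y) (hf : Function.Injective f)
    (V : Subgroup X) [hV : IsKleinFour V] : IsKleinFour (V.map f : Subgroup Y) :=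
  ⟨by rw [card_map_of_injective hf, hV.card_four],
    by rw [← Monoid.exponent_eq_of_mulEquiv (V.equivMapOfInjective f hf)]; exact hV.exponent_two⟩

/-- A group with a noncyclic Sylow 2-subgroup in the dihedral case has a four group. -/
theorem SubDihedral.exists_four (hd : SubDihedral X) (S : Sylow 2 X)
    (hS : ¬ IsCyclic (S : Subgroup X)) : ∃ V : Subgroup X, IsKleinFour V ∧ V ≤ (S : Subgroup X) := by
  rcases hd S with hc | ⟨n, hn, ⟨e⟩⟩
  · exact absurd hc hS
  haveI : NeZero n := ⟨by omega⟩
  obtain ⟨k, hk⟩ := DihedralSylow.exists_two_pow e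
  obtain ⟨φ, hφ⟩ := DihedralSylow.exists_embeds e
  have h2 : 2 ∣ n := by
    rcases k with _ | k
    · rw [pow_zero] at hk; omega
    · exact ⟨2 ^ k, by rw [hk, pow_succ']⟩
  exact ⟨_, hφ.isKleinFour_map h2 0, fun x ⟨d, _, hd⟩ => hd ▸ hφ.mem d⟩

/-- A group without nontrivial normal odd subgroup having a normal 2-complement is a 2-group. -/
theorem isPGroup_of_complement (h : Cfsg.HasNormalPComplement 2 X) (hO : Cfsg.oddCore X = ⊥) :
    IsPGroup 2 X := by
  haveI : Fact (Nat.Prime 2) := ⟨Nat.prime_two⟩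
  obtain ⟨P, N, hN, hc⟩ := h
  haveI := hN
  have : N = ⊥ := le_bot_iff.mp (hO ▸ PCore.le_oddCore (Nat.coprime_two_right.mp
    (Transfer.coprime_card_of_isComplement'_sylow P hc)))
  subst this
  rw [Subgroup.isComplement'_bot_left] at hc
  exact PCore.isPGroup_top_iff.mp (hc ▸ P.2)

/-- A cyclic Sylow 2-subgroup gives a normal 2-complement. -/
theorem hasNormalPComplement_of_cyclic_two (S : Sylow 2 X) (hS : IsCyclic (S : Subgroup X)) :
    Cfsg.HasNormalPComplement 2 X := by
  haveI : Fact (Nat.Prime 2) := ⟨Nat.prime_two⟩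
  by_cases h2 : 2 ∣ Nat.card X
  · have hmin : (Nat.card X).minFac = 2 := (Nat.minFac_eq_two_iff _).mpr h2
    exact ⟨S, _, inferInstance,
      MonoidHom.ker_transferSylow_isComplement' S (hS.normalizer_le_centralizer (p := 2) hmin)⟩
  · exact Transfer.hasNormalPComplement_of_not_dvd h2

theorem isPGroup_of_cyclic_two (S : Sylow 2 X) (hS : IsCyclic (S : Subgroup X))
    (hO : Cfsg.oddCore X = ⊥) : IsPGroup 2 X :=
  isPGroup_of_complement (hasNormalPComplement_of_cyclic_two S hS) hO

/-- An involution that is central gives a normal 2-complement. -/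
theorem isPGroup_of_central_invol (hd : SubDihedral X) (hO : Cfsg.oddCore X = ⊥) {z : X}
    (hz : orderOf z = 2) (hc : z ∈ center X) : IsPGroup 2 X := by
  haveI : Fact (Nat.Prime 2) := ⟨Nat.prime_two⟩
  obtain ⟨S⟩ := (inferInstance : Nonempty (Sylow 2 X))
  rcases hd S with hcyc | ⟨n, hn, he⟩
  · exact isPGroup_of_cyclic_two S hcyc hO
  obtain ⟨N, hN, hodd, k, hk⟩ := S0514.result S n hn he z hz
  have hC : centralizer ({z} : Set X) = ⊤ := by
    rw [eq_top_iff']
    exact fun g => mem_centralizer_singleton_iff.mpr (mem_center_iff.mp hc g)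
  let e : centralizer ({z} : Set X) ≃* X := (MulEquiv.subgroupCongr hC).trans topEquiv
  have hN' : (N.map e.toMonoidHom).Normal := hN.map _ e.surjective
  haveI := hN'
  have hbot : N.map e.toMonoidHom = ⊥ := le_bot_iff.mp (hO ▸ PCore.le_oddCore (by
    rwa [card_map_of_injective e.injective]))
  rw [map_eq_bot_iff_of_injective _ e.injective] at hbot
  rw [hbot, index_bot, Nat.card_congr e.toEquiv] at hk
  exact IsPGroup.of_card hk

/-- A subgroup with a four group inside its centre has that four group as its 2-part. -/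
theorem hasNormalPComplement_centralizer_four (hd : SubDihedral X) (V : Subgroup X)
    [IsKleinFour V] : Cfsg.HasNormalPComplement 2 (centralizer (V : Set X)) := by
  haveI : Fact (Nat.Prime 2) := ⟨Nat.prime_two⟩
  obtain ⟨T⟩ := (inferInstance : Nonempty (Sylow 2 (centralizer (V : Set X))))
  refine ⟨T, _, inferInstance, MonoidHom.ker_transferSylow_isComplement' T (fun g _ => ?_)⟩
  refine mem_centralizer_iff.mpr fun s hs => Subtype.ext ?_
  have hsV : (s : X) ∈ V := hd.mem_four V (by
    rw [← coe_subtype (centralizer (V : Set X)), ← MonoidHom.map_zpowers]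
    exact (T.2.to_le (zpowers_le.mpr hs)).map _) s.2
  exact mem_centralizer_iff.mp g.2 _ hsV

/-! ### The structure theorem -/

/-- A minimal normal subgroup is nonabelian simple when `O₂` and the odd core are trivial. -/
theorem SubDihedral.simple_normal (hd : SubDihedral X) (hk : KnownSections X)
    (hO : Cfsg.oddCore X = ⊥) (h2 : Cfsg.pCore 2 X = ⊥) [Nontrivial X] :
    ∃ E : Subgroup X, E.Normal ∧ IsSimpleGroup E ∧ IsKnown E ∧
      centralizer (E : Set X) = ⊥ := by
  haveI : Fact (Nat.Prime 2) := ⟨Nat.prime_two⟩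
  obtain ⟨N, hN, -, hN1, hmin⟩ := Solvable.exists_minimal_normal (K := (⊤ : Subgroup X))
    (bot_lt_top (α := Subgroup X)).ne'
  haveI := hN
  have hON : Cfsg.oddCore N = ⊥ := PCore.pPrimeCore_eq_bot_of_normal N hO
  have h2N : Cfsg.pCore 2 N = ⊥ := PCore.pCore_eq_bot_of_normal N h2
  haveI : Nontrivial N := (nontrivial_iff_ne_bot N).mpr hN1
  -- every nontrivial normal subgroup of `N` contains a four group
  have hfour : ∀ M : Subgroup N, M.Normal → M ≠ ⊥ →
      ∃ V : Subgroup X, IsKleinFour V ∧ V ≤ M.map N.subtype := by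
    intro M hM hM1
    haveI := hM
    have hOM : Cfsg.oddCore M = ⊥ := PCore.pPrimeCore_eq_bot_of_normal M hON
    have h2M : Cfsg.pCore 2 M = ⊥ := PCore.pCore_eq_bot_of_normal M h2N
    obtain ⟨T⟩ := (inferInstance : Nonempty (Sylow 2 M))
    have hT : ¬ IsCyclic (T : Subgroup M) := by
      intro hc
      have h := PCore.pCore_eq_top_of_isPGroup (isPGroup_of_cyclic_two T hc hOM)
      rw [h2M] at h
      haveI : Nontrivial M := (nontrivial_iff_ne_bot M).mpr hM1
      exact bot_ne_top h
    obtain ⟨V, hV, -⟩ := ((hd.subgroup N).subgroup M).exists_four T hT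
    exact ⟨V.map (N.subtype.comp M.subtype),
      (haveI := hV
      isKleinFour_map (N.subtype.comp M.subtype)
        (fun a b h => M.subtype_injective (N.subtype_injective h)) V),
      fun x ⟨v, _, hv⟩ => hv ▸ ⟨(v : N), v.2, rfl⟩⟩
  -- nothing of even order commutes with a four group outside it
  have hcomm : ∀ (V W : Subgroup X), IsKleinFour V → IsKleinFour W → V ⊓ W = ⊥ →
      W ≤ centralizer (V : Set X) → False := by
    intro V W hV hW hdis hWV
    have h4 : 1 < Nat.card W := by rw [hW.card_four]; norm_num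
    obtain ⟨w, hw, hw1⟩ := (W.one_lt_card_iff_ne_bot.mp h4 |> fun h => (W.ne_bot_iff_exists_ne_one).mp h)
      |> fun ⟨w, hw⟩ => (⟨w.1, w.2, fun h => hw (Subtype.ext h)⟩ : ∃ w, w ∈ W ∧ w ≠ 1)
    refine hw1 ((Subgroup.eq_bot_iff_forall _).mp hdis w ⟨?_, hw⟩)
    exact hd.mem_four V ((IsPGroup.of_card (n := 2) (G := W) (by rw [hW.card_four]; norm_num)).to_le
      (zpowers_le.mpr hw)) (hWV hw)
  obtain ⟨M, hM, -, hM1, hminM⟩ := Solvable.exists_minimal_normal (G := N) (K := (⊤ : Subgroup N))
    (bot_lt_top (α := Subgroup N)).ne'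
  haveI := hM
  have hMtop : M = ⊤ := by
    by_contra hne
    set M' := M.map N.subtype with hM'
    have hlt : M' ≠ N := by
      intro h
      apply hne
      apply map_injective N.subtype_injective
      rw [← hM', h, ← MonoidHom.range_eq_map, range_subtype]
    have hnn : ¬ M'.Normal := by
      intro h
      rcases hmin M' h (map_subtype_le M) with h1 | h1
      · exact hM1 ((map_eq_bot_iff_of_injective _ N.subtype_injective).mp h1)
      · exact hlt h1
    obtain ⟨g, hg⟩ : ∃ g : X, M'.map (MulAut.conj g).toMonoidHom ≠ M' := by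
      by_contra hall
      simp only [not_exists, not_not] at hall
      exact hnn ⟨fun x hx g => by
        have h1 : MulAut.conj g x ∈ M'.map (MulAut.conj g).toMonoidHom := ⟨x, hx, rfl⟩
        rwa [hall g] at h1⟩
    set c : MulAut N := MulAut.conjNormal g with hc
    set L := M.map c.toMonoidHom with hL
    haveI hLn : L.Normal := hM.map _ c.surjective
    have hLM : L.map N.subtype = M'.map (MulAut.conj g).toMonoidHom := by
      rw [hL, hM', map_map, map_map]
      congr 1
    have hdis : M ⊓ L = ⊥ := by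
      rcases hminM (M ⊓ L) inferInstance inf_le_left with h | h
      · exact h
      · exfalso
        have hle : M ≤ L := inf_eq_left.mp h
        have : M = L := eq_of_le_of_card_ge hle
          (le_of_eq (card_map_of_injective (K := M) (f := c.toMonoidHom) c.injective))
        exact hg (by rw [← hLM, ← this])
    have hL1 : L ≠ ⊥ := by
      exact fun h => hM1 ((map_eq_bot_iff_of_injective M (f := c.toMonoidHom) c.injective).mp h)
    obtain ⟨V, hV, hVM⟩ := hfour M hM hM1
    obtain ⟨W, hW, hWL⟩ := hfour L hLn hL1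
    refine hcomm V W hV hW (le_bot_iff.mp fun x hx => ?_) fun w hw => mem_centralizer_iff.mpr ?_
    · obtain ⟨⟨a, haN⟩, ha, rfl⟩ := hVM hx.1
      obtain ⟨b, hb, hb'⟩ := hWL hx.2
      obtain rfl : b = ⟨a, haN⟩ := N.subtype_injective hb'
      have : (⟨a, haN⟩ : N) ∈ M ⊓ L := ⟨ha, hb⟩
      rw [hdis, mem_bot] at this
      exact mem_bot.mpr (congrArg Subtype.val this)
    · intro v hv
      obtain ⟨a, ha, rfl⟩ := hVM hv
      obtain ⟨b, hb, rfl⟩ := hWL hw
      exact congrArg Subtype.val (PCore.commute_of_normal_of_disjoint hM hLn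
        (disjoint_iff.mpr hdis) ha hb)
  haveI hsimple : IsSimpleGroup N := ⟨fun K hK => by
    rcases hminM K hK (hMtop ▸ le_top) with h | h
    · exact Or.inl h
    · exact Or.inr (h.trans hMtop)⟩
  have hna : ¬ IsMulCommutative N := by
    intro hc
    have := hfour ⊤ inferInstance top_ne_bot
    obtain ⟨V, hV, hVN⟩ := this
    rw [← MonoidHom.range_eq_map, range_subtype] at hVN
    -- an abelian simple group has prime order
    haveI : IsMulCommutative N := hc
    let VN : Subgroup N := V.subgroupOf N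
    have hVNn : VN.Normal := ⟨fun x hx y => by
      have : y * x * y⁻¹ = x := by rw [hc.is_comm.comm y x, mul_inv_cancel_right]
      rw [this]; exact hx⟩
    have hcard : Nat.card VN = 4 := by
      rw [Nat.card_congr (subgroupOfEquivOfLe hVN).toEquiv, hV.card_four]
    rcases hsimple.eq_bot_or_eq_top_of_normal VN hVNn with h | h
    · rw [h, card_bot] at hcard; omega
    · have hp : IsPGroup 2 N := IsPGroup.of_card (n := 2) (by
        rw [← card_top (G := N), ← h, hcard]; norm_num)
      have := PCore.pCore_eq_top_of_isPGroup hp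
      rw [h2N] at this
      exact bot_ne_top this
  have hdN : DihedralTwo N := by
    intro T
    rcases hd.subgroup N T with hc | h
    · exfalso
      have := PCore.pCore_eq_top_of_isPGroup (isPGroup_of_cyclic_two T hc hON)
      rw [h2N] at this
      exact bot_ne_top this
    · exact h
  refine ⟨N, hN, hsimple, hk.known N (MonoidHom.id N) Function.surjective_id hsimple hna hdN, ?_⟩
  -- the centraliser is odd, hence trivial
  set C := centralizer (N : Set X) with hC
  haveI : C.Normal := Subgroup.normal_centralizer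
  obtain ⟨V, hV, hVN⟩ := hfour ⊤ inferInstance top_ne_bot
  rw [← MonoidHom.range_eq_map, range_subtype] at hVN
  have hCN : ∀ x ∈ C, x ∈ N → x = 1 := by
    intro x hx hxN
    have hz : (⟨x, hxN⟩ : N) ∈ center N :=
      mem_center_iff.mpr fun g => Subtype.ext (mem_centralizer_iff.mp hx g g.2)
    rcases hsimple.eq_bot_or_eq_top_of_normal (center N) inferInstance with h | h
    · rw [h, mem_bot] at hz
      exact congrArg Subtype.val hz
    · exact absurd ⟨⟨fun a b => (mem_center_iff.mp (h ▸ mem_top b) a)⟩⟩ hna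
  refine le_bot_iff.mp (hO ▸ PCore.le_oddCore (Nat.not_even_iff_odd.mp fun heven => ?_))
  obtain ⟨⟨z, hzC⟩, hz⟩ := exists_prime_orderOf_dvd_card' 2 heven.two_dvd
  rw [orderOf_mk] at hz
  have hzV : z ∈ V := hd.mem_four V (IsPGroup.of_card (n := 1) (by
    rw [Nat.card_zpowers, hz, pow_one])) (centralizer_le hVN hzC)
  rw [hCN z hzC (hVN hzV), orderOf_one] at hz
  omega

/-- The case of a nontrivial `O₂`. -/
theorem SubDihedral.small_of_pCore_ne_bot (hd : SubDihedral X) (hO : Cfsg.oddCore X = ⊥)
    (h2 : Cfsg.pCore 2 X ≠ ⊥) :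
    IsPGroup 2 X ∨ Nonempty (X ≃* alternatingGroup (Fin 4)) ∨
      Nonempty (X ≃* Equiv.Perm (Fin 4)) := by
  classical
  haveI : Fact (Nat.Prime 2) := ⟨Nat.prime_two⟩
  obtain ⟨V, hV, hVR, hV1, hmin⟩ := Solvable.exists_minimal_normal h2
  haveI := hV
  have hV2 : IsPGroup 2 V := PCore.isPGroup_pCore.to_le hVR
  haveI : Group.IsNilpotent V := hV2.isNilpotent
  haveI hcV := Solvable.isMulCommutative_of_minimal (N := V) inferInstance hV1 hmin
  obtain ⟨p, hp, hpow, hpV⟩ := Solvable.exists_prime_of_minimal hV1 hmin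
  obtain ⟨a, haV, ha1⟩ := (Subgroup.ne_bot_iff_exists_ne_one.mp hV1) |>
    fun ⟨w, hw⟩ => (⟨w.1, w.2, fun h => hw (Subtype.ext h)⟩ : ∃ w, w ∈ V ∧ w ≠ 1)
  obtain rfl : p = 2 := by
    obtain ⟨k, hk⟩ := hV2 ⟨a, haV⟩
    have h1 : orderOf a ∣ 2 ^ k :=
      orderOf_dvd_of_pow_eq_one (by have := congrArg Subtype.val hk; simpa using this)
    haveI := Fact.mk hp
    rw [orderOf_eq_prime (hpow a haV) ha1] at h1
    exact (Nat.prime_dvd_prime_iff_eq hp Nat.prime_two).mp (hp.dvd_of_dvd_pow h1)
  have ha : orderOf a = 2 := orderOf_eq_prime (hpow a haV) ha1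
  by_cases hb : ∃ b ∈ V, b ≠ 1 ∧ b ≠ a
  swap
  · -- `V = ⟨a⟩` is central
    refine Or.inl (isPGroup_of_central_invol hd hO ha (mem_center_iff.mpr fun g => ?_))
    have h1 : g * a * g⁻¹ ∈ V := hV.conj_mem a haV g
    have h2 : g * a * g⁻¹ = a := by
      by_contra hne
      exact hb ⟨_, h1, fun h => ha1 (conj_eq_one_iff.mp h), hne⟩
    exact mul_inv_eq_iff_eq_mul.mp h2
  obtain ⟨b, hbV, hb1, hba⟩ := hb
  obtain ⟨W, hW, hWV, haW, hbW⟩ := exists_four_of_commute ha (orderOf_eq_prime (hpow b hbV) hb1)
    (congrArg Subtype.val (hcV.is_comm.comm (⟨a, haV⟩ : V) ⟨b, hbV⟩)) hba.symm haV hbV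
  obtain rfl : W = V := le_antisymm hWV fun x hx => hd.mem_four W
    (hV2.to_le (zpowers_le.mpr hx)) (mem_centralizer_iff.mpr fun w hw =>
      congrArg Subtype.val (hcV.is_comm.comm (⟨w, hWV hw⟩ : V) ⟨x, hx⟩))
  haveI := hW
  -- `C(V) = V`
  haveI : (centralizer (W : Set X)).Normal := Subgroup.normal_centralizer
  have hCV : centralizer (W : Set X) ≤ W := by
    have hp2 := isPGroup_of_complement (hasNormalPComplement_centralizer_four hd W)
      (PCore.pPrimeCore_eq_bot_of_normal _ hO)
    exact fun x hx => hd.mem_four W (hp2.to_le (zpowers_le.mpr hx)) hx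
  have h24 : Nat.card X ∣ 24 := by
    have := DihedralCentTools.card_normalizer_dvd (E := W) hW.card_four hCV
    rwa [normalizer_eq_top (H := W), card_top] at this
  by_cases h3 : 3 ∣ Nat.card X
  swap
  · left
    have h8 : Nat.card X ∣ 2 ^ 3 :=
      (Nat.Coprime.dvd_of_dvd_mul_right ((Nat.prime_three.coprime_iff_not_dvd.mpr h3).symm)
        (by simpa using h24 : Nat.card X ∣ 2 ^ 3 * 3))
    obtain ⟨k, -, hk⟩ := (Nat.dvd_prime_pow Nat.prime_two).mp h8
    exact IsPGroup.of_card hk
  right
  haveI : Fact (Nat.Prime 3) := ⟨Nat.prime_three⟩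
  obtain ⟨P⟩ := (inferInstance : Nonempty (Sylow 3 X))
  have h4 : 4 ∣ Nat.card X := by
    have := card_subgroup_dvd_card W
    rwa [hW.card_four] at this
  have h12 : 12 ∣ Nat.card X := Nat.Coprime.mul_dvd_of_dvd_of_dvd (by norm_num : Nat.Coprime 4 3) h4 h3
  have hcardX : Nat.card X = 12 ∨ Nat.card X = 24 := by
    obtain ⟨c, hc⟩ := h12
    rw [hc] at h24
    have : c ∣ 2 := Nat.dvd_of_mul_dvd_mul_left (by norm_num : 0 < 12) (by simpa using h24)
    rcases (Nat.dvd_prime Nat.prime_two).mp this with rfl | rfl <;> omega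
  have hP1 : ∀ x ∈ (P : Subgroup X), x ∈ W → x = 1 := fun x hxP hxW => by
    have hdis := disjoint_iff.mp (IsPGroup.disjoint_of_ne 2 3 (by norm_num) W (P : Subgroup X) hV2 P.2)
    exact (Subgroup.eq_bot_iff_forall _).mp hdis x ⟨hxW, hxP⟩
  have hnorm : ¬ W ≤ normalizer ((P : Subgroup X) : Set X) := by
    intro hle
    obtain ⟨y, hy⟩ := exists_prime_orderOf_dvd_card' (G := X) 3 h3
    obtain ⟨Q, hQ⟩ := (IsPGroup.of_card (p := 3) (n := 1) (G := zpowers y)
      (by rw [Nat.card_zpowers, hy, pow_one])).exists_le_sylow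
    obtain ⟨g, hg⟩ := MulAction.exists_smul_eq X Q P
    have hxP : g * y * g⁻¹ ∈ (P : Subgroup X) := by
      rw [← hg, Sylow.coe_subgroup_smul]
      exact smul_mem_pointwise_smul y (MulAut.conj g) _ (hQ (mem_zpowers y))
    have hxC : g * y * g⁻¹ ∈ centralizer (W : Set X) := mem_centralizer_iff.mpr fun w hw => by
      set x := g * y * g⁻¹
      have h1 : w * x * w⁻¹ * x⁻¹ ∈ (P : Subgroup X) :=
        mul_mem ((mem_normalizer_iff.mp (hle hw) x).mp hxP) (inv_mem hxP)
      have h2 : w * x * w⁻¹ * x⁻¹ ∈ W := by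
        have := mul_mem hw (hV.conj_mem _ (inv_mem hw) x)
        simpa [mul_assoc] using this
      exact mul_inv_eq_iff_eq_mul.mp (mul_inv_eq_one.mp (hP1 _ h1 h2))
    have h5 := hP1 _ hxP (hCV hxC)
    rw [conj_eq_one_iff.mp h5, orderOf_one] at hy
    omega
  have hidx : (normalizer ((P : Subgroup X) : Set X)).index = 4 := by
    have hn3 : Nat.card (Sylow 3 X) % 3 = 1 := by
      have := card_sylow_modEq_one 3 X
      rw [Nat.ModEq] at this; omega
    rw [show (normalizer ((P : Subgroup X) : Set X)).index = Nat.card (Sylow 3 X) from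
      P.card_eq_index_normalizer.symm]
    have hdvd : Nat.card (Sylow 3 X) ∣ 8 := by
      refine P.card_dvd_index.trans ?_
      obtain ⟨k, hk⟩ := IsPGroup.iff_card.mp P.2
      have h1 := (P : Subgroup X).card_mul_index
      have h3' : ¬ 3 ∣ (P : Subgroup X).index := P.not_dvd_index
      have : (P : Subgroup X).index ∣ 2 ^ 3 * 3 := by
        refine (Dvd.intro_left _ h1).trans ?_
        simpa using h24
      simpa using Nat.Coprime.dvd_of_dvd_mul_right
        ((Nat.prime_three.coprime_iff_not_dvd.mpr h3').symm) this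
    have hle := Nat.le_of_dvd (by norm_num) hdvd
    have hne1 : Nat.card (Sylow 3 X) ≠ 1 := by
      intro h1
      rw [P.card_eq_index_normalizer, index_eq_one] at h1
      exact hnorm (h1 ▸ le_top)
    interval_cases Nat.card (Sylow 3 X) <;> simp_all
  set H := normalizer ((P : Subgroup X) : Set X) with hH
  have hcore : H.normalCore = ⊥ := by
    have hKW : H.normalCore ⊓ W = ⊥ := by
      rcases hmin (H.normalCore ⊓ W) inferInstance inf_le_right with h | h
      · exact h
      · exact absurd ((inf_eq_right.mp h).trans (normalCore_le H)) hnorm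
    refine le_bot_iff.mp (hKW ▸ le_inf le_rfl fun x hx => hCV ?_)
    exact mem_centralizer_iff.mpr fun w hw => (PCore.commute_of_normal_of_disjoint
      H.normalCore_normal hV (disjoint_iff.mpr hKW) hx hw).symm
  rcases hcardX with h12' | h24'
  swap
  · exact Or.inr (DihedralCentTools.nonempty_mulEquiv_perm H hidx
      (by rw [h24']; rfl) hcore)
  left
  haveI : Fintype (X ⧸ H) := Fintype.ofFinite _
  obtain ⟨σ⟩ : Nonempty ((X ⧸ H) ≃ Fin 4) :=
    ⟨Finite.equivFinOfCardEq (by rw [← index_eq_card, hidx])⟩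
  set f : X →* Equiv.Perm (Fin 4) :=
    σ.permCongrHom.toMonoidHom.comp (MulAction.toPermHom X (X ⧸ H))
  have hf : Function.Injective f := by
    refine σ.permCongrHom.injective.comp ?_
    rw [← MonoidHom.ker_eq_bot_iff, ← normalCore_eq_ker, hcore]
  have hfidx : f.range.index = 2 := by
    have h1 := f.range.card_mul_index
    rw [Nat.card_congr (MonoidHom.ofInjective hf).symm.toEquiv, h12', Nat.card_perm,
      Nat.card_eq_fintype_card, Fintype.card_fin] at h1
    simp [Nat.factorial] at h1
    omega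
  exact ⟨(MonoidHom.ofInjective hf).trans
    (MulEquiv.subgroupCongr (Equiv.Perm.eq_alternatingGroup_of_index_eq_two hfidx))⟩

/-- **Structure theorem**, the core-free form. -/
theorem structure_of_oddCore_eq_bot (hd : SubDihedral X) (hk : KnownSections X)
    (hO : Cfsg.oddCore X = ⊥) :
    IsPGroup 2 X ∨ Nonempty (X ≃* alternatingGroup (Fin 4)) ∨
      Nonempty (X ≃* Equiv.Perm (Fin 4)) ∨
      ∃ E : Subgroup X, E.Normal ∧ IsSimpleGroup E ∧ IsKnown E ∧
        centralizer (E : Set X) = ⊥ := by
  by_cases h2 : Cfsg.pCore 2 X = ⊥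
  · rcases subsingleton_or_nontrivial X with hs | hn
    · exact Or.inl (IsPGroup.of_card (n := 0) (by simp))
    · exact Or.inr (Or.inr (Or.inr (hd.simple_normal hk hO h2)))
  · rcases hd.small_of_pCore_ne_bot hO h2 with h | h | h
    exacts [Or.inl h, Or.inr (Or.inl h), Or.inr (Or.inr (Or.inl h))]

theorem SubDihedral.quotient_oddCore (hd : SubDihedral X) :
    SubDihedral (X ⧸ Cfsg.oddCore X) := by
  refine hd.of_surjective (QuotientGroup.mk' _) (QuotientGroup.mk'_surjective _) ?_
  rw [QuotientGroup.ker_mk']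
  exact PCore.odd_card_oddCore

/-- **Structure theorem**: the quotient by the odd core of a group with cyclic or dihedral Sylow
2-subgroups and known simple sections. -/
theorem structure_mod_oddCore (hd : SubDihedral X) (hk : KnownSections X) :
    IsPGroup 2 (X ⧸ Cfsg.oddCore X) ∨
      Nonempty (X ⧸ Cfsg.oddCore X ≃* alternatingGroup (Fin 4)) ∨
      Nonempty (X ⧸ Cfsg.oddCore X ≃* Equiv.Perm (Fin 4)) ∨
      ∃ E : Subgroup (X ⧸ Cfsg.oddCore X), E.Normal ∧ IsSimpleGroup E ∧ IsKnown E ∧
        centralizer (E : Set (X ⧸ Cfsg.oddCore X)) = ⊥ :=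
  structure_of_oddCore_eq_bot hd.quotient_oddCore
    (hk.of_surjective _ (QuotientGroup.mk'_surjective _)) PCore.pPrimeCore_quotient_self_eq_bot

end Cfsg.Agent.GW
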