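import Cfsg.Agent.Lib.GW.Setting
import Cfsg.Agent.S0514
import Cfsg.Agent.S0205
import Cfsg.Agent.Lib.Transfer.Thompson
import Cfsg.Agent.Lib.Coprime.Sylow

/-!
# The Gorenstein-Walter setting: involutions, their centralisers, four groups

One class of involutions; every involution is central in a Sylow 2-subgroup containing any given
2-subgroup of its centraliser; `oCore x` is the set of elements of odd order of `Cent x`; subgroups
without four groups have cyclic Sylow 2-subgroups; under `NoFixed` the cores are abelian and inverted.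
-/

set_option autoImplicit false
set_option linter.style.haveILetI false
set_option linter.unusedSectionVars false

namespace Cfsg.Agent.GW

open Subgroup
open BSW (sq_of_order inv_of_order ne_one_of_order order_of_sq mem_cent)
open BSW.DihedralTI (Gens)
open scoped Pointwise

universe u

variable {G : Type u} [Group G]

/-- Two distinct commuting involutions. -/
structure Pair (a b : G) : Prop where
  ha : orderOf a = 2
  hb : orderOf b = 2
  comm : a * b = b * a
  ne : a ≠ b

namespace Pair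

variable {a b : G}

theorem symm (h : Pair a b) : Pair b a := ⟨h.hb, h.ha, h.comm.symm, h.ne.symm⟩

theorem mul_sq (h : Pair a b) : a * b * (a * b) = 1 := by
  rw [mul_assoc, ← mul_assoc b a b, ← h.comm, mul_assoc, sq_of_order h.hb, mul_one, sq_of_order h.ha]

theorem order_mul (h : Pair a b) : orderOf (a * b) = 2 :=
  order_of_sq h.mul_sq fun e => h.ne ((mul_eq_one_iff_eq_inv.1 e).trans (inv_of_order h.hb))

theorem mul_ne (h : Pair a b) : a * b ≠ a := fun e =>
  ne_one_of_order h.hb (mul_eq_left.1 e)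

theorem mul_ne_right (h : Pair a b) : a * b ≠ b := fun e =>
  ne_one_of_order h.ha (mul_eq_right.1 e)

theorem left (h : Pair a b) : Pair a (a * b) :=
  ⟨h.ha, h.order_mul, by rw [mul_assoc a b a, ← h.comm], fun e => h.mul_ne e.symm⟩

theorem right (h : Pair a b) : Pair b (a * b) :=
  ⟨h.hb, h.order_mul, by rw [← mul_assoc, ← h.comm], fun e => h.mul_ne_right e.symm⟩

theorem right_left (h : Pair a b) : Pair (a * b) a := h.left.symm

/-- The four group of a pair. -/
def four (h : Pair a b) : Subgroup G where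
  carrier := {g | g = 1 ∨ g = a ∨ g = b ∨ g = a * b}
  one_mem' := Or.inl rfl
  inv_mem' := by
    have h1 : (a * b)⁻¹ = a * b := inv_eq_of_mul_eq_one_right h.mul_sq
    rintro g (rfl | rfl | rfl | rfl) <;> simp [inv_of_order h.ha, inv_of_order h.hb, h1, -mul_inv_rev]
  mul_mem' := by
    have haa := sq_of_order h.ha
    have hbb := sq_of_order h.hb
    have hba : b * a = a * b := h.comm.symm
    have h1 : a * (a * b) = b := by rw [← mul_assoc, haa, one_mul]
    have h2 : a * b * a = b := by rw [mul_assoc, hba, h1]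
    have h3 : b * (a * b) = a := by rw [← mul_assoc, hba, mul_assoc, hbb, mul_one]
    have h4 : a * b * b = a := by rw [mul_assoc, hbb, mul_one]
    rintro g g' (rfl | rfl | rfl | rfl) (rfl | rfl | rfl | rfl) <;>
      simp only [Set.mem_setOf_eq, one_mul, mul_one, haa, hbb, hba, h1, h2, h3, h4, h.mul_sq, true_or, or_true]

theorem mem_four (h : Pair a b) {g : G} : g ∈ h.four ↔ g = 1 ∨ g = a ∨ g = b ∨ g = a * b := Iff.rfl

theorem left_mem (h : Pair a b) : a ∈ h.four := Or.inr (Or.inl rfl)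

theorem right_mem (h : Pair a b) : b ∈ h.four := Or.inr (Or.inr (Or.inl rfl))

theorem isPGroup (h : Pair a b) : IsPGroup 2 h.four := fun g => ⟨1, Subtype.ext <| by
  rw [pow_one, SubgroupClass.coe_pow, Subgroup.coe_one, pow_two]
  rcases g.2 with e | e | e | e <;> rw [e]
  · exact one_mul 1
  · exact sq_of_order h.ha
  · exact sq_of_order h.hb
  · exact h.mul_sq⟩

theorem four_le (h : Pair a b) {K : Subgroup G} (ha : a ∈ K) (hb : b ∈ K) : h.four ≤ K := fun g hg => by
  rcases hg with rfl | rfl | rfl | rfl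
  · exact K.one_mem
  · exact ha
  · exact hb
  · exact K.mul_mem ha hb

theorem commute_of_mem_four (h : Pair a b) {g g' : G} (hg : g ∈ h.four) (hg' : g' ∈ h.four) :
    Commute g g' := by
  have hab : Commute a b := h.comm
  rcases hg with rfl | rfl | rfl | rfl <;> rcases hg' with rfl | rfl | rfl | rfl <;>
    first
      | exact Commute.one_left _
      | exact Commute.one_right _
      | exact Commute.refl _
      | exact hab
      | exact hab.symm
      | exact (Commute.refl _).mul_right hab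
      | exact hab.symm.mul_right (Commute.refl _)
      | exact ((Commute.refl _).mul_left hab.symm)
      | exact hab.mul_left (Commute.refl _)

end Pair

variable [Finite G] {S : Sylow 2 G} {t : G}

/-- In a cyclic subgroup there is only one involution. -/
theorem eq_of_invol_zpowers {σ x y : G} (hx : x ∈ zpowers σ) (hy : y ∈ zpowers σ) (hx2 : orderOf x = 2)
    (hy2 : orderOf y = 2) : x = y := by
  have h : zpowers x = zpowers y := by
    obtain ⟨z, hz⟩ := IsCyclic.exists_generator (α := zpowers σ)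
    have key : ∀ w : G, w ∈ zpowers σ → orderOf w = 2 →
        w = ((z ^ (orderOf z / 2) : zpowers σ) : G) := by
      intro w hw hw2
      obtain ⟨n, hn⟩ : ∃ n : ℕ, z ^ n = (⟨w, hw⟩ : zpowers σ) :=
        mem_powers_iff_mem_zpowers.2 (hz _)
      have hpos := orderOf_pos z
      have hw2' : orderOf (⟨w, hw⟩ : zpowers σ) = 2 := by rwa [Subgroup.orderOf_mk]
      rw [← hn, orderOf_pow] at hw2'
      obtain ⟨d, hd⟩ := Nat.gcd_dvd_left (orderOf z) n
      obtain ⟨e, he⟩ := Nat.gcd_dvd_right (orderOf z) n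
      have hg0 : 0 < (orderOf z).gcd n := Nat.gcd_pos_of_pos_left _ hpos
      rw [show orderOf z / (orderOf z).gcd n = d from Nat.div_eq_of_eq_mul_right hg0 hd] at hw2'
      subst hw2'
      have hm : orderOf z / 2 = (orderOf z).gcd n := by omega
      rw [hm]
      have hodd : Odd e := by
        by_contra hne
        obtain ⟨e', rfl⟩ := Nat.not_odd_iff_even.1 hne
        have h1 : z ^ n = 1 := by
          rw [he, show (orderOf z).gcd n * (e' + e') = (orderOf z).gcd n * 2 * e' by ring, ← hd,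
            pow_mul, pow_orderOf_eq_one, one_pow]
        rw [hn] at h1
        exact ne_one_of_order hw2 (congrArg Subtype.val h1)
      obtain ⟨e', rfl⟩ := hodd
      generalize (orderOf z).gcd n = q at hd he hm ⊢
      rw [show w = ((z ^ n : zpowers σ) : G) from (congrArg Subtype.val hn).symm, he, mul_add, mul_one,
        pow_add, ← mul_assoc, ← hd, pow_mul, pow_orderOf_eq_one, one_pow, one_mul]
    rw [key x hx hx2, key y hy hy2]
  have : x ∈ zpowers y := h ▸ mem_zpowers x
  obtain ⟨i, hi⟩ := mem_zpowers_iff.1 this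
  rw [← zpow_mod_orderOf, hy2] at hi
  rcases Int.emod_two_eq_zero_or_one i with e | e <;> rw [show ((2 : ℕ) : ℤ) = 2 from rfl, e] at hi
  · exact absurd (zpow_zero y ▸ hi).symm (ne_one_of_order hx2)
  · exact (zpow_one y ▸ hi).symm

namespace Hyp

theorem exists_gens (hyp : Hyp S t) : Nonempty (Gens S t) := by
  obtain ⟨n, hn, ⟨e⟩⟩ := hyp.dihedral
  exact BSW.DihedralTI.exists_gens S hn e hyp.orderT hyp.memS hyp.centralS

theorem not_comm (hyp : Hyp S t) : ¬ IsMulCommutative G := fun h => by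
  obtain ⟨g⟩ := hyp.exists_gens
  haveI := hyp.simple
  letI : CommGroup G := { (inferInstance : Group G) with mul_comm := h.is_comm.comm }
  have hp := IsSimpleGroup.prime_card (α := G)
  haveI : Fact (Nat.Prime 2) := ⟨Nat.prime_two⟩
  have h4 : 4 ∣ Nat.card G := by
    refine Dvd.dvd.trans ?_ (S : Subgroup G).card_subgroup_dvd_card
    rw [g.hcard, g.hn, ← pow_succ']
    exact Dvd.intro (2 ^ g.k) (by ring)
  obtain ⟨m, hm⟩ := h4
  exact Nat.not_prime_mul (show 2 ≠ 1 by omega) (show 2 * m ≠ 1 by omega)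
    (show (2 * (2 * m)).Prime by rwa [← mul_assoc, show 2 * 2 = 4 from rfl, ← hm])

theorem index_ne_two (hyp : Hyp S t) (M : Subgroup G) (hMn : M.Normal) : M.index ≠ 2 := by
  intro hMi
  haveI := hyp.simple
  rcases hMn.eq_bot_or_eq_top with rfl | rfl
  · refine hyp.not_comm ?_
    haveI : Fact (Nat.Prime 2) := ⟨Nat.prime_two⟩
    haveI : IsCyclic G := isCyclic_of_prime_card (p := 2) (by rwa [Subgroup.index_bot] at hMi)
    exact ⟨⟨(IsCyclic.commGroup (α := G)).mul_comm⟩⟩
  · rw [Subgroup.index_top] at hMi; omega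

/-- A simple group with dihedral Sylow 2-subgroups has one class of involutions. -/
theorem isConj_t (hyp : Hyp S t) {u : G} (hu : orderOf u = 2) : IsConj u t := by
  obtain ⟨g⟩ := hyp.exists_gens
  haveI : Fact (Nat.Prime 2) := ⟨Nat.prime_two⟩
  obtain ⟨R, hR⟩ := (IsPGroup.of_card (n := 1) (by rw [Nat.card_zpowers, hu, pow_one]) :
    IsPGroup 2 (zpowers u)).exists_le_sylow
  obtain ⟨a, ha'⟩ := MulAction.exists_smul_eq G R S
  have huS : a * u * a⁻¹ ∈ (S : Subgroup G) := by
    rw [← ha']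
    exact Subgroup.smul_mem_pointwise_smul u (MulAut.conj a) (R : Subgroup G) (hR (mem_zpowers u))
  have hQi : (zpowers g.σ).relIndex (S : Subgroup G) = 2 := by
    have h1 := ((zpowers g.σ).subgroupOf (S : Subgroup G)).index_mul_card
    rw [Nat.card_congr (subgroupOfEquivOfLe (zpowers_le.2 g.hσ)).toEquiv, Nat.card_zpowers, g.hord,
      g.hcard] at h1
    exact Nat.eq_of_mul_eq_mul_right (by rw [g.hn]; positivity) h1
  have hw2 : (a * u * a⁻¹) ^ 2 = 1 := by
    rw [conj_pow, ← hu, pow_orderOf_eq_one, mul_one, mul_inv_cancel]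
  by_cases hex : ∃ k : G, k * (a * u * a⁻¹) * k⁻¹ ∈ zpowers g.σ
  · obtain ⟨k, hk⟩ := hex
    refine isConj_iff.2 ⟨k * a, ?_⟩
    rw [show k * a * u * (k * a)⁻¹ = k * (a * u * a⁻¹) * k⁻¹ by group]
    refine eq_of_invol_zpowers hk g.htσ ?_ hyp.orderT
    rw [← hu]
    exact (MulEquiv.orderOf_eq (MulAut.conj k) _).trans (MulEquiv.orderOf_eq (MulAut.conj a) _)
  · push Not at hex
    obtain ⟨M, hMn, hMi, -⟩ := Transfer.exists_index_two_of_involution S (zpowers g.σ)
      (zpowers_le.2 g.hσ) hQi (a * u * a⁻¹) hw2 huS (fun h => hex 1 (by simpa using h)) hex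
    exact absurd hMi (hyp.index_ne_two M hMn)

theorem isConj_invol (hyp : Hyp S t) {u v : G} (hu : orderOf u = 2) (hv : orderOf v = 2) :
    IsConj u v := (hyp.isConj_t hu).trans (hyp.isConj_t hv).symm

theorem sylow_le_cent (hyp : Hyp S t) : (S : Subgroup G) ≤ Cent t := fun s hs =>
  mem_cent.2 (hyp.centralS s hs)

theorem conj (hyp : Hyp S t) (g : G) : Hyp (g • S) (g * t * g⁻¹) := by
  obtain ⟨n, hn, ⟨e⟩⟩ := hyp.dihedral
  refine ⟨hyp.simple, ⟨n, hn, ⟨(Subgroup.equivSMul (MulAut.conj g) (S : Subgroup G)).symm.trans e⟩⟩,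
    (MulEquiv.orderOf_eq (MulAut.conj g) t).trans hyp.orderT,
    Subgroup.smul_mem_pointwise_smul t (MulAut.conj g) (S : Subgroup G) hyp.memS, fun s hs => ?_⟩
  obtain ⟨s₀, hs₀, rfl⟩ : ∃ s₀ ∈ (S : Subgroup G), g * s₀ * g⁻¹ = s := hs
  have h := hyp.centralS s₀ hs₀
  calc g * s₀ * g⁻¹ * (g * t * g⁻¹) = g * (s₀ * t) * g⁻¹ := by group
    _ = g * (t * s₀) * g⁻¹ := by rw [h]
    _ = g * t * g⁻¹ * (g * s₀ * g⁻¹) := by group

/-- Every involution is central in a Sylow 2-subgroup containing a given 2-subgroup of its centraliser. -/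
theorem exists_at (hyp : Hyp S t) {x : G} (hx : orderOf x = 2) (Q : Subgroup G) (hQ : IsPGroup 2 Q)
    (hQx : Q ≤ Cent x) : ∃ T : Sylow 2 G, Hyp T x ∧ Q ≤ (T : Subgroup G) := by
  haveI : Fact (Nat.Prime 2) := ⟨Nat.prime_two⟩
  obtain ⟨g, hg⟩ := isConj_iff.1 (hyp.isConj_t hx).symm
  have h0 := hyp.conj g
  rw [hg] at h0
  obtain ⟨R, hR⟩ := IsPGroup.exists_le_sylow (p := 2) (hQ.comap_subtype (K := Cent x))
  obtain ⟨c, hc⟩ := MulAction.exists_smul_eq (Cent x) ((g • S).subtype h0.sylow_le_cent) R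
  have h1 := h0.conj (c : G)
  rw [show (c : G) * x * (c : G)⁻¹ = x by rw [mem_cent.1 c.2, mul_inv_cancel_right]] at h1
  refine ⟨(c : G) • (g • S), h1, fun q hq => ?_⟩
  have hqR : (⟨q, hQx hq⟩ : Cent x) ∈ (R : Subgroup (Cent x)) := hR hq
  rw [← hc, Sylow.coe_subgroup_smul, Subgroup.mem_pointwise_smul_iff_inv_smul_mem, Sylow.coe_subtype,
    Subgroup.mem_subgroupOf] at hqR
  rw [Sylow.coe_subgroup_smul, Subgroup.mem_pointwise_smul_iff_inv_smul_mem]
  simpa using hqR

theorem odd_oCore (hyp : Hyp S t) (x : G) : Odd (Nat.card (oCore x)) := by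
  have := hyp.simple
  rw [oCore, card_map_of_injective (Cent x).subtype_injective]
  exact Nat.coprime_two_right.1 PCore.coprime_card_pPrimeCore

theorem oCore_le_cent (x : G) : oCore x ≤ Cent x := map_subtype_le _

/-- `oCore x` consists of the elements of odd order of `Cent x`. -/
theorem mem_oCore_iff (hyp : Hyp S t) {x : G} (hx : orderOf x = 2) {y : G} :
    y ∈ oCore x ↔ y ∈ Cent x ∧ Odd (orderOf y) := by
  refine ⟨fun h => ⟨oCore_le_cent x h, (hyp.odd_oCore x).of_dvd_nat (orderOf_dvd_natCard _ h)⟩,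
    fun ⟨hy, ho⟩ => ?_⟩
  obtain ⟨n, hn, hd⟩ := hyp.dihedral
  obtain ⟨N, hN, hNo, k, hk⟩ := S0514.result S n hn hd x hx
  have hNc : N ≤ Cfsg.oddCore (Cent x) := PCore.le_pPrimeCore (Nat.coprime_two_right.2 hNo)
  refine ⟨⟨y, hy⟩, hNc ?_, rfl⟩
  rw [← QuotientGroup.eq_one_iff, ← orderOf_eq_one_iff]
  refine Nat.eq_one_of_dvd_coprimes ((Nat.coprime_two_left.2 ho).pow_left k) ?_ ?_
  · rw [← hk]; exact orderOf_dvd_natCard _
  · have := orderOf_map_dvd (QuotientGroup.mk' N) (⟨y, hy⟩ : Cent x)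
    rwa [Subgroup.orderOf_mk] at this

theorem map_oCore (hyp : Hyp S t) {x : G} (hx : orderOf x = 2) (g : G) {y : G} (hy : y ∈ oCore x) :
    g * y * g⁻¹ ∈ oCore (g * x * g⁻¹) := by
  obtain ⟨hyc, hyo⟩ := (hyp.mem_oCore_iff hx).1 hy
  refine (hyp.mem_oCore_iff ((MulEquiv.orderOf_eq (MulAut.conj g) x).trans hx)).2 ⟨mem_cent.2 ?_, ?_⟩
  · calc g * y * g⁻¹ * (g * x * g⁻¹) = g * (y * x) * g⁻¹ := by group
      _ = g * (x * y) * g⁻¹ := by rw [mem_cent.1 hyc]
      _ = g * x * g⁻¹ * (g * y * g⁻¹) := by group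
  · rwa [show g * y * g⁻¹ = MulAut.conj g y from rfl, MulEquiv.orderOf_eq]

theorem cent_le_normalizer (x : G) : Cent x ≤ normalizer (oCore x : Set G) := by
  haveI : (Cfsg.oddCore (Cent x)).Normal := PCore.pPrimeCore_normal
  exact (normal_subgroupOf_iff_le_normalizer (oCore_le_cent x)).1 (by
    rwa [show (oCore x).subgroupOf (Cent x) = Cfsg.oddCore (Cent x) from
      comap_map_eq_self_of_injective (Cent x).subtype_injective _])

end Hyp

/-- An element of the Sylow subgroup is a rotation or a reflection; reflections square to one. -/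
theorem refl_sq (g : Gens S t) (i : ℤ) : g.σ ^ i * g.τ * (g.σ ^ i * g.τ) = 1 := by
  have hconj : g.τ * g.σ ^ i * g.τ⁻¹ = (g.σ ^ i)⁻¹ := by rw [← conj_zpow, g.hrel, inv_zpow]
  calc g.σ ^ i * g.τ * (g.σ ^ i * g.τ)
      = g.σ ^ i * (g.τ * g.σ ^ i * g.τ⁻¹) * (g.τ * g.τ) := by group
    _ = 1 := by rw [hconj, sq_of_order g.hτo, mul_inv_cancel, one_mul]

theorem tau_not_mem (g : Gens S t) : g.τ ∉ zpowers g.σ := fun h => by
  have hle : (S : Subgroup G) ≤ zpowers g.σ := fun x hx => by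
    obtain ⟨i, rfl | rfl⟩ := g.hform x hx
    · exact zpow_mem (mem_zpowers _) i
    · exact mul_mem (zpow_mem (mem_zpowers _) i) h
  have := card_le_of_le hle
  rw [g.hcard, Nat.card_zpowers, g.hord, g.hn] at this
  have := Nat.one_le_two_pow (n := g.k + 1)
  omega

theorem refl_order (g : Gens S t) (i : ℤ) : orderOf (g.σ ^ i * g.τ) = 2 := by
  refine order_of_sq (refl_sq g i) fun h => tau_not_mem g ?_
  rw [eq_inv_of_mul_eq_one_right h]
  exact inv_mem (zpow_mem (mem_zpowers _) i)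

theorem refl_ne (g : Gens S t) (i : ℤ) : g.σ ^ i * g.τ ≠ t := fun h => tau_not_mem g <| by
  have e : g.τ = (g.σ ^ i)⁻¹ * (g.σ ^ i * g.τ) := by group
  rw [h] at e
  rw [e]
  exact mul_mem (inv_mem (zpow_mem (mem_zpowers g.σ) i)) g.htσ

/-- The product of two reflections is a rotation. -/
theorem refl_mul (g : Gens S t) (i j : ℤ) : g.σ ^ i * g.τ * (g.σ ^ j * g.τ) = g.σ ^ (i - j) := by
  have hconj : g.τ * g.σ ^ j * g.τ⁻¹ = (g.σ ^ j)⁻¹ := by rw [← conj_zpow, g.hrel, inv_zpow]
  calc g.σ ^ i * g.τ * (g.σ ^ j * g.τ)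
      = g.σ ^ i * (g.τ * g.σ ^ j * g.τ⁻¹) * (g.τ * g.τ) := by group
    _ = g.σ ^ (i - j) := by rw [hconj, sq_of_order g.hτo, mul_one, zpow_sub]

namespace Hyp

/-- An involution commuting with two commuting involutions is one of the four group. -/
theorem mem_four_of_commute (hyp : Hyp S t) {a b : G} (h : Pair a b) {i : G} (hi : orderOf i = 2)
    (hia : Commute i a) (hib : Commute i b) : i ∈ h.four := by
  by_cases hi' : i = a
  · exact hi' ▸ h.left_mem
  have hE : ∀ x ∈ closure ({a, b, i} : Set G), x * x = 1 ∧ Commute x a ∧ Commute x b ∧ Commute x i := by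
    intro x hx
    induction hx using Subgroup.closure_induction with
    | mem x hx =>
      rcases hx with rfl | rfl | rfl
      · exact ⟨sq_of_order h.ha, Commute.refl _, h.comm, hia.symm⟩
      · exact ⟨sq_of_order h.hb, h.comm.symm, Commute.refl _, hib.symm⟩
      · exact ⟨sq_of_order hi, hia, hib, Commute.refl _⟩
    | one => exact ⟨one_mul 1, Commute.one_left _, Commute.one_left _, Commute.one_left _⟩
    | mul x y hxm hym hx hy =>
      refine ⟨?_, hx.2.1.mul_left hy.2.1, hx.2.2.1.mul_left hy.2.2.1, hx.2.2.2.mul_left hy.2.2.2⟩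
      have hxy : Commute x y := by
        clear hy
        induction hym using Subgroup.closure_induction with
        | mem z hz =>
          rcases hz with rfl | rfl | rfl
          exacts [hx.2.1, hx.2.2.1, hx.2.2.2]
        | one => exact Commute.one_right _
        | mul _ _ _ _ h1 h2 => exact h1.mul_right h2
        | inv _ _ h1 => exact h1.inv_right
      rw [hxy.symm.mul_mul_mul_comm, hx.1, hy.1, one_mul]
    | inv x _ hx =>
      exact ⟨by rw [← mul_inv_rev, hx.1, inv_one], hx.2.1.inv_left, hx.2.2.1.inv_left, hx.2.2.2.inv_left⟩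
  obtain ⟨T, hT, hQT⟩ := hyp.exists_at h.ha (closure ({a, b, i} : Set G))
    (fun x => ⟨1, Subtype.ext (by rw [pow_one, SubgroupClass.coe_pow, pow_two, Subgroup.coe_one]; exact (hE x x.2).1)⟩)
    (fun x hx => mem_cent.2 (hE x hx).2.1.eq)
  obtain ⟨g⟩ := hT.exists_gens
  have form : ∀ x ∈ (T : Subgroup G), orderOf x = 2 → x ≠ a → ∃ m : ℤ, x = g.σ ^ m * g.τ := by
    intro x hx hx2 hxa
    obtain ⟨m, e | e⟩ := g.hform x hx
    · exact absurd (eq_of_invol_zpowers (e ▸ zpow_mem (mem_zpowers _) m) g.htσ hx2 h.ha) hxa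
    · exact ⟨m, e⟩
  obtain ⟨m, hm⟩ := form i (hQT (subset_closure (by simp))) hi hi'
  obtain ⟨m', hm'⟩ := form b (hQT (subset_closure (by simp))) h.hb h.ne.symm
  have hibσ : i * b ∈ zpowers g.σ := by rw [hm, hm', refl_mul]; exact zpow_mem (mem_zpowers _) _
  have hsq : i * b * (i * b) = 1 := by rw [hib.symm.mul_mul_mul_comm, sq_of_order hi, sq_of_order h.hb, one_mul]
  by_cases h1 : i * b = 1
  · rw [(mul_eq_one_iff_eq_inv.1 h1), inv_of_order h.hb]; exact h.right_mem
  · have h2 := eq_of_invol_zpowers hibσ g.htσ (order_of_sq hsq h1) h.ha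
    rw [show i = a * b by rw [← h2, mul_assoc, sq_of_order h.hb, mul_one]]
    exact h.four.mul_mem h.left_mem h.right_mem

/-- A subgroup containing no commuting pair of involutions has cyclic Sylow 2-subgroups. -/
theorem isCyclic_of_no_pair (hyp : Hyp S t) {L : Subgroup G}
    (hL : ∀ a b : G, a ∈ L → b ∈ L → ¬ Pair a b) {Q : Subgroup G} (hQL : Q ≤ L) (hQ : IsPGroup 2 Q) :
    IsCyclic Q := by
  haveI : Fact (Nat.Prime 2) := ⟨Nat.prime_two⟩
  obtain ⟨R, hR⟩ := hQ.exists_le_sylow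
  obtain ⟨c, hc⟩ := MulAction.exists_smul_eq G S R
  have hyp' := hyp.conj c
  obtain ⟨g⟩ := hyp'.exists_gens
  have hQT : Q ≤ ((c • S : Sylow 2 G) : Subgroup G) := hc ▸ hR
  by_cases hrot : Q ≤ zpowers g.σ
  · exact Subgroup.isCyclic_of_le hrot
  obtain ⟨s, hsQ, hs⟩ := SetLike.not_le_iff_exists.1 hrot
  obtain ⟨m, hm | hm⟩ := g.hform s (hQT hsQ)
  · exact absurd (hm ▸ zpow_mem (mem_zpowers _) m) hs
  subst hm
  suffices h : Q ≤ zpowers (g.σ ^ m * g.τ) from Subgroup.isCyclic_of_le h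
  have hno : ∀ q ∈ Q, q ∈ zpowers g.σ → q = 1 := by
    intro q hq hqσ
    by_contra hq1
    obtain ⟨z, hz, hz2⟩ : ∃ z ∈ zpowers q, orderOf z = 2 := by
      obtain ⟨j, hj⟩ := hQ ⟨q, hq⟩
      have h2 : 2 ∣ orderOf q := by
        obtain ⟨l, -, hl⟩ := (Nat.dvd_prime_pow Nat.prime_two).1
          (orderOf_dvd_of_pow_eq_one (show q ^ 2 ^ j = 1 from congrArg Subtype.val hj))
        rcases Nat.eq_zero_or_pos l with rfl | hl0
        · exact absurd (orderOf_eq_one_iff.1 hl) hq1
        · exact hl ▸ dvd_pow_self 2 hl0.ne'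
      exact ⟨q ^ (orderOf q / 2), pow_mem (mem_zpowers q) _,
        orderOf_pow_orderOf_div (orderOf_pos q).ne' h2⟩
    have hzt : z = c * t * c⁻¹ :=
      eq_of_invol_zpowers ((zpowers_le.2 hqσ) hz) g.htσ hz2 hyp'.orderT
    refine hL z _ (hQL ((zpowers_le.2 hq) hz)) (hQL hsQ) ⟨hz2, refl_order g m, ?_, ?_⟩
    · rw [hzt]; exact (hyp'.centralS _ (hQT hsQ)).symm
    · rw [hzt]; exact (refl_ne g m).symm
  intro q hq
  obtain ⟨j, hj | hj⟩ := g.hform q (hQT hq)
  · rw [hno q hq (hj ▸ zpow_mem (mem_zpowers _) j)]; exact one_mem _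
  · have h1 := hno _ (Q.mul_mem hq hsQ) (by rw [hj, refl_mul]; exact zpow_mem (mem_zpowers _) _)
    rw [eq_inv_of_mul_eq_one_left h1]
    exact inv_mem (mem_zpowers _)

end Hyp

/-- The normal 2-complement of a subgroup without four groups. -/
noncomputable def core (L : Subgroup G) : Subgroup G := (Cfsg.oddCore L).map L.subtype

theorem core_le (L : Subgroup G) : core L ≤ L := map_subtype_le _

theorem le_normalizer_core (L : Subgroup G) : L ≤ normalizer (core L : Set G) := by
  haveI : (Cfsg.oddCore L).Normal := PCore.pPrimeCore_normal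
  exact (normal_subgroupOf_iff_le_normalizer (core_le L)).1 (by
    rwa [show (core L).subgroupOf L = Cfsg.oddCore L from
      comap_map_eq_self_of_injective L.subtype_injective _])

theorem odd_core (L : Subgroup G) : Odd (Nat.card (core L)) := by
  rw [core, card_map_of_injective L.subtype_injective]
  exact Nat.coprime_two_right.1 PCore.coprime_card_pPrimeCore

theorem isSolvable_core (L : Subgroup G) : Group.IsSolvable (core L) :=
  Cfsg.Agent.S0205.result (odd_core L)

namespace Hyp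

/-- A subgroup without four groups has a normal 2-complement: its elements of odd order, and its
involutions are conjugate by it. -/
theorem core_spec (hyp : Hyp S t) {L : Subgroup G} (hL : ∀ a b : G, a ∈ L → b ∈ L → ¬ Pair a b) :
    (∀ y ∈ L, Odd (orderOf y) → y ∈ core L) ∧
      ∀ i j : G, i ∈ L → j ∈ L → orderOf i = 2 → orderOf j = 2 → ∃ w ∈ core L, w * i * w⁻¹ = j := by
  haveI : Fact (Nat.Prime 2) := ⟨Nat.prime_two⟩
  have hcyc : ∀ P : Sylow 2 L, IsCyclic (P : Subgroup L) := fun P => by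
    haveI := hyp.isCyclic_of_no_pair hL (map_subtype_le (P : Subgroup L)) (P.2.map _)
    exact ((P : Subgroup L).equivMapOfInjective L.subtype L.subtype_injective).isCyclic.2 inferInstance
  obtain ⟨P⟩ : Nonempty (Sylow 2 L) := inferInstance
  rcases eq_or_ne (Nat.card L % 2) 1 with hodd | heven
  · have hodd' : Odd (Nat.card L) := Nat.odd_iff.2 hodd
    refine ⟨fun y hy _ => ⟨⟨y, hy⟩, PCore.le_pPrimeCore (N := (⊤ : Subgroup L)) ?_ (mem_top _), rfl⟩,
      fun i j hi _ hi2 _ => ?_⟩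
    · rw [Subgroup.card_top]; exact Nat.coprime_two_right.2 hodd'
    · exfalso
      have := orderOf_dvd_natCard (⟨i, hi⟩ : L)
      rw [Subgroup.orderOf_mk, hi2] at this
      omega
  have h2 : (Nat.card L).minFac = 2 := (Nat.minFac_eq_two_iff _).2 (by omega)
  have hN := IsCyclic.normalizer_le_centralizer (P := P) h2 (hcyc P)
  have hc := MonoidHom.ker_transferSylow_isComplement' P hN
  set W := (MonoidHom.transferSylow P hN).ker
  have hWcop : (Nat.card W).Coprime 2 :=
    Nat.coprime_comm.1 (Nat.prime_two.coprime_iff_not_dvd.2 (MonoidHom.not_dvd_card_ker_transferSylow P hN))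
  have hWle : W ≤ Cfsg.oddCore L := PCore.le_pPrimeCore hWcop
  constructor
  · intro y hy ho
    refine ⟨⟨y, hy⟩, hWle ?_, rfl⟩
    rw [← QuotientGroup.eq_one_iff, ← orderOf_eq_one_iff]
    obtain ⟨k, hk⟩ := IsPGroup.iff_card.1 P.2
    refine Nat.eq_one_of_dvd_coprimes ((Nat.coprime_two_left.2 ho).pow_left k) ?_ ?_
    · rw [← hk, ← hc.symm.index_eq_card]; exact orderOf_dvd_natCard _
    · have := orderOf_map_dvd (QuotientGroup.mk' W) (⟨y, hy⟩ : L)
      rwa [Subgroup.orderOf_mk] at this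
  · intro i j hi hj hi2 hj2
    have key : ∀ x : L, orderOf x = 2 → ∃ w ∈ W, w * x * w⁻¹ ∈ (P : Subgroup L) := by
      intro x hx
      obtain ⟨R, hR⟩ := (IsPGroup.of_card (n := 1) (by rw [Nat.card_zpowers, hx, pow_one]) :
        IsPGroup 2 (zpowers x)).exists_le_sylow
      obtain ⟨c, hcR⟩ := MulAction.exists_smul_eq L R P
      obtain ⟨⟨⟨w, hw⟩, ⟨q, hq⟩⟩, hwq⟩ := hc.2 c⁻¹
      refine ⟨w⁻¹, W.inv_mem hw, ?_⟩
      have hm : c * x * c⁻¹ ∈ (P : Subgroup L) := by
        rw [← hcR]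
        exact Subgroup.smul_mem_pointwise_smul x (MulAut.conj c) (R : Subgroup L) (hR (mem_zpowers x))
      have hcq : c = q⁻¹ * w⁻¹ := by
        rw [← inv_inv c, show c⁻¹ = w * q from hwq.symm, mul_inv_rev]
      have := mul_mem (mul_mem hq hm) (inv_mem hq)
      rw [hcq] at this
      simpa [mul_assoc] using this
    obtain ⟨w₁, hw₁, h₁⟩ := key ⟨i, hi⟩ (by rwa [Subgroup.orderOf_mk])
    obtain ⟨w₂, hw₂, h₂⟩ := key ⟨j, hj⟩ (by rwa [Subgroup.orderOf_mk])
    haveI := hcyc P
    obtain ⟨⟨z, hzP⟩, hz⟩ := IsCyclic.exists_generator (α := (P : Subgroup L))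
    have hzz : ∀ q ∈ (P : Subgroup L), (q : G) ∈ zpowers (z : G) := fun q hq => by
      obtain ⟨n, hn⟩ := mem_zpowers_iff.1 (hz ⟨q, hq⟩)
      refine ⟨n, ?_⟩
      simpa using congrArg (fun u : (P : Subgroup L) => ((u : L) : G)) hn
    have ho : ∀ (w : L) (x : G) (hx : x ∈ L), orderOf x = 2 →
        orderOf ((w * ⟨x, hx⟩ * w⁻¹ : L) : G) = 2 := fun w x hx hx2 => by
      rw [show ((w * ⟨x, hx⟩ * w⁻¹ : L) : G) = MulAut.conj (w : G) x from rfl, MulEquiv.orderOf_eq, hx2]
    have heq := Subtype.ext (eq_of_invol_zpowers (hzz _ h₁) (hzz _ h₂) (ho w₁ i hi hi2) (ho w₂ j hj hj2))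
    refine ⟨((w₂⁻¹ * w₁ : L) : G), ⟨_, hWle (W.mul_mem (W.inv_mem hw₂) hw₁), rfl⟩, ?_⟩
    have h := congrArg (fun q : L => ((w₂⁻¹ * q * w₂ : L) : G)) heq
    simpa [mul_assoc] using h

/-- With fixed points excluded, an element of odd order centralising two commuting involutions is trivial. -/
theorem eq_one_of_pair (hyp : Hyp S t) (nf : NoFixed G) {a b : G} (h : Pair a b) {y : G}
    (hya : Commute y a) (hyb : Commute y b) (ho : Odd (orderOf y)) : y = 1 := by
  have hm : y ∈ oCore a ⊓ Cent b :=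
    ⟨(hyp.mem_oCore_iff h.ha).2 ⟨mem_cent.2 hya.eq, ho⟩, mem_cent.2 hyb.eq⟩
  rwa [nf a b h.ha h.hb h.comm h.ne, mem_bot] at hm

/-- The centraliser of a non-identity element of odd order contains no four group. -/
theorem no_pair_centralizer (hyp : Hyp S t) (nf : NoFixed G) {K : Subgroup G} {y : G} (hy : y ∈ K)
    (hy1 : y ≠ 1) (ho : Odd (orderOf y)) :
    ∀ a b : G, a ∈ centralizer (K : Set G) → b ∈ centralizer (K : Set G) → ¬ Pair a b :=
  fun _ _ ha hb h => hy1 (hyp.eq_one_of_pair nf h (mem_centralizer_iff.1 ha y hy)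
    (mem_centralizer_iff.1 hb y hy) ho)

/-- `oCore a` is inverted by every other involution of `Cent a`. -/
theorem inverts (hyp : Hyp S t) (nf : NoFixed G) {a b : G} (h : Pair a b) {y : G} (hy : y ∈ oCore a) :
    b * y * b⁻¹ = y⁻¹ := by
  have hb : ∀ x ∈ oCore a, b * x * b⁻¹ ∈ oCore a := fun x hx =>
    (mem_normalizer_iff.1 (cent_le_normalizer a (mem_cent.2 h.comm.symm)) x).1 hx
  let φ : oCore a →* oCore a :=
    { toFun := fun x => ⟨b * x * b⁻¹, hb x x.2⟩
      map_one' := Subtype.ext (by simp)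
      map_mul' := fun x x' => Subtype.ext (by simp [mul_assoc]) }
  have hinv : Function.Involutive φ := fun x => Subtype.ext (by
    show b * (b * (x : G) * b⁻¹) * b⁻¹ = x
    rw [show b * (b * (x : G) * b⁻¹) * b⁻¹ = b * b * x * (b * b)⁻¹ by group, sq_of_order h.hb]
    simp)
  have hfpf : MonoidHom.FixedPointFree φ := fun x hx => Subtype.ext <| by
    refine hyp.eq_one_of_pair nf h (mem_cent.1 (oCore_le_cent a x.2))
      (mul_inv_eq_iff_eq_mul.1 (congrArg Subtype.val hx)).symm ?_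
    exact ((hyp.mem_oCore_iff h.ha).1 x.2).2
  exact congrArg Subtype.val (congrFun (hfpf.coe_eq_inv_of_involutive hinv) ⟨y, hy⟩)

/-- A partner involution. -/
theorem exists_pair (hyp : Hyp S t) {x : G} (hx : orderOf x = 2) : ∃ b, Pair x b := by
  obtain ⟨T, hT, -⟩ := hyp.exists_at hx ⊥ IsPGroup.of_bot bot_le
  obtain ⟨g⟩ := hT.exists_gens
  have h := refl_order g 0
  rw [zpow_zero, one_mul] at h
  refine ⟨g.τ, hx, h, (hT.centralS _ g.hτ).symm, fun e => tau_not_mem g ?_⟩
  exact e ▸ g.htσ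

theorem oCore_comm (hyp : Hyp S t) (nf : NoFixed G) {x : G} (hx : orderOf x = 2) {y z : G}
    (hy : y ∈ oCore x) (hz : z ∈ oCore x) : Commute y z := by
  obtain ⟨b, h⟩ := hyp.exists_pair hx
  have h1 := hyp.inverts nf h (mul_mem hy hz)
  rw [show b * (y * z) * b⁻¹ = (b * y * b⁻¹) * (b * z * b⁻¹) by group, hyp.inverts nf h hy,
    hyp.inverts nf h hz, mul_inv_rev] at h1
  exact inv_inj.1 (by rw [mul_inv_rev, mul_inv_rev]; exact h1.symm)

/-- A 2-element of `Cent x` that is no involution centralises `oCore x`. -/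
theorem commute_of_sq_ne_one (hyp : Hyp S t) (nf : NoFixed G) {x : G} (hx : orderOf x = 2) {q : G}
    (hqx : q ∈ Cent x) (hq : ∃ k, q ^ 2 ^ k = 1) (hq2 : q * q ≠ 1) {y : G} (hy : y ∈ oCore x) :
    Commute q y := by
  obtain ⟨k, hk⟩ := hq
  obtain ⟨T, hT, hQT⟩ := hyp.exists_at hx (zpowers q)
    (IsPGroup.of_card (n := (orderOf q).factorization 2) (by
      obtain ⟨l, -, hl⟩ := (Nat.dvd_prime_pow Nat.prime_two).1 (orderOf_dvd_of_pow_eq_one hk)
      rw [Nat.card_zpowers, hl, Nat.Prime.factorization_pow Nat.prime_two, Finsupp.single_eq_same]))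
    (zpowers_le.2 hqx)
  obtain ⟨g⟩ := hT.exists_gens
  obtain ⟨m, rfl | rfl⟩ := g.hform q (hQT (mem_zpowers q))
  swap
  · exact absurd (refl_sq g m) hq2
  have p1 : ∀ i : ℤ, Pair x (g.σ ^ i * g.τ) := fun i =>
    ⟨hx, refl_order g i, (hT.centralS _ (mul_mem (zpow_mem g.hσ i) g.hτ)).symm, (refl_ne g i).symm⟩
  have e1 := hyp.inverts nf (p1 m) (inv_mem hy)
  have e2 := hyp.inverts nf (p1 0) hy
  rw [zpow_zero, one_mul] at e2
  rw [inv_inv, ← e2, inv_of_order g.hτo, mul_inv_rev, inv_of_order g.hτo] at e1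
  have e3 : g.σ ^ m * y * (g.σ ^ m)⁻¹ = y := by
    refine Eq.trans ?_ e1
    rw [show g.σ ^ m * g.τ * (g.τ * y * g.τ) * (g.τ * (g.σ ^ m)⁻¹)
      = g.σ ^ m * (g.τ * g.τ) * y * (g.τ * g.τ) * (g.σ ^ m)⁻¹ by group, sq_of_order g.hτo, mul_one, mul_one]
  exact mul_inv_eq_iff_eq_mul.1 e3

end Hyp

end Cfsg.Agent.GW
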