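import Cfsg.Agent.Lib.PCore.UpperSeries
import Cfsg.Agent.Lib.OddOrder.Stability
import Cfsg.Agent.Lib.Components.Subnormal
import Cfsg.Agent.Lib.Coprime.Sylow
import Cfsg.Agent.Lib.Coprime.Generation
import Cfsg.Agent.Lib.PGroup.Basic

/-!
# Subgroup forms of `O_{p'}` and `O_{p',p}`, and small p-group lemmas

* `rad p W`, `rad2 p W`; Frattini argument `frattini_rad2`;
* `exists_conj_mem`, `fix_of_fix_cent`, `index_dvd_of_cover`.
-/

set_option autoImplicit false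
set_option linter.style.haveILetI false
set_option linter.unusedSectionVars false

namespace Cfsg.Agent.GW

open Subgroup
open scoped Pointwise

universe u

variable {G : Type u} [Group G] {p : ℕ}

/-- `O_{p'}(W)` as a subgroup of the ambient group. -/
noncomputable def rad (p : ℕ) (W : Subgroup G) : Subgroup G := (Cfsg.pPrimeCore p W).map W.subtype

/-- `O_{p',p}(W)` as a subgroup of the ambient group. -/
noncomputable def rad2 (p : ℕ) (W : Subgroup G) : Subgroup G := (Cfsg.pPrimePCore p W).map W.subtype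

theorem rad_le (W : Subgroup G) : rad p W ≤ W := map_subtype_le _

theorem rad2_le (W : Subgroup G) : rad2 p W ≤ W := map_subtype_le _

theorem rad_le_rad2 (W : Subgroup G) : rad p W ≤ rad2 p W := map_mono PCore.pPrimeCore_le_pPrimePCore

theorem normalizer_le_rad (W : Subgroup G) : normalizer (W : Set G) ≤ normalizer (rad p W : Set G) :=
  Components.normalizer_le_normalizer_map_of_characteristic W _

theorem normalizer_le_rad2 (W : Subgroup G) : normalizer (W : Set G) ≤ normalizer (rad2 p W : Set G) :=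
  Components.normalizer_le_normalizer_map_of_characteristic W _

theorem map_rad (W : Subgroup G) (f : G ≃* G) :
    (rad p W).map f.toMonoidHom = rad p (W.map f.toMonoidHom) := by
  rw [rad, rad, ← PCore.map_pPrimeCore_mulEquiv (W.equivMapOfInjective f.toMonoidHom f.injective),
    Subgroup.map_map, Subgroup.map_map]
  rfl

theorem mem_rad {W : Subgroup G} {x : G} (hx : x ∈ W) :
    x ∈ rad p W ↔ (⟨x, hx⟩ : W) ∈ Cfsg.pPrimeCore p W :=
  ⟨fun ⟨y, hy, e⟩ => by
    rwa [show (⟨x, hx⟩ : W) = y from Subtype.ext e.symm], fun h => ⟨_, h, rfl⟩⟩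

theorem mem_rad2 {W : Subgroup G} {x : G} (hx : x ∈ W) :
    x ∈ rad2 p W ↔ (⟨x, hx⟩ : W) ∈ Cfsg.pPrimePCore p W :=
  ⟨fun ⟨y, hy, e⟩ => by
    rwa [show (⟨x, hx⟩ : W) = y from Subtype.ext e.symm], fun h => ⟨_, h, rfl⟩⟩

variable [Finite G] [Fact p.Prime]

theorem not_dvd_card_rad (W : Subgroup G) : ¬ p ∣ Nat.card (rad p W) := by
  rw [rad, card_map_of_injective W.subtype_injective]
  exact PCore.not_dvd_card_pPrimeCore

/-- An element of p-power order in a subgroup of order prime to p is trivial. -/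
theorem eq_one_of_pow_prime {K : Subgroup G} (hK : ¬ p ∣ Nat.card K) {x : G} (hx : x ∈ K)
    (hp : ∃ k, x ^ p ^ k = 1) : x = 1 := by
  obtain ⟨k, hk⟩ := hp
  exact orderOf_eq_one_iff.1 (Nat.eq_one_of_dvd_coprimes
    (((Fact.out : p.Prime).coprime_iff_not_dvd.2 hK).pow_left k)
    (orderOf_dvd_of_pow_eq_one hk) (orderOf_dvd_natCard K hx))

/-- `Q ∩ O_{p',p}(W)` covers `O_{p',p}(W)/O_{p'}(W)` for a Sylow subgroup `Q` of `W`. -/
theorem rad2_decomp {W : Subgroup G} (Q : Sylow p W) {r : G} (hr : r ∈ rad2 p W) :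
    ∃ o ∈ rad p W, ∃ q ∈ (Q : Subgroup W).map W.subtype ⊓ rad2 p W, r = o * q := by
  obtain ⟨x, hx, rfl⟩ := hr
  have h1 := PCore.pCore_le_sylow (Q.mapSurjective (QuotientGroup.mk'_surjective (Cfsg.pPrimeCore p W))) hx
  rw [Sylow.coe_mapSurjective] at h1
  obtain ⟨q, hq, hqx⟩ := h1
  have ho : x * q⁻¹ ∈ Cfsg.pPrimeCore p W := (QuotientGroup.eq_one_iff (x * q⁻¹)).1 (by
    rw [show (QuotientGroup.mk (x * q⁻¹) : W ⧸ _) = QuotientGroup.mk' (Cfsg.pPrimeCore p W) x *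
      (QuotientGroup.mk' (Cfsg.pPrimeCore p W) q)⁻¹ by rw [← map_inv, ← map_mul]; rfl, hqx, mul_inv_cancel])
  refine ⟨_, ⟨_, ho, rfl⟩, q, ⟨⟨q, hq, rfl⟩, q, ?_, rfl⟩, by simp⟩
  show QuotientGroup.mk' _ q ∈ Cfsg.pCore p _
  rw [hqx]; exact hx

/-- Frattini: an element normalising `W` normalises `Q ∩ O_{p',p}(W)` up to `O_{p'}(W)`. -/
theorem frattini_rad2 {W : Subgroup G} (Q : Sylow p W) {w : G} (hw : w ∈ normalizer (W : Set G)) :
    ∃ o ∈ rad p W, o * w ∈ normalizer (((Q : Subgroup W).map W.subtype ⊓ rad2 p W : Subgroup G) : Set G) := by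
  set R := rad2 p W with hR
  set Q2 := (Q : Subgroup W).map W.subtype ⊓ R with hQ2
  have hQ2p : IsPGroup p Q2 := (Q.2.map W.subtype).to_le inf_le_left
  obtain ⟨T, hT⟩ := (hQ2p.comap_subtype : IsPGroup p (Q2.subgroupOf R)).exists_le_sylow
  have hTeq : (T : Subgroup R).map R.subtype = Q2 := by
    refine le_antisymm ?_ ?_
    · rintro _ ⟨r, hrT, rfl⟩
      obtain ⟨o, ho, q, hq, he⟩ := rad2_decomp Q r.2
      have hoR : o ∈ R := rad_le_rad2 W ho
      have hmem : (⟨o, hoR⟩ : R) ∈ (T : Subgroup R) := by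
        rw [show (⟨o, hoR⟩ : R) = r * (⟨q, hq.2⟩ : R)⁻¹ from Subtype.ext (by simp [he])]
        exact mul_mem hrT (inv_mem (hT (show (⟨q, hq.2⟩ : R) ∈ Q2.subgroupOf R from hq)))
      obtain ⟨k, hk⟩ := T.2 ⟨_, hmem⟩
      have h1 : o = 1 := eq_one_of_pow_prime (not_dvd_card_rad W) ho
        ⟨k, by simpa using congrArg (fun z : (T : Subgroup R) => ((z : R) : G)) hk⟩
      rw [R.coe_subtype, he, h1, one_mul]; exact hq
    · exact fun q hq => ⟨⟨q, hq.2⟩, hT hq, rfl⟩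
  obtain ⟨m, hm, hmw⟩ := Coprime.exists_mem_conj_sylow_eq T (normalizer_le_rad2 W hw)
  obtain ⟨o, ho, q, hq, he⟩ := rad2_decomp Q (inv_mem hm)
  rw [hTeq] at hmw
  have h1 : m⁻¹ * w ∈ normalizer (Q2 : Set G) := Coprime.mem_normalizer_of_conj_smul_eq (by
    rw [← Coprime.conj_smul_smul, ← hmw, Coprime.conj_smul_smul, inv_mul_cancel, map_one, one_smul])
  refine ⟨q⁻¹ * o * q,
    (mem_normalizer_iff''.1 (normalizer_le_rad W ((le_normalizer : W ≤ _) (rad2_le W hq.2))) o).1 ho, ?_⟩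
  rw [show q⁻¹ * o * q * w = q⁻¹ * (o * q * w) by group, ← he]
  exact mul_mem (inv_mem ((le_normalizer : Q2 ≤ _) hq)) h1

/-- A p-element of a subgroup is conjugate in it into a given Sylow subgroup of `G` lying in it. -/
theorem exists_conj_mem {H : Subgroup G} (P : Sylow p G) (hP : (P : Subgroup G) ≤ H) {x : G} (hx : x ∈ H)
    (hxp : ∃ k, x ^ p ^ k = 1) : ∃ h ∈ H, h * x * h⁻¹ ∈ (P : Subgroup G) := by
  obtain ⟨k, hk⟩ := hxp
  obtain ⟨l, -, hl⟩ := (Nat.dvd_prime_pow Fact.out).1 (orderOf_dvd_of_pow_eq_one hk)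
  obtain ⟨R, hR⟩ := (IsPGroup.of_card (n := l) (by rw [Nat.card_zpowers, Subgroup.orderOf_mk, hl]) :
    IsPGroup p (zpowers (⟨x, hx⟩ : H))).exists_le_sylow
  obtain ⟨m, hm⟩ := MulAction.exists_smul_eq H R (P.subtype hP)
  refine ⟨m, m.2, ?_⟩
  have h : m * ⟨x, hx⟩ * m⁻¹ ∈ ((P.subtype hP : Sylow p H) : Subgroup H) := by
    rw [← hm]
    exact Subgroup.smul_mem_pointwise_smul _ (MulAut.conj m) (R : Subgroup H) (hR (mem_zpowers _))
  rw [Sylow.coe_subtype, mem_subgroupOf] at h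
  exact h

/-- An element of order prime to p acting on a p-group `P` and centralising a normal subgroup `P₀`
with `C_P(P₀) ≤ P₀` centralises `P`. -/
theorem fix_of_fix_cent {P P₀ : Subgroup G} (hP : IsPGroup p P)
    (hn : P ≤ normalizer (P₀ : Set G)) (hc : P ⊓ centralizer (P₀ : Set G) ≤ P₀) {x : G}
    (hxP : ∀ v ∈ P, x * v * x⁻¹ ∈ P) (hx0 : ∀ v ∈ P₀, x * v = v * x) (hxo : (orderOf x).Coprime p)
    {v : G} (hv : v ∈ P) : x * v = v * x := by
  set z := v⁻¹ * (x * v * x⁻¹) with hz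
  have hzP : z ∈ P := mul_mem (inv_mem hv) (hxP v hv)
  have hz0 : z ∈ P₀ := hc ⟨hzP, mem_centralizer_iff.2 fun u hu => by
    have h1 : v * u * v⁻¹ ∈ P₀ := (mem_normalizer_iff.1 (hn hv) u).1 hu
    have h2 := hx0 _ h1
    calc u * z = v⁻¹ * (v * u * v⁻¹ * x) * v * x⁻¹ := by rw [hz]; group
      _ = v⁻¹ * (x * (v * u * v⁻¹)) * v * x⁻¹ := by rw [h2]
      _ = v⁻¹ * x * v * (u * x⁻¹) := by group
      _ = v⁻¹ * x * v * (x⁻¹ * u) := by rw [(show Commute u x⁻¹ from (Commute.inv_right (hx0 u hu).symm)).eq]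
      _ = z * u := by rw [hz]; group⟩
  have hpow : ∀ n : ℕ, x ^ n * v * (x ^ n)⁻¹ = v * z ^ n := by
    intro n
    induction n with
    | zero => simp
    | succ n ih =>
      calc x ^ (n + 1) * v * (x ^ (n + 1))⁻¹ = x * (x ^ n * v * (x ^ n)⁻¹) * x⁻¹ := by rw [pow_succ']; group
        _ = x * (v * z ^ n) * x⁻¹ := by rw [ih]
        _ = v * z * (x * z ^ n * x⁻¹) := by rw [hz]; group
        _ = v * z ^ (n + 1) := by rw [hx0 _ (pow_mem hz0 n), mul_inv_cancel_right, mul_assoc, pow_succ']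
  have hzo : z ^ orderOf x = 1 := by
    have h := hpow (orderOf x)
    rw [pow_orderOf_eq_one, one_mul, inv_one, mul_one] at h
    exact mul_eq_left.1 h.symm
  obtain ⟨k, hk⟩ := hP ⟨z, hzP⟩
  have hz1 : z = 1 := orderOf_eq_one_iff.1 (Nat.eq_one_of_dvd_coprimes (hxo.pow_right k)
    (orderOf_dvd_of_pow_eq_one hzo) (orderOf_dvd_of_pow_eq_one (show z ^ p ^ k = 1 from congrArg Subtype.val hk)))
  rw [hz, inv_mul_eq_one] at hz1
  exact (eq_mul_inv_iff_mul_eq.1 hz1).symm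

/-- If `D` covers the cosets of `C` in `G₀`, the index divides the order of `D`. -/
theorem index_dvd_of_cover (C D : Subgroup G) (h : ∀ g : G, ∃ d ∈ D, d⁻¹ * g ∈ C) :
    C.index ∣ Nat.card D := by
  have ho : MulAction.orbit D ((1 : G) : G ⧸ C) = Set.univ := Set.eq_univ_of_forall fun q => by
    obtain ⟨g, rfl⟩ := QuotientGroup.mk_surjective q
    obtain ⟨d, hd, hg⟩ := h g
    refine ⟨⟨d, hd⟩, ?_⟩
    show ((d * 1 : G) : G ⧸ C) = g
    rw [QuotientGroup.eq, mul_one]; exact hg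
  have h2 := Nat.card_congr (MulAction.orbitProdStabilizerEquivGroup D ((1 : G) : G ⧸ C))
  rw [Nat.card_prod, ho, Nat.card_univ] at h2
  exact Dvd.intro _ h2

end Cfsg.Agent.GW
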