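import Cfsg.Agent.Lib.GW.Fusion
import Cfsg.Agent.Lib.GW.Cores

/-!
# Involutions normalising a weakly closed p-subgroup, fixed points excluded

`Wc.trick`, `Wc.exists_four` (`N` has a four group), `Wc.sylow_le`; also `pp p x`, the action of
`Cent x` on `oCore x` and invariant Sylow subgroups under four groups.
-/

set_option autoImplicit false
set_option linter.style.haveILetI false
set_option linter.unusedSectionVars false

namespace Cfsg.Agent.GW

open Subgroup
open BSW (sq_of_order inv_of_order ne_one_of_order order_of_sq mem_cent)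
open scoped Pointwise

universe u

variable {G : Type u} [Group G] [Finite G] {S : Sylow 2 G} {t : G}

theorem odd_of_pow {p : ℕ} [Fact p.Prime] (hp : p ≠ 2) {y : G} (hy : ∃ k, y ^ p ^ k = 1) :
    Odd (orderOf y) := by
  obtain ⟨k, hk⟩ := hy
  exact (((Fact.out : p.Prime).odd_of_ne_two hp).pow).of_dvd_nat (orderOf_dvd_of_pow_eq_one hk)

theorem pow_prime_of_pGroup {p : ℕ} {Q : Subgroup G} (hQ : IsPGroup p Q) {y : G} (hy : y ∈ Q) :
    ∃ k, y ^ p ^ k = 1 := by
  obtain ⟨k, hk⟩ := hQ ⟨y, hy⟩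
  exact ⟨k, congrArg Subtype.val hk⟩

/-- Conjugation of an element normalised up to powers. -/
theorem conj_mem_normalizer_zpowers {g y : G} (h : g * y * g⁻¹ = y ∨ g * y * g⁻¹ = y⁻¹) :
    g ∈ normalizer (zpowers y : Set G) := mem_normalizer_iff_map_conj_eq.2 (by
  rw [MonoidHom.map_zpowers]
  show zpowers (g * y * g⁻¹) = zpowers y
  rcases h with h | h <;> rw [h]
  exact zpowers_inv)

theorem normalizer_zpowers_le_core (e : G) :
    normalizer (zpowers e : Set G) ≤ normalizer (core (Cent e) : Set G) := by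
  refine le_trans ?_ (Components.normalizer_le_normalizer_map_of_characteristic (Cent e) (Cfsg.oddCore (Cent e)))
  have key : ∀ g ∈ normalizer (zpowers e : Set G), ∀ z ∈ Cent e, g * z * g⁻¹ ∈ Cent e := by
    intro g hg z hz
    obtain ⟨i, hi⟩ := mem_zpowers_iff.1 ((mem_normalizer_iff''.1 hg e).1 (mem_zpowers e))
    refine mem_cent.2 ?_
    have hzc : Commute z (e ^ i) := (show Commute z e from mem_cent.1 hz).zpow_right i
    calc g * z * g⁻¹ * e = g * (z * (g⁻¹ * e * g)) * g⁻¹ := by group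
      _ = g * (e ^ i * z) * g⁻¹ := by rw [← hi, hzc.eq]
      _ = e * (g * z * g⁻¹) := by rw [hi]; group
  exact fun g hg => mem_normalizer_iff.2 fun z =>
    ⟨key g hg z, fun hz => by simpa [mul_assoc] using key _ (inv_mem hg) _ hz⟩

namespace Pair

variable {a b : G}

theorem four_le_cent (h : Pair a b) : h.four ≤ Cent a :=
  h.four_le (mem_cent.2 rfl) (mem_cent.2 h.comm.symm)

theorem four_le_normalizer (h : Pair a b) {Y : Subgroup G} (ha : a ∈ normalizer (Y : Set G))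
    (hb : b ∈ normalizer (Y : Set G)) : h.four ≤ normalizer (Y : Set G) := h.four_le ha hb

theorem conjugate (h : Pair a b) (g : G) : Pair (g * a * g⁻¹) (g * b * g⁻¹) :=
  ⟨(MulEquiv.orderOf_eq (MulAut.conj g) a).trans h.ha, (MulEquiv.orderOf_eq (MulAut.conj g) b).trans h.hb,
    by rw [conj_mul, conj_mul, h.comm], fun e => h.ne (mul_left_cancel (mul_right_cancel e))⟩

end Pair

/-- The p-elements of `oCore x`. -/
noncomputable def pp (p : ℕ) (x : G) : Subgroup G := (Cfsg.pCore p (oCore x)).map (oCore x).subtype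

namespace Hyp

variable {p : ℕ} [Fact p.Prime]

theorem mem_pp (hyp : Hyp S t) (nf : NoFixed G) {x y : G} (hx : orderOf x = 2) :
    y ∈ pp p x ↔ y ∈ oCore x ∧ ∃ k, y ^ p ^ k = 1 := by
  refine ⟨fun ⟨z, hz, e⟩ => ⟨e ▸ z.2, ?_⟩, fun ⟨hy, k, hk⟩ => ⟨⟨y, hy⟩, ?_, rfl⟩⟩
  · exact e ▸ pow_prime_of_pGroup ((PCore.isPGroup_pCore (p := p)).map (oCore x).subtype) ⟨z, hz, rfl⟩
  · obtain ⟨l, -, hl⟩ := (Nat.dvd_prime_pow Fact.out).1 (orderOf_dvd_of_pow_eq_one hk)
    haveI : (zpowers (⟨y, hy⟩ : oCore x)).Normal := ⟨fun w hw g => by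
      rw [show g * w = w * g from Subtype.ext (hyp.oCore_comm nf hx g.2 w.2).eq, mul_inv_cancel_right]
      exact hw⟩
    exact PCore.le_pCore (N := zpowers (⟨y, hy⟩ : oCore x))
      (IsPGroup.of_card (n := l) (by rw [Nat.card_zpowers, Subgroup.orderOf_mk, hl])) (mem_zpowers _)

theorem card_oCore_eq (hyp : Hyp S t) {x y : G} (hx : orderOf x = 2) (hy : orderOf y = 2) :
    Nat.card (oCore x) = Nat.card (oCore y) := by
  suffices key : ∀ x y : G, orderOf x = 2 → orderOf y = 2 → Nat.card (oCore x) ≤ Nat.card (oCore y) from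
    le_antisymm (key x y hx hy) (key y x hy hx)
  intro x y hx hy
  obtain ⟨g, rfl⟩ := isConj_iff.1 (hyp.isConj_invol hx hy)
  exact Nat.card_le_card_of_injective (fun z => ⟨g * (z : G) * g⁻¹, hyp.map_oCore hx g z.2⟩)
    fun z w h => Subtype.ext (mul_left_cancel (mul_right_cancel (congrArg Subtype.val h)))

/-- `Cent x` is its odd core times a Sylow 2-subgroup. -/
theorem cent_le_sup (hyp : Hyp S t) {x : G} (hx : orderOf x = 2) {T : Sylow 2 G} (hT : Hyp T x) :
    Cent x ≤ oCore x ⊔ (T : Subgroup G) := by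
  set J := (oCore x ⊔ (T : Subgroup G)).subgroupOf (Cent x)
  suffices h : J = ⊤ by
    intro y hy
    exact (h.ge (mem_top (⟨y, hy⟩ : Cent x)) : (⟨y, hy⟩ : Cent x) ∈ J)
  refine Subgroup.eq_top_of_le_card _ (Nat.le_of_dvd Nat.card_pos ?_)
  refine (Nat.dvd_iff_prime_pow_dvd_dvd _ _).2 fun q k hq hdvd => ?_
  haveI := Fact.mk hq
  obtain ⟨Q, hQ⟩ : ∃ Q : Sylow q (Cent x), (Q : Subgroup (Cent x)) ≤ J := by
    by_cases hq2 : q = 2
    · subst hq2
      exact ⟨T.subtype hT.sylow_le_cent, fun y hy =>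
        mem_sup_right (by rwa [Sylow.coe_subtype, mem_subgroupOf] at hy)⟩
    · refine ⟨default, fun y hy => mem_sup_left ((hyp.mem_oCore_iff hx).2 ⟨y.2, ?_⟩)⟩
      exact odd_of_pow hq2 (pow_prime_of_pGroup ((default : Sylow q (Cent x)).2.map (Cent x).subtype)
        ⟨y, hy, rfl⟩)
  have h1 := card_dvd_of_le hQ
  rw [Q.card_eq_multiplicity] at h1
  exact (pow_dvd_pow q ((hq.pow_dvd_iff_le_factorization Nat.card_pos.ne').1 hdvd)).trans h1

/-- `Cent x` acts on `oCore x` by plus or minus one. -/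
theorem cent_le_normalizer_zpowers (hyp : Hyp S t) (nf : NoFixed G) {x y : G} (hx : orderOf x = 2)
    (hy : y ∈ oCore x) : Cent x ≤ normalizer (zpowers y : Set G) := by
  obtain ⟨T, hT, -⟩ := hyp.exists_at hx ⊥ IsPGroup.of_bot bot_le
  refine (hyp.cent_le_sup hx hT).trans (sup_le (fun z hz => ?_) fun s hs => ?_)
  · exact conj_mem_normalizer_zpowers (Or.inl (by rw [(hyp.oCore_comm nf hx hz hy).eq, mul_inv_cancel_right]))
  · have hsx : s ∈ Cent x := hT.sylow_le_cent hs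
    by_cases h2 : s * s = 1
    · by_cases h1 : s = 1 ∨ s = x
      · refine conj_mem_normalizer_zpowers (Or.inl ?_)
        rcases h1 with rfl | rfl
        · simp
        · rw [← (mem_cent.1 (oCore_le_cent _ hy)), mul_inv_cancel_right]
      · push Not at h1
        exact conj_mem_normalizer_zpowers (Or.inr (hyp.inverts nf
          ⟨hx, order_of_sq h2 h1.1, (hT.centralS s hs).symm, h1.2.symm⟩ hy))
    · refine conj_mem_normalizer_zpowers (Or.inl ?_)
      rw [(hyp.commute_of_sq_ne_one nf hx hsx (pow_prime_of_pGroup T.2 hs) h2 hy).eq, mul_inv_cancel_right]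

theorem no_pair_cent (hyp : Hyp S t) (nf : NoFixed G) {y : G} (hy1 : y ≠ 1) (ho : Odd (orderOf y)) :
    ∀ a b : G, a ∈ Cent y → b ∈ Cent y → ¬ Pair a b := fun _ _ ha hb h =>
  hy1 (hyp.eq_one_of_pair nf h (mem_cent.1 ha).symm (mem_cent.1 hb).symm ho)

/-- An invariant Sylow subgroup of a subgroup of odd order normalised by a four group; it is unique. -/
theorem eq_of_invariant_sylow (hyp : Hyp S t) (nf : NoFixed G) {a b : G} (h : Pair a b) {W : Subgroup G}
    (hodd : Odd (Nat.card W)) (hV : h.four ≤ normalizer (W : Set G)) {p : ℕ} [Fact p.Prime]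
    (P Q : Sylow p W)
    (hP : h.four ≤ normalizer (((P : Subgroup W).map W.subtype : Subgroup G) : Set G))
    (hQ : h.four ≤ normalizer (((Q : Subgroup W).map W.subtype : Subgroup G) : Set G)) : P = Q := by
  haveI : Fact (Nat.Prime 2) := ⟨Nat.prime_two⟩
  obtain ⟨k, hk⟩ := h.isPGroup.exists_card_eq
  obtain ⟨c, hc, hcQ⟩ := Coprime.exists_centralizer_smul_sylow hV
    (hk ▸ (Nat.coprime_two_left.2 hodd).pow_left k) (Or.inr (Cfsg.Agent.S0205.result hodd)) P Q hP hQ
  have : c = 1 := Subtype.ext (hyp.eq_one_of_pair nf h (mem_centralizer_iff.1 hc a h.left_mem).symm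
    (mem_centralizer_iff.1 hc b h.right_mem).symm (hodd.of_dvd_nat (orderOf_dvd_natCard _ c.2)))
  rwa [this, one_smul] at hcQ

theorem exists_invariant_ge {W V : Subgroup G} (hodd : Odd (Nat.card W)) (hV2 : IsPGroup 2 V)
    (hV : V ≤ normalizer (W : Set G)) {p : ℕ} [Fact p.Prime] {U : Subgroup G} (hUW : U ≤ W)
    (hU : IsPGroup p U) (hVU : V ≤ normalizer (U : Set G)) :
    ∃ P : Sylow p W, U ≤ (P : Subgroup W).map W.subtype ∧
      V ≤ normalizer (((P : Subgroup W).map W.subtype : Subgroup G) : Set G) := by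
  haveI : Fact (Nat.Prime 2) := ⟨Nat.prime_two⟩
  obtain ⟨k, hk⟩ := hV2.exists_card_eq
  exact Coprime.exists_invariant_sylow_ge hV (hk ▸ (Nat.coprime_two_left.2 hodd).pow_left k)
    (Or.inr (Cfsg.Agent.S0205.result hodd)) hUW hU hVU

end Hyp

namespace Wc

variable {p : ℕ} [Fact p.Prime] {A : Subgroup G}

theorem odd (w : Wc p A) (hp : p ≠ 2) {e : G} (he : e ∈ A) : Odd (orderOf e) :=
  odd_of_pow hp (pow_prime_of_pGroup w.isPGroup he)

/-- An involution normalising `A` without fixed points on it inverts it. -/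
theorem inverts (w : Wc p A) (hp : p ≠ 2) {a : G} (ha : orderOf a = 2) (haA : a ∈ normalizer (A : Set G))
    (hfix : ∀ e ∈ A, Commute a e → e = 1) {e : G} (he : e ∈ A) : a * e * a⁻¹ = e⁻¹ := by
  have h1 : a * e * a⁻¹ ∈ A := (mem_normalizer_iff.1 haA e).1 he
  refine eq_inv_of_mul_eq_one_left (hfix _ (mul_mem h1 he) ?_)
  refine mul_inv_eq_iff_eq_mul.1 ?_
  calc a * (a * e * a⁻¹ * e) * a⁻¹ = a * a * e * (a * a)⁻¹ * (a * e * a⁻¹) := by group
    _ = e * (a * e * a⁻¹) := by rw [sq_of_order ha]; simp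
    _ = a * e * a⁻¹ * e := w.comm e he _ h1

/-- Two p-elements centralised by involutions of `N` link the classes of these involutions. -/
theorem trick (w : Wc p A) (hyp : Hyp S t) (nf : NoFixed G) (hp : p ≠ 2) {v v' e : G}
    (hv : orderOf v = 2) (hvN : v ∈ normalizer (A : Set G)) (hv' : orderOf v' = 2)
    (hv'N : v' ∈ normalizer (A : Set G)) (hR : pp p v' ≤ normalizer (A : Set G))
    (heN : e ∈ normalizer (A : Set G)) (hep : ∃ k, e ^ p ^ k = 1) (he1 : e ≠ 1) (hev : Commute e v) :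
    ∃ n ∈ normalizer (A : Set G), n * v * n⁻¹ = v' := by
  obtain ⟨g, hg⟩ := isConj_iff.1 (hyp.isConj_invol hv hv')
  have hep' : ∃ k, (g * e * g⁻¹) ^ p ^ k = 1 := by
    obtain ⟨k, hk⟩ := hep
    exact ⟨k, by rw [conj_pow, hk, mul_one, mul_inv_cancel]⟩
  have he' : g * e * g⁻¹ ∈ oCore v' :=
    hg ▸ hyp.map_oCore hv g ((hyp.mem_oCore_iff hv).2 ⟨mem_cent.2 hev.eq, odd_of_pow hp hep⟩)
  obtain ⟨n, hn, hne⟩ := w.fus e _ heN (hR ((hyp.mem_pp nf hv').2 ⟨he', hep'⟩)) hep (isConj_iff.2 ⟨g, rfl⟩)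
  have hi : orderOf (n * v * n⁻¹) = 2 := (MulEquiv.orderOf_eq (MulAut.conj n) v).trans hv
  obtain ⟨m, hm, hmv⟩ := (hyp.core_spec (L := normalizer (A : Set G) ⊓ Cent (g * e * g⁻¹)) fun a b ha hb =>
    hyp.no_pair_cent nf (fun h => he1 (conj_eq_one_iff.1 h)) (odd_of_pow hp hep') a b ha.2 hb.2).2
    (n * v * n⁻¹) v' (mem_inf.2 ⟨mul_mem (mul_mem hn hvN) (inv_mem hn), mem_cent.2 (by
      rw [← hne, conj_mul, conj_mul, hev.eq])⟩)
    (mem_inf.2 ⟨hv'N, mem_cent.2 (mem_cent.1 (Hyp.oCore_le_cent _ he')).symm⟩) hi hv'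
  refine ⟨m * n, mul_mem (core_le _ hm).1 hn, ?_⟩
  rw [show m * n * v * (m * n)⁻¹ = m * (n * v * n⁻¹) * m⁻¹ by group, hmv]

/-- If `A` centralises a nontrivial element of odd order fixed by an involution, `N` contains a four group. -/
theorem pair_of_cent (w : Wc p A) (hyp : Hyp S t) (nf : NoFixed G) (hp : p ≠ 2) {e x : G} (he1 : e ≠ 1)
    (he : Odd (orderOf e)) (hx : orderOf x = 2) (hex : Commute e x) (hA : A ≤ Cent e) :
    ∃ a b : G, Pair a b ∧ a ∈ normalizer (A : Set G) ∧ b ∈ normalizer (A : Set G) := by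
  obtain ⟨b, h⟩ := hyp.exists_pair hx
  have hxe : x ∈ normalizer (zpowers e : Set G) :=
    conj_mem_normalizer_zpowers (Or.inl (by rw [← hex.eq, mul_inv_cancel_right]))
  have hbe : b ∈ normalizer (zpowers e : Set G) :=
    conj_mem_normalizer_zpowers (Or.inr (hyp.inverts nf h ((hyp.mem_oCore_iff hx).2 ⟨mem_cent.2 hex.eq, he⟩)))
  have hVW' := (h.four_le hxe hbe).trans (normalizer_zpowers_le_core e)
  set W := core (Cent e)
  have hAW : A ≤ W := fun a ha => (hyp.core_spec (hyp.no_pair_cent nf he1 he)).1 a (hA ha) (w.odd hp ha)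
  have hVW : h.four ≤ normalizer (W : Set G) := hVW'
  obtain ⟨Q, -, hQV⟩ := Hyp.exists_invariant_ge (p := p) (odd_core (Cent e)) h.isPGroup hVW (U := ⊥) bot_le
    IsPGroup.of_bot (fun g _ => mem_normalizer_iff.2 fun z => by simp)
  obtain ⟨R, hR⟩ := (w.isPGroup.comap_subtype : IsPGroup p (A.subgroupOf W)).exists_le_sylow
  obtain ⟨c, hc⟩ := MulAction.exists_smul_eq W R Q
  set c' : G := (c : G)
  have hA' : A.map (MulAut.conj c').toMonoidHom ≤ (Q : Subgroup W).map W.subtype := by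
    rintro _ ⟨a, ha, rfl⟩
    refine ⟨c * ⟨a, hAW ha⟩ * c⁻¹, ?_, rfl⟩
    rw [← hc]
    exact Subgroup.smul_mem_pointwise_smul _ (MulAut.conj c) (R : Subgroup W) (hR ha)
  have hV' := hQV.trans ((w.conj c').normalizer_le (Q.2.map _) hA')
  have back : ∀ {g : G}, g ∈ normalizer (A.map (MulAut.conj c').toMonoidHom : Set G) →
      c'⁻¹ * g * c'⁻¹⁻¹ ∈ normalizer (A : Set G) := by
    intro g hg
    refine mem_normalizer_iff.2 fun a => ?_
    have h1 := mem_normalizer_iff.1 hg (c' * a * c'⁻¹)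
    constructor
    · intro ha
      obtain ⟨z, hz, hze⟩ := h1.1 ⟨a, ha, rfl⟩
      rw [SetLike.mem_coe] at hz
      convert hz using 2
      have : c' * z * c'⁻¹ = g * (c' * a * c'⁻¹) * g⁻¹ := hze
      calc c'⁻¹ * g * c'⁻¹⁻¹ * a * (c'⁻¹ * g * c'⁻¹⁻¹)⁻¹ = c'⁻¹ * (g * (c' * a * c'⁻¹) * g⁻¹) * c' := by group
        _ = z := by rw [← this]; group
    · intro ha
      obtain ⟨z, hz, hze⟩ := h1.2 ⟨_, ha, by simp [mul_assoc]⟩
      have : z = a := mul_left_cancel (mul_right_cancel hze)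
      exact this ▸ hz
  exact ⟨_, _, h.conjugate c'⁻¹, back (hV' h.left_mem), back (hV' h.right_mem)⟩

/-- `N` contains a four group. -/
theorem exists_four (w : Wc p A) (hyp : Hyp S t) (nf : NoFixed G) (hp : p ≠ 2) {r : G} (hr : r ∈ pp p t)
    (hr1 : r ≠ 1) (hrN : r ∈ normalizer (A : Set G)) :
    ∃ a b : G, Pair a b ∧ a ∈ normalizer (A : Set G) ∧ b ∈ normalizer (A : Set G) := by
  obtain ⟨hrO, hrp⟩ := (hyp.mem_pp nf hyp.orderT).1 hr
  have hro : Odd (orderOf r) := odd_of_pow hp hrp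
  have hrne : r⁻¹ ≠ r := fun h => hr1 (by
    have h2 : r ^ 2 = 1 := by rw [pow_two]; nth_rw 1 [← h]; exact inv_mul_cancel r
    exact orderOf_eq_one_iff.1 (Nat.eq_one_of_dvd_coprimes (Nat.coprime_two_right.2 hro) dvd_rfl
      (orderOf_dvd_of_pow_eq_one h2)))
  obtain ⟨s, hs⟩ := hyp.exists_pair hyp.orderT
  obtain ⟨n, hn, hne⟩ := w.fus r r⁻¹ hrN (inv_mem hrN) hrp (isConj_iff.2 ⟨s, hyp.inverts nf hs hrO⟩)
  -- the 2-part of `n` inverts `r`
  obtain ⟨i, m, hm, hnm⟩ := Nat.exists_eq_two_pow_mul_odd (orderOf_pos n).ne'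
  set q := n ^ m with hq
  have hqN : q ∈ normalizer (A : Set G) := pow_mem hn m
  have hodd_inv : ∀ j : ℕ, n ^ j * r * (n ^ j)⁻¹ = if Odd j then r⁻¹ else r := by
    intro j
    induction j with
    | zero => simp
    | succ j ih =>
      rw [show n ^ (j + 1) * r * (n ^ (j + 1))⁻¹ = n * (n ^ j * r * (n ^ j)⁻¹) * n⁻¹ by
        rw [pow_succ']; group, ih]
      by_cases hj : Odd j
      · rw [if_pos hj, if_neg (by simpa [Nat.odd_add_one] using hj)]
        rw [← conj_inv, hne, inv_inv]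
      · rw [if_neg hj, if_pos (Nat.odd_add_one.2 hj)]
        exact hne
  have hqr : q * r * q⁻¹ = r⁻¹ := by rw [hq, hodd_inv, if_pos hm]
  have hq2 : q * q = 1 := by
    by_contra hne2
    have hqo : orderOf q = 2 ^ i := by
      rw [hq, orderOf_pow_of_dvd (Nat.pos_iff_ne_zero.1 hm.pos) (hnm ▸ Dvd.intro_left _ rfl), hnm,
        Nat.mul_div_cancel _ hm.pos]
    obtain ⟨j, rfl⟩ : ∃ j, i = j + 2 := ⟨i - 2, by
      rcases i with _ | _ | i
      · exact absurd (by rw [orderOf_eq_one_iff.1 hqo, one_mul]) hne2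
      · exact absurd (by rw [← pow_two, show (2 : ℕ) = orderOf q from hqo.symm, pow_orderOf_eq_one]) hne2
      · omega⟩
    set x := q ^ (2 ^ (j + 1)) with hx
    have hx2 : orderOf x = 2 := by
      rw [hx, orderOf_pow_of_dvd (by positivity) (hqo ▸ pow_dvd_pow 2 (by omega)), hqo,
        Nat.pow_div (by omega) two_pos, show j + 2 - (j + 1) = 1 by omega, pow_one]
    have hxr : Commute x r := by
      have he : x * r * x⁻¹ = r := by
        rw [hx, hq, ← pow_mul, hodd_inv, if_neg]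
        exact Nat.not_odd_iff_even.2 ((Nat.even_pow.2 ⟨even_two, by omega⟩).mul_left m)
      exact mul_inv_eq_iff_eq_mul.1 he
    have hc : Commute q r := hyp.commute_of_sq_ne_one nf hx2 (mem_cent.2 (Commute.self_pow q _).eq)
      ⟨j + 2, by rw [← hqo, pow_orderOf_eq_one]⟩ hne2
      ((hyp.mem_oCore_iff hx2).2 ⟨mem_cent.2 hxr.symm.eq, hro⟩)
    exact hrne (by rw [← hqr, hc.eq, mul_inv_cancel_right])
  have hqo : orderOf q = 2 := order_of_sq hq2 fun h => hrne (by rw [← hqr, h]; simp)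
  by_cases hfix : ∀ x : G, orderOf x = 2 → x ∈ normalizer (A : Set G) → ∀ e ∈ A, Commute x e → e = 1
  · refine w.pair_of_cent hyp nf hp hr1 hro hyp.orderT (mem_cent.1 (Hyp.oCore_le_cent t hrO))
      fun a ha => mem_cent.2 ?_
    have inv := fun {e : G} (he : e ∈ A) => w.inverts hp hqo hqN (hfix q hqo hqN) he
    have hra : r * a * r⁻¹ ∈ A := (mem_normalizer_iff.1 hrN a).1 ha
    have h1 := inv hra
    rw [show q * (r * a * r⁻¹) * q⁻¹ = (q * r * q⁻¹) * (q * a * q⁻¹) * (q * r * q⁻¹)⁻¹ by group, hqr,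
      inv ha, inv_inv, conj_inv] at h1
    -- `r²` centralises `a⁻¹`, hence so does `r`
    have h2 : Commute (r * r) a⁻¹ := by
      calc r * r * a⁻¹ = r * (r * a⁻¹ * r⁻¹) * r := by group
        _ = r * (r⁻¹ * a⁻¹ * r) * r := by rw [h1]
        _ = a⁻¹ * (r * r) := by group
    obtain ⟨l, hl⟩ := hro
    have h3 : (r * r) ^ (l + 1) = r := by
      rw [← pow_two, ← pow_mul, show 2 * (l + 1) = orderOf r + 1 by omega, pow_succ, pow_orderOf_eq_one, one_mul]
    exact (h3 ▸ (h2.inv_right.pow_left (l + 1)) |> fun h => by simpa using h.symm.eq)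
  · push Not at hfix
    obtain ⟨x, hx, -, e, he, hxe, he1⟩ := hfix
    exact w.pair_of_cent hyp nf hp he1 (w.odd hp he) hx hxe.symm fun a ha => mem_cent.2 (w.comm a ha e he)

/-- An involution of `N` fixing a point of `A` has a Sylow 2-subgroup and its p-core part in `N`. -/
theorem sylow_le (w : Wc p A) (hyp : Hyp S t) (nf : NoFixed G) (hp : p ≠ 2) {a b : G} (h : Pair a b)
    (haN : a ∈ normalizer (A : Set G)) (hbN : b ∈ normalizer (A : Set G)) {e : G} (he : e ∈ A) (he1 : e ≠ 1)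
    (hea : Commute e a) :
    (∃ T : Sylow 2 G, Hyp T a ∧ h.four ≤ (T : Subgroup G) ∧ (T : Subgroup G) ≤ normalizer (A : Set G)) ∧
      pp p a ≤ normalizer (A : Set G) := by
  have heO : e ∈ oCore a := (hyp.mem_oCore_iff h.ha).2 ⟨mem_cent.2 hea.eq, w.odd hp he⟩
  obtain ⟨T, hT, hVT⟩ := hyp.exists_at h.ha h.four h.isPGroup h.four_le_cent
  set W := core (Cent e)
  have hcore := (hyp.core_spec (hyp.no_pair_cent nf he1 (w.odd hp he))).1
  have hCW : Cent a ≤ normalizer (W : Set G) :=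
    (hyp.cent_le_normalizer_zpowers nf h.ha heO).trans (normalizer_zpowers_le_core e)
  have hVW : h.four ≤ normalizer (W : Set G) := hVT.trans (hT.sylow_le_cent.trans hCW)
  have hAW : A ≤ W := fun z hz => hcore z (mem_cent.2 (w.comm z hz e he)) (w.odd hp hz)
  obtain ⟨Q₀, -, hQ₀⟩ := Hyp.exists_invariant_ge (p := p) (odd_core (Cent e)) T.2
    (hT.sylow_le_cent.trans hCW) (U := ⊥) bot_le IsPGroup.of_bot
    (fun g _ => mem_normalizer_iff.2 fun z => by simp)
  have hin : ∀ U : Subgroup G, U ≤ W → IsPGroup p U → h.four ≤ normalizer (U : Set G) →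
      U ≤ (Q₀ : Subgroup W).map W.subtype := fun U hUW hU hVU => by
    obtain ⟨Q₁, hU1, hQ₁⟩ := Hyp.exists_invariant_ge (p := p) (odd_core (Cent e)) h.isPGroup hVW hUW hU hVU
    rwa [hyp.eq_of_invariant_sylow nf h (odd_core (Cent e)) hVW Q₁ Q₀ hQ₁ (hVT.trans hQ₀)] at hU1
  have hAQ : A ≤ (Q₀ : Subgroup W).map W.subtype := hin A hAW w.isPGroup (h.four_le haN hbN)
  have hQN : normalizer (((Q₀ : Subgroup W).map W.subtype : Subgroup G) : Set G) ≤ normalizer (A : Set G) :=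
    w.normalizer_le (Q₀.2.map _) hAQ
  refine ⟨⟨T, hT, hVT, hQ₀.trans hQN⟩, (hin _ ?_ ?_ ?_).trans (Subgroup.le_normalizer.trans hQN)⟩
  · exact fun z hz => hcore z (mem_cent.2 (hyp.oCore_comm nf h.ha ((hyp.mem_pp nf h.ha).1 hz).1 heO).eq)
      (((hyp.mem_oCore_iff h.ha).1 ((hyp.mem_pp nf h.ha).1 hz).1).2)
  · exact (PCore.isPGroup_pCore (p := p)).map _
  · exact h.four_le_cent.trans ((Hyp.cent_le_normalizer a).trans
      (Components.normalizer_le_normalizer_map_of_characteristic (oCore a) (Cfsg.pCore p (oCore a))))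

theorem fixed_eq_one (w : Wc p A) (hyp : Hyp S t) (nf : NoFixed G) (hp : p ≠ 2) {a b : G} (h : Pair a b)
    {e : G} (he : e ∈ A) (ha : Commute e a) (hb : Commute e b) : e = 1 :=
  hyp.eq_one_of_pair nf h ha hb (w.odd hp he)

end Wc

end Cfsg.Agent.GW
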