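import Cfsg.Agent.Lib.GW.KFacts
import Cfsg.Agent.Lib.GW.Basic
import Cfsg.Agent.Lib.Coprime.Generation
import Cfsg.Agent.Lib.PSL2.Dickson
import Cfsg.Agent.Lib.GL.Simple

/-!
# Centralisers of involutions of a component

`cent_eq_of_complement`: if `E ⊴ H` is `PSL₂(q)` or `A₇`, `t ∈ E` is an involution and `L ≥ C_H(t)`
has a normal 2-complement then `L = C_H(t)`.
-/

set_option autoImplicit false
set_option linter.style.haveILetI false

namespace Cfsg.Agent.GW

open Subgroup
open BSW (sq_of_order inv_of_order ne_one_of_order order_of_sq mem_cent)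
open scoped MatrixGroups Pointwise

universe u

/-- A four group is generated by two commuting involutions, one of them prescribed. -/
theorem exists_four_containing {X : Type u} [Group X] [Finite X] (hd : SubDihedral X) {t : X}
    (ht : orderOf t = 2) (hnc : ¬ Cfsg.HasNormalPComplement 2 X) :
    ∃ S : Sylow 2 X, t ∈ (S : Subgroup X) ∧ ∃ n, 2 ≤ n ∧
      Nonempty ((S : Subgroup X) ≃* DihedralGroup n) := by
  haveI : Fact (Nat.Prime 2) := ⟨Nat.prime_two⟩
  obtain ⟨S, hS⟩ := (IsPGroup.of_card (p := 2) (n := 1) (G := zpowers t)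
    (by rw [Nat.card_zpowers, ht, pow_one])).exists_le_sylow
  exact ⟨S, hS (mem_zpowers t),
    (hd S).resolve_left fun h => hnc (hasNormalPComplement_of_cyclic_two S h)⟩

/-- A noncommutative simple group of even order has no normal 2-complement. -/
theorem not_complement_of_simple {X : Type u} [Group X] [Finite X] [hX : IsSimpleGroup X]
    (hna : ¬ IsMulCommutative X) (heven : 2 ∣ Nat.card X) : ¬ Cfsg.HasNormalPComplement 2 X := by
  haveI : Fact (Nat.Prime 2) := ⟨Nat.prime_two⟩
  rintro ⟨P, N, hN, hc⟩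
  rcases hX.eq_bot_or_eq_top_of_normal N hN with h | h
  · subst h
    rw [isComplement'_bot_left] at hc
    have hp : IsPGroup 2 X := PCore.isPGroup_top_iff.mp (hc ▸ P.2)
    haveI := hp.isNilpotent
    rcases hX.eq_bot_or_eq_top_of_normal (center X) inferInstance with h | h
    · exact absurd h hp.bot_lt_center.ne'
    · exact hna ⟨⟨fun a b => (mem_center_iff.mp (h ▸ mem_top b) a)⟩⟩
  · subst h
    rw [isComplement'_top_left] at hc
    have := P.not_dvd_index
    rw [hc, index_bot] at this
    exact this heven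

/-- All involutions of a simple group with dihedral Sylow 2-subgroups are conjugate. -/
theorem isConj_invol_of_simple {X : Type u} [Group X] [Finite X] [hX : IsSimpleGroup X]
    (hd : SubDihedral X) (hna : ¬ IsMulCommutative X) (heven : 2 ∣ Nat.card X) {a b : X}
    (ha : orderOf a = 2) (hb : orderOf b = 2) : IsConj a b := by
  haveI : Fact (Nat.Prime 2) := ⟨Nat.prime_two⟩
  obtain ⟨S, -, n, hn, he⟩ := exists_four_containing hd ha (not_complement_of_simple hna heven)
  haveI : Nontrivial (S : Subgroup X) :=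
    (nontrivial_iff_ne_bot _).mpr (S.ne_bot_of_dvd_card heven)
  obtain ⟨k, hk, hcard⟩ :=
    (S.2.to_subgroup (center (S : Subgroup X))).nontrivial_iff_card.mp S.2.center_nontrivial
  obtain ⟨z, hz⟩ := exists_prime_orderOf_dvd_card' (G := center (S : Subgroup X)) 2
    (hcard ▸ dvd_pow_self 2 hk.ne')
  have hyp : Hyp S ((z : (S : Subgroup X)) : X) :=
    ⟨hX, ⟨n, hn, he⟩, by rw [orderOf_coe, orderOf_coe]; exact hz, (z : (S : Subgroup X)).2,
      fun s hs => congrArg Subtype.val (mem_center_iff.mp z.2 ⟨s, hs⟩)⟩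
  exact hyp.isConj_invol ha hb

/-- `A₄` has no normal 2-complement. -/
theorem alt_four_no_complement : ¬ Cfsg.HasNormalPComplement 2 (alternatingGroup (Fin 4)) := by
  haveI : Fact (Nat.Prime 2) := ⟨Nat.prime_two⟩
  rintro ⟨P, N, hN, hcN⟩
  have hodd := Nat.coprime_two_right.mp (Transfer.coprime_card_of_isComplement'_sylow P hcN)
  have h12 : Nat.card (alternatingGroup (Fin 4)) = 12 := by
    rw [nat_card_alternatingGroup]; simp [Nat.factorial]
  have h3' : Nat.card N ∣ 3 := Nat.Coprime.dvd_of_dvd_mul_left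
    ((Nat.coprime_two_right.mpr hodd).pow_right 2)
    (show Nat.card N ∣ 2 ^ 2 * 3 by
      have h := card_subgroup_dvd_card N
      rw [h12] at h
      exact h)
  have key : ∀ z : alternatingGroup (Fin 4), z * z * z = 1 → z ≠ 1 →
      ∃ g, g * z * g⁻¹ ≠ 1 ∧ g * z * g⁻¹ ≠ z ∧ g * z * g⁻¹ ≠ z * z := by decide +kernel
  rcases (Nat.dvd_prime Nat.prime_three).1 h3' with h1 | h1
  · have hbot := eq_bot_of_card_eq _ h1
    subst hbot
    rw [isComplement'_bot_left] at hcN
    obtain ⟨j, hj⟩ := IsPGroup.iff_card.mp P.2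
    rw [hcN, card_top, h12] at hj
    have : (3 : ℕ) ∣ 2 ^ j := hj ▸ by norm_num
    exact absurd ((Nat.prime_dvd_prime_iff_eq Nat.prime_three Nat.prime_two).1
      (Nat.prime_three.dvd_of_dvd_pow this)) (by norm_num)
  · haveI := Fact.mk Nat.prime_three
    obtain ⟨z, hz⟩ := exists_prime_orderOf_dvd_card' (G := N) 3 (by rw [h1])
    have hz3 : (z : alternatingGroup (Fin 4)) * z * z = 1 := by
      have := pow_orderOf_eq_one z
      rw [hz, pow_succ, pow_two] at this
      exact congrArg Subtype.val this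
    have hz1 : (z : alternatingGroup (Fin 4)) ≠ 1 := fun h => by
      rw [show z = 1 from Subtype.ext h, orderOf_one] at hz; omega
    obtain ⟨g', g1, g2, g3⟩ := key _ hz3 hz1
    have hgN : g' * z * g'⁻¹ ∈ N := hN.conj_mem _ z.2 g'
    obtain ⟨i, hi⟩ := mem_zpowers_iff.1 (show (⟨_, hgN⟩ : N) ∈ zpowers z by
      rw [show zpowers z = ⊤ from eq_top_of_card_eq _ (by rw [Nat.card_zpowers, hz, h1])]
      exact mem_top _)
    rw [← zpow_mod_orderOf, hz] at hi
    have hi0 : i % 3 = 0 ∨ i % 3 = 1 ∨ i % 3 = 2 := by omega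
    rcases hi0 with e' | e' | e' <;> rw [show ((3 : ℕ) : ℤ) = 3 from rfl, e'] at hi
    · exact g1 (congrArg Subtype.val (zpow_zero z ▸ hi).symm)
    · exact g2 (congrArg Subtype.val (zpow_one z ▸ hi).symm)
    · exact g3 (congrArg Subtype.val (show (⟨_, hgN⟩ : N) = z * z by
        rw [← hi]; exact zpow_two z))

theorem IsKnown.not_comm {X : Type u} [Group X] (h : IsKnown X) : ¬ IsMulCommutative X := by
  intro hc
  rcases h with ⟨F, iF, iF', hodd, h3, ⟨e⟩⟩ | ⟨⟨e⟩⟩
  · refine GL.PSL_not_comm (F := F) 2 le_rfl (fun _ => by rw [Nat.card_eq_fintype_card]; omega)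
      fun a b => ?_
    exact e.symm.injective (by rw [map_mul, map_mul]; exact hc.is_comm.comm _ _)
  · have key : ∀ a b : alternatingGroup (Fin 7), a * b = b * a := fun a b =>
      e.symm.injective (by rw [map_mul, map_mul]; exact hc.is_comm.comm _ _)
    have := key ⟨Equiv.swap 0 1 * Equiv.swap 1 2, Equiv.Perm.mem_alternatingGroup.mpr (by decide)⟩
      ⟨Equiv.swap 0 1 * Equiv.swap 1 3, Equiv.Perm.mem_alternatingGroup.mpr (by decide)⟩
    revert this
    decide

/-- The centraliser of a fixed-point-free involution in `S₄` has exponent 4. -/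
theorem perm_four_commute_double : ∀ g w : Equiv.Perm {i : Fin 7 // i.val < 4}, g * w = w * g →
    (∀ i, w (w i) = i) → (∀ i, w i ≠ i) → g ^ 4 = 1 := by
  decide +kernel

/-- An odd element of `S₇` commuting with a double transposition on `{0,1,2,3}` fixes `{0,1,2,3}`. -/
theorem fix_of_commute_double {k v : Equiv.Perm (Fin 7)} (hk : Odd (orderOf k))
    (hv : v = Equiv.swap 0 1 * Equiv.swap 2 3 ∨ v = Equiv.swap 0 2 * Equiv.swap 1 3 ∨
      v = Equiv.swap 0 3 * Equiv.swap 1 2)
    (hc : k * v = v * k) : Commute k (Equiv.swap 0 1 * Equiv.swap 2 3) := by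
  classical
  have hvsupp : ∀ i : Fin 7, v i ≠ i ↔ i.val < 4 := by
    rcases hv with rfl | rfl | rfl <;> decide
  have hpres : ∀ i : Fin 7, (k i).val < 4 ↔ i.val < 4 := by
    intro i
    rw [← hvsupp, ← hvsupp, ← Equiv.Perm.mul_apply v k, ← hc, Equiv.Perm.mul_apply]
    exact k.injective.ne_iff
  have hvpres : ∀ i : Fin 7, (v i).val < 4 ↔ i.val < 4 := by
    rcases hv with rfl | rfl | rfl <;> decide
  set f : Equiv.Perm {i : Fin 7 // i.val < 4} := k.subtypePerm hpres with hf
  set w : Equiv.Perm {i : Fin 7 // i.val < 4} := v.subtypePerm hvpres with hw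
  have hfw : f * w = w * f := by
    ext ⟨i, hi⟩
    exact congrArg Fin.val (Equiv.Perm.congr_fun hc i)
  have hf4 : f ^ 4 = 1 := by
    refine perm_four_commute_double f w hfw ?_ ?_
    · refine fun i => Subtype.ext ?_
      show v (v (i : Fin 7)) = (i : Fin 7)
      clear hvsupp hpres hc hfw hf f hw w hvpres
      rcases hv with rfl | rfl | rfl <;> revert i <;> decide
    · exact fun i h => (hvsupp i).2 i.2 (congrArg Subtype.val h)
  obtain ⟨j, hj⟩ : ∃ j : ℕ, k = (k ^ 4) ^ j := by
    obtain ⟨a, ha⟩ := hk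
    rcases Nat.even_or_odd' a with ⟨b, rfl | rfl⟩
    · exact ⟨3 * b + 1, by
        rw [← pow_mul, show 4 * (3 * b + 1) = (4 * b + 1) * 3 + 1 by ring, pow_succ, pow_mul,
          show 4 * b + 1 = orderOf k by omega, pow_orderOf_eq_one, one_pow, one_mul]⟩
    · exact ⟨b + 1, by
        rw [← pow_mul, show 4 * (b + 1) = (4 * b + 3) + 1 by ring, pow_succ,
          show 4 * b + 3 = orderOf k by omega, pow_orderOf_eq_one, one_mul]⟩
  have hfix : ∀ i : Fin 7, i.val < 4 → k i = i := by
    intro i hi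
    have h4 : (k ^ 4) i = i := by
      have := congrArg Subtype.val (Equiv.Perm.congr_fun hf4 ⟨i, hi⟩)
      rwa [hf, Equiv.Perm.subtypePerm_pow] at this
    rw [hj]
    exact Function.IsFixedPt.perm_pow h4 j
  have hoth : ∀ i : Fin 7, ¬ i.val < 4 → (Equiv.swap 0 1 * Equiv.swap 2 3 : Equiv.Perm (Fin 7)) i = i := by
    decide
  have hin : ∀ i : Fin 7, i.val < 4 → ((Equiv.swap 0 1 * Equiv.swap 2 3 : Equiv.Perm (Fin 7)) i).val < 4 := by
    decide
  refine Equiv.ext fun i => ?_
  show k ((Equiv.swap 0 1 * Equiv.swap 2 3 : Equiv.Perm (Fin 7)) i) =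
    (Equiv.swap 0 1 * Equiv.swap 2 3 : Equiv.Perm (Fin 7)) (k i)
  by_cases hi : i.val < 4
  · rw [hfix i hi, hfix _ (hin i hi)]
  · rw [hoth i hi, hoth _ (fun h => hi ((hpres i).mp h))]

/-- In `A₇`, odd elements of a subgroup over `C(t)` with a normal 2-complement centralise `t`. -/
theorem alt_seven_complement_le_cent {t : alternatingGroup (Fin 7)} (ht : orderOf t = 2)
    {L : Subgroup (alternatingGroup (Fin 7))} (hle : centralizer ({t} : Set _) ≤ L)
    (hc : Cfsg.HasNormalPComplement 2 L) {x : alternatingGroup (Fin 7)} (hxL : x ∈ L)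
    (hx : Odd (orderOf x)) : Commute x t := by
  classical
  haveI : Fact (Nat.Prime 2) := ⟨Nat.prime_two⟩
  -- the shape of `t`
  have htP : orderOf (t : Equiv.Perm (Fin 7)) = 2 := by rw [orderOf_coe]; exact ht
  obtain ⟨n, hn⟩ := Equiv.Perm.cycleType_prime_order (by rw [htP]; exact Nat.prime_two)
  rw [htP] at hn
  have hsum : (t : Equiv.Perm (Fin 7)).cycleType.sum ≤ 7 := by
    rw [Equiv.Perm.sum_cycleType]
    exact le_trans (Finset.card_le_univ _) (by simp)
  have hpar := Equiv.Perm.mem_alternatingGroup.mp t.2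
  rw [Equiv.Perm.sign_of_cycleType, neg_one_pow_eq_one_iff_even (by decide)] at hpar
  rw [hn, Multiset.sum_replicate, smul_eq_mul] at hsum
  rw [hn, Multiset.sum_replicate, Multiset.card_replicate, smul_eq_mul] at hpar
  have hn1 : n = 1 := by
    obtain ⟨m, hm⟩ := hpar
    omega
  subst hn1
  set t₀ : Equiv.Perm (Fin 7) := Equiv.swap 0 1 * Equiv.swap 2 3 with ht₀
  obtain ⟨σ, hσ⟩ := isConj_iff.1 (Equiv.Perm.isConj_iff_cycleType_eq.2
    (show (t : Equiv.Perm (Fin 7)).cycleType = t₀.cycleType by rw [hn, ht₀]; decide))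
  -- move everything to `t₀`
  let c : MulAut (alternatingGroup (Fin 7)) := MulAut.conjNormal σ
  set T₀ : alternatingGroup (Fin 7) := c t with hT₀
  have hT₀v : (T₀ : Equiv.Perm (Fin 7)) = t₀ := hσ
  set L₀ := L.map c.toMonoidHom with hL₀
  have hle₀ : centralizer ({T₀} : Set _) ≤ L₀ := by
    intro y hy
    refine ⟨c.symm y, hle (mem_centralizer_singleton_iff.2 ?_), c.apply_symm_apply y⟩
    apply c.injective
    rw [map_mul, map_mul, c.apply_symm_apply]
    exact mem_centralizer_singleton_iff.1 hy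
  have hc₀ : Cfsg.HasNormalPComplement 2 L₀ :=
    Transfer.hasNormalPComplement_of_surjective
      (L.equivMapOfInjective c.toMonoidHom c.injective).toMonoidHom
      (L.equivMapOfInjective c.toMonoidHom c.injective).surjective hc
  set K := (Cfsg.pResidual 2 L₀).map L₀.subtype with hK
  have hKodd : Odd (Nat.card K) := by
    rw [hK, card_map_of_injective L₀.subtype_injective, ← Nat.not_even_iff_odd, even_iff_two_dvd]
    exact Transfer.hasNormalPComplement_iff.mp hc₀
  let mkA : (v : Equiv.Perm (Fin 7)) → Equiv.Perm.sign v = 1 → alternatingGroup (Fin 7) :=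
    fun v h => ⟨v, Equiv.Perm.mem_alternatingGroup.2 h⟩
  set B : alternatingGroup (Fin 7) :=
    mkA (Equiv.swap 0 2 * Equiv.swap 1 3) (by decide) with hB
  have hTo : orderOf T₀ = 2 := (MulEquiv.orderOf_eq c t).trans ht
  have hBo : orderOf B = 2 := orderOf_eq_prime (by rw [pow_two]; exact Subtype.ext (by decide))
    (fun h => absurd (congrArg Subtype.val h) (by decide))
  have hTB : T₀ * B = B * T₀ := Subtype.ext (by
    rw [Subgroup.coe_mul, Subgroup.coe_mul, hT₀v, ht₀]; decide)
  have hTne : T₀ ≠ B := fun h => by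
    have h' := congrArg Subtype.val h
    rw [hT₀v, ht₀] at h'
    revert h'; decide
  have hp : Pair T₀ B := ⟨hTo, hBo, hTB, hTne⟩
  have hVL : hp.four ≤ L₀ := hp.four_le (hle₀ (mem_centralizer_singleton_iff.2 rfl))
    (hle₀ (mem_centralizer_singleton_iff.2 hTB.symm))
  have hVK : hp.four ≤ normalizer (K : Set _) := hVL.trans (by
    haveI := Transfer.pResidual_normal (G := L₀) 2
    exact (normal_subgroupOf_iff_le_normalizer (map_subtype_le _)).1 (by
      rw [show ((Cfsg.pResidual 2 L₀).map L₀.subtype).subgroupOf L₀ = Cfsg.pResidual 2 L₀ from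
        comap_map_eq_self_of_injective L₀.subtype_injective _]
      infer_instance))
  haveI : IsMulCommutative hp.four :=
    ⟨⟨fun a b => Subtype.ext (hp.commute_of_mem_four a.2 b.2).eq⟩⟩
  have hcyc : ¬ IsCyclic hp.four := by
    intro hcy
    haveI := hcy
    obtain ⟨g, hg⟩ := IsCyclic.exists_generator (α := hp.four)
    have := eq_of_invol_zpowers (σ := (g : alternatingGroup (Fin 7))) (x := T₀) (y := B) ?_ ?_ hTo hBo
    · exact hTne this
    · obtain ⟨i, hi⟩ := mem_zpowers_iff.mp (hg ⟨T₀, hp.left_mem⟩)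
      exact ⟨i, congrArg Subtype.val hi⟩
    · obtain ⟨i, hi⟩ := mem_zpowers_iff.mp (hg ⟨B, hp.right_mem⟩)
      exact ⟨i, congrArg Subtype.val hi⟩
  have hKT : K ⊓ centralizer ({T₀} : Set _) = K := by
    refine Coprime.eq_of_forall_centralizer_le hcyc hVK ?_ inf_le_left fun a ha ha1 => ?_
    · obtain ⟨i, hi⟩ := IsPGroup.iff_card.mp hp.isPGroup
      rw [hi]
      exact (Nat.coprime_two_left.mpr hKodd).pow_left i
    · rintro k ⟨hkK, hka⟩
      refine ⟨hkK, mem_centralizer_singleton_iff.2 (Subtype.ext ?_)⟩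
      have hko : Odd (orderOf (k : Equiv.Perm (Fin 7))) := by
        rw [orderOf_coe]
        exact hKodd.of_dvd_nat (Subgroup.orderOf_dvd_natCard K hkK)
      have hka' : (k : Equiv.Perm (Fin 7)) * (a : Equiv.Perm (Fin 7)) = a * k :=
        congrArg Subtype.val (mem_centralizer_singleton_iff.1 hka)
      rw [Subgroup.coe_mul, Subgroup.coe_mul, hT₀v]
      refine (fix_of_commute_double hko ?_ hka').eq
      rcases ha with rfl | rfl | rfl | rfl
      · exact absurd rfl ha1
      · exact Or.inl hT₀v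
      · exact Or.inr (Or.inl rfl)
      · refine Or.inr (Or.inr ?_)
        rw [Subgroup.coe_mul, hT₀v, ht₀, hB]
        decide
  have hxK : c x ∈ K := ⟨⟨c x, mem_map_of_mem _ hxL⟩, (Transfer.mem_pResidual_iff hc₀ _).mpr
    (by rw [← Subgroup.orderOf_coe]; show (orderOf (c x)).Coprime 2
        rw [MulEquiv.orderOf_eq]; exact Nat.coprime_two_right.mpr hx), rfl⟩
  have := mem_centralizer_singleton_iff.1 (hKT.ge hxK).2
  rw [hT₀, ← map_mul, ← map_mul] at this
  exact c.injective this

/-- In `PSL₂(q)`, a subgroup over `C(t)` with a normal 2-complement is `C(t)`. -/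
theorem psl_complement_le_cent {F : Type} [Field F] [Fintype F] (hodd : Odd (Fintype.card F))
    (h3 : 3 < Fintype.card F) {t : PSL(2, F)} (ht : orderOf t = 2) {L : Subgroup PSL(2, F)}
    (hle : centralizer ({t} : Set PSL(2, F)) ≤ L) (hc : Cfsg.HasNormalPComplement 2 L) :
    L = centralizer ({t} : Set PSL(2, F)) := by
  classical
  haveI : Fact (Nat.Prime 2) := ⟨Nat.prime_two⟩
  obtain ⟨p, hp'⟩ := CharP.exists F
  haveI := hp'
  haveI hpf : Fact p.Prime := ⟨CharP.char_is_prime F p⟩
  obtain ⟨e, -, he⟩ := FiniteField.card F p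
  have hpF : p ∣ Fintype.card F := he ▸ dvd_pow_self p e.ne_zero
  have hp2 : p ≠ 2 := by
    rintro rfl
    exact Nat.not_even_iff_odd.2 hodd (even_iff_two_dvd.2 hpF)
  have h2 : (2 : F) ≠ 0 := by
    intro h
    have h' : ((2 : ℕ) : F) = 0 := by exact_mod_cast h
    rw [CharP.cast_eq_zero_iff F p 2] at h'
    exact hp2 ((Nat.prime_dvd_prime_iff_eq hpf.out Nat.prime_two).1 h')
  set C := centralizer ({t} : Set PSL(2, F)) with hCdef
  obtain ⟨n, hn, ⟨eC⟩⟩ := PSL2.dihedral_centralizer_involution h2 ht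
  have hn2 : 2 ≤ n := by
    obtain ⟨j, hj⟩ := hodd
    omega
  have hcardC : Nat.card C = 2 * n := by rw [Nat.card_congr eC.toEquiv, DihedralGroup.nat_card]
  -- involution centralisers contain no element of order `p`
  have hinv : ∀ v : PSL(2, F), orderOf v = 2 → ¬ p ∣ Nat.card (centralizer ({v} : Set PSL(2, F))) := by
    intro v hv hd
    obtain ⟨a, b⟩ := PSL2.card_centralizer_involution h2 hv
    rcases (show Fintype.card F % 4 = 1 ∨ Fintype.card F % 4 = 3 by
      obtain ⟨j, hj⟩ := hodd; omega) with hm | hm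
    · rw [a hm] at hd
      have := Nat.dvd_sub hpF hd
      rw [Nat.sub_sub_self (by omega)] at this
      exact hpf.out.not_dvd_one this
    · rw [b hm] at hd
      exact hpf.out.not_dvd_one ((Nat.dvd_add_right hpF).1 hd)
  -- two commuting involutions in `C`
  haveI : NeZero n := ⟨by omega⟩
  obtain ⟨b, hb, hbC, hbt⟩ : ∃ b : PSL(2, F), orderOf b = 2 ∧ b ∈ C ∧ t ≠ b := by
    by_cases h : ((eC.symm (DihedralGroup.sr 0) : C) : PSL(2, F)) = t
    · refine ⟨eC.symm (DihedralGroup.sr 1), ?_, Subtype.coe_prop _, fun h' => ?_⟩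
      · rw [orderOf_coe, MulEquiv.orderOf_eq, DihedralGroup.orderOf_sr]
      · have := eC.symm.injective (Subtype.ext (h.trans h'))
        rw [DihedralGroup.sr.injEq] at this
        have h1 : ((1 : ℕ) : ZMod n) = 0 := by push_cast; exact this.symm
        rw [ZMod.natCast_eq_zero_iff] at h1
        exact absurd (Nat.le_of_dvd one_pos h1) (by omega)
    · refine ⟨eC.symm (DihedralGroup.sr 0), ?_, Subtype.coe_prop _, fun h' => h h'.symm⟩
      rw [orderOf_coe, MulEquiv.orderOf_eq, DihedralGroup.orderOf_sr]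
  have hp4 : Pair t b := ⟨ht, hb, (mem_centralizer_singleton_iff.1 hbC).symm, hbt⟩
  have hVL : hp4.four ≤ L :=
    hp4.four_le (hle (mem_centralizer_singleton_iff.2 rfl)) (hle hbC)
  haveI : IsMulCommutative hp4.four :=
    ⟨⟨fun x y => Subtype.ext (hp4.commute_of_mem_four x.2 y.2).eq⟩⟩
  have hcyc : ¬ IsCyclic hp4.four := by
    intro hcy
    haveI := hcy
    obtain ⟨g, hg⟩ := IsCyclic.exists_generator (α := hp4.four)
    have := eq_of_invol_zpowers (σ := (g : PSL(2, F))) (x := t) (y := b) ?_ ?_ ht hb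
    · exact hbt this
    · obtain ⟨i, hi⟩ := mem_zpowers_iff.mp (hg ⟨t, hp4.left_mem⟩)
      exact ⟨i, congrArg Subtype.val hi⟩
    · obtain ⟨i, hi⟩ := mem_zpowers_iff.mp (hg ⟨b, hp4.right_mem⟩)
      exact ⟨i, congrArg Subtype.val hi⟩
  -- a `p`-subgroup normalised by the four group is trivial
  have hpfix : ∀ Q : Subgroup PSL(2, F), IsPGroup p Q →
      hp4.four ≤ normalizer (Q : Set PSL(2, F)) → Q = ⊥ := by
    intro Q hQ hVQ
    obtain ⟨j, hj⟩ := IsPGroup.iff_card.mp hQ
    obtain ⟨i, hi⟩ := IsPGroup.iff_card.mp hp4.isPGroup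
    refine (Coprime.eq_of_forall_centralizer_le (K := Q) (S := ⊥) hcyc hVQ
      (by rw [hi, hj]; exact ((Nat.coprime_primes Nat.prime_two hpf.out).2 (Ne.symm hp2)).pow i j)
      bot_le fun a ha ha1 => ?_).symm
    intro x hx
    refine mem_bot.2 ?_
    have ha2 : orderOf a = 2 := by
      rcases ha with rfl | rfl | rfl | rfl
      exacts [absurd rfl ha1, ht, hb, hp4.order_mul]
    obtain ⟨l, hl⟩ := hQ ⟨x, hx.1⟩
    obtain ⟨r, -, hr⟩ := (Nat.dvd_prime_pow hpf.out).1
      (orderOf_dvd_of_pow_eq_one (by simpa using congrArg Subtype.val hl : x ^ p ^ l = 1))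
    rcases r with _ | r
    · exact orderOf_eq_one_iff.1 hr
    · exact absurd ((dvd_pow_self p r.succ_ne_zero).trans
        (hr ▸ Subgroup.orderOf_dvd_natCard _ hx.2)) (hinv a ha2)
  -- `L` has order prime to `p`
  set K := (Cfsg.pResidual 2 L).map L.subtype with hK
  have hKodd : Odd (Nat.card K) := by
    rw [hK, card_map_of_injective L.subtype_injective, ← Nat.not_even_iff_odd, even_iff_two_dvd]
    exact Transfer.hasNormalPComplement_iff.mp hc
  have hLK : L ≤ normalizer (K : Set PSL(2, F)) := by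
    haveI := Transfer.pResidual_normal (G := L) 2
    exact (normal_subgroupOf_iff_le_normalizer (map_subtype_le _)).1 (by
      rw [show ((Cfsg.pResidual 2 L).map L.subtype).subgroupOf L = Cfsg.pResidual 2 L from
        comap_map_eq_self_of_injective L.subtype_injective _]
      infer_instance)
  have hnp : ¬ p ∣ Nat.card L := by
    intro hd
    obtain ⟨x, hx⟩ := exists_prime_orderOf_dvd_card' (G := L) p hd
    have hxK : (x : PSL(2, F)) ∈ K := ⟨x, (Transfer.mem_pResidual_iff hc x).mpr
      (by rw [hx]; exact (Nat.coprime_primes hpf.out Nat.prime_two).2 hp2), rfl⟩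
    obtain ⟨i, hi⟩ := IsPGroup.iff_card.mp hp4.isPGroup
    obtain ⟨R, hR⟩ := Coprime.exists_invariant_sylow (hVL.trans hLK)
      (hi ▸ (Nat.coprime_two_left.mpr hKodd).pow_left i)
      (Or.inl (haveI := hp4.isPGroup.isNilpotent; inferInstance)) p
    have hbot := hpfix _ (R.2.map _) hR
    rw [map_eq_bot_iff_of_injective _ K.subtype_injective] at hbot
    refine R.ne_bot_of_dvd_card ?_ hbot
    have h1 := Subgroup.orderOf_dvd_natCard K hxK
    rwa [orderOf_coe, hx] at h1
  have hA4 : ∀ f : L ≃* alternatingGroup (Fin 4), False := fun f =>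
    alt_four_no_complement (Transfer.hasNormalPComplement_of_surjective f.toMonoidHom f.surjective hc)
  rcases PSL2.dickson p L with ⟨k, hk, hshape⟩ | ⟨P, hP⟩ | ⟨⟨f⟩⟩ | ⟨⟨f⟩⟩ | ⟨⟨f⟩⟩ |
    ⟨K', iK, iK', m, hm, hiso⟩
  · rcases hshape with ⟨hcy, -⟩ | ⟨⟨f⟩⟩
    · haveI := hcy
      exact absurd (isCyclic_of_injective (inclusion hVL) (inclusion_injective hVL)) hcyc
    · refine (eq_of_le_of_card_ge hle ?_).symm
      have hd := card_dvd_of_le hle
      rw [hcardC, Nat.card_congr f.toEquiv, DihedralGroup.nat_card] at hd ⊢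
      obtain ⟨j, hj⟩ := hodd
      have hd' : n ∣ k := Nat.dvd_of_mul_dvd_mul_left (by norm_num) hd
      have hg : Nat.gcd 2 (Fintype.card F - 1) = 2 := Nat.gcd_eq_left ⟨j, by omega⟩
      rw [hg] at hk
      rw [hj, show (2 * j + 1 + 1) / 2 = j + 1 by omega, show (2 * j + 1 - 1) / 2 = j by omega] at hk
      rw [hj] at hn
      have hnj : n = j ∨ n = j + 1 := by omega
      rcases hk with hk | hk <;> rcases hnj with rfl | rfl
      · have := Nat.dvd_sub (hd'.trans hk) (dvd_refl n)
        rw [Nat.add_sub_cancel_left] at this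
        exact absurd (Nat.le_of_dvd one_pos this) (by omega)
      · exact Nat.mul_le_mul_left 2 (Nat.le_of_dvd (by omega) hk)
      · exact Nat.mul_le_mul_left 2 (Nat.le_of_dvd (by omega) hk)
      · exact absurd (Nat.le_of_dvd (by omega) (hd'.trans hk)) (by omega)
  · exfalso
    have hbot := hpfix _ P.2 (hVL.trans hP)
    refine P.ne_bot_of_dvd_card ?_ hbot
    refine hpF.trans ?_
    rw [← PSL2.card_map_unip (F := F)]
    exact card_subgroup_dvd_card _
  · exact (hA4 f).elim
  · exfalso
    -- `A₄` inside `S₄`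
    let g : (alternatingGroup (Fin 4)).comap f.toMonoidHom →* alternatingGroup (Fin 4) :=
      (f.toMonoidHom.comp (Subgroup.subtype _)).codRestrict (alternatingGroup (Fin 4)) fun z => z.2
    refine alt_four_no_complement (Transfer.hasNormalPComplement_of_surjective g (fun z => ?_)
      (Transfer.HasNormalPComplement_subgroup hc _))
    exact ⟨⟨f.symm z, by simp⟩, Subtype.ext (f.apply_symm_apply z)⟩
  · exfalso
    haveI : IsSimpleGroup (alternatingGroup (Fin 5)) := alternatingGroup.isSimpleGroup_five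
    haveI := f.isSimpleGroup
    refine not_complement_of_simple (X := L) (fun h => ?_) ?_ hc
    · have key : ∀ a b : alternatingGroup (Fin 5), a * b = b * a := fun a b =>
        f.symm.injective (by rw [map_mul, map_mul]; exact h.is_comm.comm _ _)
      have := key
        ⟨Equiv.swap 0 1 * Equiv.swap 1 2, Equiv.Perm.mem_alternatingGroup.mpr (by decide)⟩
        ⟨Equiv.swap 0 1 * Equiv.swap 1 3, Equiv.Perm.mem_alternatingGroup.mpr (by decide)⟩
      revert this; decide
    · rw [Nat.card_congr f.toEquiv, nat_card_alternatingGroup]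
      simp [Nat.factorial]
  · exfalso
    refine hnp ?_
    have hpK : p ∣ Fintype.card K' := hpf.out.dvd_of_dvd_pow (hm ▸ hpF)
    have hsl : p ∣ Nat.card (Matrix.ProjectiveSpecialLinearGroup (Fin 2) K') := by
      refine hpK.trans ?_
      rw [← PSL2.card_map_unip (F := K')]
      exact card_subgroup_dvd_card _
    rcases hiso with ⟨⟨f⟩⟩ | ⟨⟨f⟩⟩
    · rwa [Nat.card_congr f.toEquiv]
    · rw [Nat.card_congr f.toEquiv, GL.card_PGL]
      exact hsl.trans (card_dvd_of_surjective _ (QuotientGroup.mk'_surjective _))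

/-- In a known simple group odd elements of a subgroup over `C(t)` with a normal 2-complement
centralise `t`. -/
theorem IsKnown.commute_of_complement {E : Type u} [Group E] [Finite E] (h : IsKnown E) {t : E}
    (ht : orderOf t = 2) {L : Subgroup E} (hle : centralizer ({t} : Set E) ≤ L)
    (hc : Cfsg.HasNormalPComplement 2 L) {x : E} (hxL : x ∈ L) (hx : Odd (orderOf x)) :
    Commute x t := by
  haveI : Fact (Nat.Prime 2) := ⟨Nat.prime_two⟩
  rcases h with ⟨F, iF, iF', hodd, h3, ⟨e⟩⟩ | ⟨⟨e⟩⟩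
  · have hle' : centralizer ({e t} : Set _) ≤ L.map e.toMonoidHom := fun y hy =>
      ⟨e.symm y, hle (mem_centralizer_singleton_iff.2 (e.injective (by
        rw [map_mul, map_mul, e.apply_symm_apply]
        exact mem_centralizer_singleton_iff.1 hy))), e.apply_symm_apply y⟩
    have := psl_complement_le_cent hodd h3 ((MulEquiv.orderOf_eq e t).trans ht) hle'
      (Transfer.hasNormalPComplement_of_surjective
        (L.equivMapOfInjective e.toMonoidHom e.injective).toMonoidHom
        (L.equivMapOfInjective e.toMonoidHom e.injective).surjective hc)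
    have h1 : e x ∈ L.map e.toMonoidHom := ⟨x, hxL, rfl⟩
    rw [this] at h1
    exact e.injective (by rw [map_mul, map_mul]; exact mem_centralizer_singleton_iff.1 h1)
  · have hle' : centralizer ({e t} : Set _) ≤ L.map e.toMonoidHom := fun y hy =>
      ⟨e.symm y, hle (mem_centralizer_singleton_iff.2 (e.injective (by
        rw [map_mul, map_mul, e.apply_symm_apply]
        exact mem_centralizer_singleton_iff.1 hy))), e.apply_symm_apply y⟩
    have := alt_seven_complement_le_cent ((MulEquiv.orderOf_eq e t).trans ht) hle'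
      (Transfer.hasNormalPComplement_of_surjective
        (L.equivMapOfInjective e.toMonoidHom e.injective).toMonoidHom
        (L.equivMapOfInjective e.toMonoidHom e.injective).surjective hc) ⟨x, hxL, rfl⟩
      (by rw [show e.toMonoidHom x = e x from rfl, MulEquiv.orderOf_eq]; exact hx)
    exact e.injective (by rw [map_mul, map_mul]; exact this.eq)

/-- An involution of a known normal subgroup is central in a Sylow 2-subgroup of the whole group. -/
theorem exists_central_sylow {H : Type u} [Group H] [Finite H] (hd : SubDihedral H) (E : Subgroup H)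
    [hEn : E.Normal] [IsSimpleGroup E] (hk : IsKnown E) {t : H} (ht : orderOf t = 2) (htE : t ∈ E) :
    ∃ R : Sylow 2 H, (R : Subgroup H) ≤ centralizer ({t} : Set H) := by
  haveI : Fact (Nat.Prime 2) := ⟨Nat.prime_two⟩
  obtain ⟨R, hR⟩ := (IsPGroup.of_card (p := 2) (n := 1) (G := zpowers t)
    (by rw [Nat.card_zpowers, ht, pow_one])).exists_le_sylow
  set D := (R : Subgroup H) ⊓ E with hD
  have hD1 : D ≠ ⊥ := fun h => ne_one_of_order ht
    (mem_bot.1 (h ▸ (⟨hR (mem_zpowers t), htE⟩ : t ∈ D)))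
  have hne := LocalStructure.inf_centralizer_ne_bot (p := 2) (R.2.to_le inf_le_left : IsPGroup 2 D)
    hD1 R.2 ((le_inf le_normalizer (by rw [normalizer_eq_top (H := E)]; exact le_top)).trans
      inf_normalizer_le_normalizer_inf)
  haveI := (nontrivial_iff_ne_bot _).2 hne
  obtain ⟨k, hkpos, hcard⟩ := ((R.2.to_le inf_le_left : IsPGroup 2 D).to_le
    (inf_le_left : D ⊓ centralizer ((R : Subgroup H) : Set H) ≤ D)).nontrivial_iff_card.mp inferInstance
  obtain ⟨z, hz⟩ := exists_prime_orderOf_dvd_card'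
    (G := ↥(D ⊓ centralizer ((R : Subgroup H) : Set H))) 2 (hcard ▸ dvd_pow_self 2 hkpos.ne')
  rw [← orderOf_coe] at hz
  have hzE : (z : H) ∈ E := z.2.1.2
  obtain ⟨g, hg⟩ := isConj_iff.1 (isConj_invol_of_simple (hd.subgroup E) hk.not_comm hk.even_card
    (a := ⟨(z : H), hzE⟩) (b := ⟨t, htE⟩) (by rw [orderOf_mk]; exact hz) (by rw [orderOf_mk]; exact ht))
  refine ⟨(g : H) • R, fun y hy => ?_⟩
  obtain ⟨r, hr, rfl⟩ : ∃ r ∈ (R : Subgroup H), (g : H) * r * (g : H)⁻¹ = y := hy
  have hg' : (g : H) * z * (g : H)⁻¹ = t := congrArg Subtype.val hg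
  refine mem_centralizer_singleton_iff.2 ?_
  rw [← hg']
  have hcz := mem_centralizer_iff.1 z.2.2 r hr
  calc (g : H) * r * (g : H)⁻¹ * ((g : H) * z * (g : H)⁻¹) = (g : H) * (r * z) * (g : H)⁻¹ := by group
    _ = (g : H) * (z * r) * (g : H)⁻¹ := by rw [hcz]
    _ = (g : H) * z * (g : H)⁻¹ * ((g : H) * r * (g : H)⁻¹) := by group

/-- If `E ⊴ H` is known simple and `t ∈ E` an involution, a subgroup over `C(t)` with a normal
2-complement equals `C(t)`. -/
theorem cent_eq_of_complement {H : Type u} [Group H] [Finite H] (hd : SubDihedral H) (E : Subgroup H)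
    [hEn : E.Normal] [IsSimpleGroup E] (hk : IsKnown E) {t : H} (ht : orderOf t = 2) (htE : t ∈ E)
    {L : Subgroup H} (hle : centralizer ({t} : Set H) ≤ L) (hc : Cfsg.HasNormalPComplement 2 L) :
    L = centralizer ({t} : Set H) := by
  haveI : Fact (Nat.Prime 2) := ⟨Nat.prime_two⟩
  refine le_antisymm ?_ hle
  have htL : t ∈ L := hle (mem_centralizer_singleton_iff.2 rfl)
  -- odd elements of `L ⊓ E`
  have hE : ∀ x ∈ L, x ∈ E → Odd (orderOf x) → Commute x t := by
    intro x hxL hxE hx
    have := hk.commute_of_complement (t := ⟨t, htE⟩) (by rw [orderOf_mk]; exact ht)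
      (L := L.subgroupOf E)
      (fun y hy => hle (mem_centralizer_singleton_iff.2
        (congrArg Subtype.val (mem_centralizer_singleton_iff.1 hy))))
      (Transfer.hasNormalPComplement_of_injective
        ((E.subtype.comp (L.subgroupOf E).subtype).codRestrict L fun z => z.2)
        (fun a b h => by
          have h' := congrArg Subtype.val h
          exact Subtype.ext (E.subtype_injective h')) hc)
      (x := ⟨x, hxE⟩) hxL (by rw [orderOf_mk]; exact hx)
    exact congrArg Subtype.val this.eq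
  -- odd elements of `L`
  have hodd : ∀ k ∈ L, Odd (orderOf k) → Commute k t := by
    intro k hkL hk'
    set c := k * t * k⁻¹ * t⁻¹ with hcdef
    have hcE : c ∈ E := mul_mem (hEn.conj_mem t htE k) (inv_mem htE)
    have hcL : c ∈ L := mul_mem (mul_mem (mul_mem hkL htL) (inv_mem hkL)) (inv_mem htL)
    have hco : Odd (orderOf c) := by
      have h1 : (⟨k, hkL⟩ : L) ∈ Cfsg.pResidual 2 L := (Transfer.mem_pResidual_iff hc _).mpr
        (by rw [orderOf_mk]; exact Nat.coprime_two_right.mpr hk')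
      have h2 : (⟨c, hcL⟩ : L) ∈ Cfsg.pResidual 2 L := by
        have := mul_mem h1 ((Transfer.pResidual_normal (G := L) 2).conj_mem _ (inv_mem h1) ⟨t, htL⟩)
        convert this using 1
        ext; simp [hcdef, mul_assoc]
      have := (Transfer.mem_pResidual_iff hc _).mp h2
      rw [orderOf_mk] at this
      exact Nat.coprime_two_right.mp this
    have hct : Commute c t := hE c hcL hcE hco
    have hinv : t * c * t⁻¹ = c⁻¹ := by
      calc t * c * t⁻¹ = t * k * t * k⁻¹ * (t * t)⁻¹ := by rw [hcdef]; group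
        _ = t * k * t⁻¹ * k⁻¹ := by rw [sq_of_order ht, inv_one, mul_one, inv_of_order ht]
        _ = c⁻¹ := by rw [hcdef]; group
    rw [← hct.eq, mul_inv_cancel_right] at hinv
    obtain ⟨j, hj⟩ := hco
    have hc2 : c ^ 2 = 1 := by
      rw [pow_two]
      nth_rewrite 2 [hinv]
      exact mul_inv_cancel c
    have hc1 : c = 1 := by
      have := pow_orderOf_eq_one c
      rwa [hj, pow_succ, pow_mul, hc2, one_pow, one_mul] at this
    exact mul_inv_eq_iff_eq_mul.1 (mul_inv_eq_one.1 hc1)
  -- a Sylow 2-subgroup of `L` inside `C(t)`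
  obtain ⟨R, hR⟩ := exists_central_sylow hd E hk ht htE
  obtain ⟨N, hN, hcN⟩ := (Transfer.hasNormalPComplement_iff_exists (R.subtype (hR.trans hle))).mp hc
  intro x hx
  obtain ⟨⟨⟨a, ha⟩, ⟨s, hs⟩⟩, hxs, -⟩ :=
    (Subgroup.isComplement'_def.mp hcN).existsUnique (⟨x, hx⟩ : L)
  have hxs' : (a : H) * (s : H) = x := congrArg Subtype.val hxs
  rw [← hxs']
  refine mul_mem (mem_centralizer_singleton_iff.2 ?_) (hR hs)
  refine (hodd a a.2 ?_).eq
  rw [orderOf_coe]
  exact (Nat.coprime_two_right.mp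
    (Transfer.coprime_card_of_isComplement'_sylow _ hcN)).of_dvd_nat (Subgroup.orderOf_dvd_natCard N ha)

/-- The same for subgroups `E ≤ H` of an ambient group. -/
theorem cent_inf_eq_of_complement {G : Type u} [Group G] [Finite G] {H E L : Subgroup G}
    (hd : SubDihedral H) (hEH : E ≤ H) (hEn : H ≤ normalizer (E : Set G)) [IsSimpleGroup E]
    (hk : IsKnown E) {t : G} (ht : orderOf t = 2) (htE : t ∈ E) (hLH : L ≤ H)
    (hle : centralizer ({t} : Set G) ⊓ H ≤ L) (hc : Cfsg.HasNormalPComplement 2 L) :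
    L = centralizer ({t} : Set G) ⊓ H := by
  haveI : (E.subgroupOf H).Normal := normal_subgroupOf_of_le_normalizer hEn
  let e := subgroupOfEquivOfLe hEH
  haveI : IsSimpleGroup (E.subgroupOf H) := e.isSimpleGroup
  have h := cent_eq_of_complement hd (E.subgroupOf H) (hk.of_equiv e.symm) (t := ⟨t, hEH htE⟩)
    (by rw [orderOf_mk]; exact ht) htE (L := L.subgroupOf H)
    (fun y hy => hle ⟨mem_centralizer_singleton_iff.2
      (congrArg Subtype.val (mem_centralizer_singleton_iff.1 hy)), y.2⟩)
    (Transfer.hasNormalPComplement_of_surjective (subgroupOfEquivOfLe hLH).symm.toMonoidHom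
      (subgroupOfEquivOfLe hLH).symm.surjective hc)
  refine le_antisymm (fun x hx => ?_) hle
  have h1 : (⟨x, hLH hx⟩ : H) ∈ L.subgroupOf H := hx
  rw [h] at h1
  exact ⟨mem_centralizer_singleton_iff.2
    (congrArg Subtype.val (mem_centralizer_singleton_iff.1 h1)), hLH hx⟩

end Cfsg.Agent.GW
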