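import Cfsg.Agent.Lib.GW.OuterPair
import Cfsg.Agent.Lib.PSL2.Dickson
import Cfsg.Agent.Lib.PSL2.DicksonOrders
import Cfsg.Agent.Lib.GW.CompCent

/-!
# The fixed group of an outer involution of `PSL₂(q)`

`fix_spec`: if the involution `√c` fixes no four-group, its fixed group has order `2m`, `m` odd, `2m = q ± 1`,
and equals every subgroup containing it that has a normal 2-complement.
`semilinear_inverted`: the square of an automorphism of odd order inverted by an involution is inner.
-/

set_option autoImplicit false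
set_option linter.unusedSectionVars false
set_option linter.style.haveILetI false

namespace Cfsg.Agent.GW.OuterCirc

open Matrix Subgroup QuadraticAlgebra
open scoped MatrixGroups
open Cfsg.Agent.AutPSL
open Cfsg.Agent.GW.OuterGen (circ mat sl gmat norm_eq)
open Cfsg.Agent.GW.OuterPair (fix mem_fix NoFour mem_fix_conjP)

variable {F : Type} [Field F] [Fintype F]

local notation "L₂" => Matrix.ProjectiveSpecialLinearGroup (Fin 2) F

theorem card_circ_cases (h2 : (2 : F) ≠ 0) {c : F} (hc : ¬ IsSquare (-c)) :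
    ∃ m, Nat.card (circ c) = 2 * m ∧ Odd m ∧
      ((Fintype.card F % 4 = 1 ∧ 2 * m = Fintype.card F + 1) ∨
        (Fintype.card F % 4 = 3 ∧ 2 * m + 1 = Fintype.card F)) := by
  classical
  have hc0 : c ≠ 0 := fun h => hc (by rw [h, neg_zero]; exact IsSquare.zero)
  have hge := OuterGen.card_circ_ge h2 hc
  obtain ⟨h4, -⟩ := OuterGen.circ_facts h2 hc
  have hle : Nat.card (circ c) ≤ Fintype.card F + 1 := by
    let f : circ c → Option F := fun u =>
      if ((u : (QuadraticAlgebra F c 0)ˣ) : QuadraticAlgebra F c 0).re = -1 then none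
      else some (((u : (QuadraticAlgebra F c 0)ˣ) : QuadraticAlgebra F c 0).im /
        (((u : (QuadraticAlgebra F c 0)ˣ) : QuadraticAlgebra F c 0).re + 1))
    have hinj : Function.Injective f := by
      intro u v h
      refine Subtype.ext (Units.ext ?_)
      have hu := OuterGen.circ_norm u
      have hv := OuterGen.circ_norm v
      simp only [f] at h
      generalize ((u : (QuadraticAlgebra F c 0)ˣ) : QuadraticAlgebra F c 0) = A at h hu
      generalize ((v : (QuadraticAlgebra F c 0)ˣ) : QuadraticAlgebra F c 0) = B at h hv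
      rw [norm_eq] at hu hv
      split_ifs at h with h1 h1' h1'
      · refine QuadraticAlgebra.ext (h1.trans h1'.symm) ?_
        have e1 : A.im = 0 := mul_self_eq_zero.1 (mul_left_cancel₀ hc0 (by
          rw [h1] at hu; linear_combination -hu))
        have e2 : B.im = 0 := mul_self_eq_zero.1 (mul_left_cancel₀ hc0 (by
          rw [h1'] at hv; linear_combination -hv))
        rw [e1, e2]
      · have hs := Option.some.inj h
        have a1 : A.re + 1 ≠ 0 := fun e => h1 (by linear_combination e)
        have b1 : B.re + 1 ≠ 0 := fun e => h1' (by linear_combination e)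
        generalize hl : A.im / (A.re + 1) = l at hs
        have eA : A.im = l * (A.re + 1) := by rw [← hl]; field_simp
        have eB : B.im = l * (B.re + 1) := by rw [hs]; field_simp
        have kA : (A.re + 1) * (A.re - 1 - c * l ^ 2 * (A.re + 1)) = 0 := by
          rw [eA] at hu; linear_combination hu
        have kB : (B.re + 1) * (B.re - 1 - c * l ^ 2 * (B.re + 1)) = 0 := by
          rw [eB] at hv; linear_combination hv
        have zA := (mul_eq_zero.1 kA).resolve_left a1
        have zB := (mul_eq_zero.1 kB).resolve_left b1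
        have hden : 1 - c * l ^ 2 ≠ 0 := fun e =>
          h2 (by linear_combination (A.re + 1) * e - zA)
        have hre : A.re = B.re :=
          mul_left_cancel₀ hden (by linear_combination zA - zB)
        refine QuadraticAlgebra.ext hre ?_
        rw [eA, eB, hre]
    refine (Nat.card_le_card_of_injective f hinj).trans (le_of_eq ?_)
    rw [Finite.card_option, Nat.card_eq_fintype_card]
  have hodd : Fintype.card F % 2 = 1 := Nat.odd_iff.1 (PSL2.odd_card_iff.2 h2)
  refine ⟨Nat.card (circ c) / 2, by omega, Nat.odd_iff.2 (by omega), ?_⟩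
  omega

/-- A norm one element of `F[√c]` in `PSL₂`. -/
def ψ (c : F) : circ c →* L₂ :=
  PSL2.mk.comp
    { toFun := fun u => sl ((u : (QuadraticAlgebra F c 0)ˣ) : QuadraticAlgebra F c 0) 0
        (by rw [OuterGen.circ_norm, QuadraticAlgebra.norm_zero, sub_zero])
      map_one' := Subtype.ext (by
        show mat (1 : QuadraticAlgebra F c 0) 0 = 1
        ext i j; fin_cases i <;> fin_cases j <;> simp [mat])
      map_mul' := fun u v => Subtype.ext (by
        show mat _ 0 = mat _ 0 * mat _ 0
        rw [OuterGen.mat_mul]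
        simp) }

theorem card_range_ψ (h2 : (2 : F) ≠ 0) {c : F} (hc : c ≠ 0) :
    Nat.card (circ c) = 2 * Nat.card (ψ c).range := by
  classical
  have h1 := (ψ c).ker.card_eq_card_quotient_mul_card_subgroup
  rw [Nat.card_congr (QuotientGroup.quotientKerEquivRange (ψ c)).toEquiv, mul_comm] at h1
  suffices hk : Nat.card (ψ c).ker = 2 by rw [h1, hk]
  have hone : ∀ u : circ c, u ∈ (ψ c).ker ↔
      ((u : (QuadraticAlgebra F c 0)ˣ) : QuadraticAlgebra F c 0) = 1 ∨
        ((u : (QuadraticAlgebra F c 0)ˣ) : QuadraticAlgebra F c 0) = -1 := by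
    intro u
    have hmone : mat (1 : QuadraticAlgebra F c 0) 0 = 1 := by
      ext i j; fin_cases i <;> fin_cases j <;> simp [mat]
    rw [MonoidHom.mem_ker, show ψ c u = PSL2.mk (sl ((u : (QuadraticAlgebra F c 0)ˣ) : QuadraticAlgebra F c 0) 0
      (by rw [OuterGen.circ_norm, QuadraticAlgebra.norm_zero, sub_zero])) from rfl, PSL2.mk_eq_one]
    refine or_congr ⟨fun h => ?_, fun h => ?_⟩ ⟨fun h => ?_, fun h => ?_⟩
    · exact (OuterGen.mat_inj h2 hc ((congrArg Subtype.val h : mat _ 0 = 1).trans hmone.symm)).1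
    · exact Subtype.ext (by show mat _ 0 = _; rw [h, hmone]; rfl)
    · have h' : mat _ 0 = -(1 : Matrix (Fin 2) (Fin 2) F) := congrArg Subtype.val h
      rw [← hmone, OuterGen.mat_neg, neg_zero] at h'
      exact (OuterGen.mat_inj h2 hc h').1
    · refine Subtype.ext (?_ : mat _ 0 = -(1 : Matrix (Fin 2) (Fin 2) F))
      rw [h, ← hmone, OuterGen.mat_neg, neg_zero]
  let z : circ c := OuterGen.circMk ⟨-1, 0⟩ (by rw [norm_eq]; simp)
  have hz : ((z : (QuadraticAlgebra F c 0)ˣ) : QuadraticAlgebra F c 0) = -1 := by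
    show (⟨-1, 0⟩ : QuadraticAlgebra F c 0) = -1
    ext <;> simp
  have hne : z ≠ 1 := fun h => by
    have h' := congrArg (fun u : circ c => ((u : (QuadraticAlgebra F c 0)ˣ) : QuadraticAlgebra F c 0).re) h
    simp [hz] at h'
    exact h2 (by linear_combination -h')
  have hset : ((ψ c).ker : Set (circ c)) = {1, z} := by
    ext u
    refine (hone u).trans ?_
    rw [Set.mem_insert_iff, Set.mem_singleton_iff]
    refine or_congr ⟨fun h => Subtype.ext (Units.ext h), fun h => by rw [h]; rfl⟩
      ⟨fun h => Subtype.ext (Units.ext (h.trans hz.symm)), fun h => by rw [h, hz]⟩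
  show Nat.card ((ψ c).ker : Set (circ c)) = 2
  rw [hset, Nat.card_coe_set_eq, Set.ncard_pair hne.symm]

theorem conjP_inner_of_sq (h : GL (Fin 2) F) (hd : IsSquare h.val.det) :
    ∃ x : L₂, (conjP h : MulAut L₂) = MulAut.conj x := by
  obtain ⟨r, hr⟩ := hd
  have hdet : h.val.det ≠ 0 := ((Matrix.isUnit_iff_isUnit_det _).1 h.isUnit).ne_zero
  have hr0 : r ≠ 0 := fun e => hdet (by rw [hr, e, mul_zero])
  let s : SL(2, F) := ⟨r⁻¹ • h.val, by
    rw [Matrix.det_smul, hr, Fintype.card_fin]; field_simp⟩
  refine ⟨PSL2.mk s, ?_⟩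
  rw [show (PSL2.mk s : L₂) = QuotientGroup.mk s from rfl, ← conjP_toGL]
  refine (conjP_eq_conjP_iff (m := 1) le_rfl _ _).2 ⟨Units.mk0 r hr0, Units.ext ?_⟩
  rw [Units.val_mul, LocalBalance.scal_smul, mul_smul_comm, mul_one]
  show h.val = r • (r⁻¹ • h.val)
  rw [smul_smul, mul_inv_cancel₀ hr0, one_smul]

/-- The square of an automorphism of odd order inverted by an involution is inner. -/
theorem semilinear_inverted {g : GL (Fin 2) F} {β : MulAut L₂}
    (hβ : Odd (orderOf β)) (hinv : conjP g * β * conjP g = β⁻¹) :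
    ∃ x : L₂, β * β = MulAut.conj x := by
  obtain ⟨h, σ, γ, hγ, hdec⟩ := exists_decomposition (m := 1) le_rfl β
  obtain ⟨h', rfl⟩ : ∃ h' : GL (Fin 2) F, β = conjP h' * fieldP σ := by
    rcases hγ with rfl | rfl
    · exact ⟨h, hdec.trans (mul_one _)⟩
    · obtain ⟨g₀, h₀⟩ := LocalBalance.invP_inner (F := F)
      exact ⟨h * g₀, by rw [hdec, mul_assoc, ← invP_mul_fieldP, h₀, map_mul, mul_assoc]⟩
  have hsq : (conjP h' * fieldP σ * conjP g : MulAut L₂) * (conjP h' * fieldP σ * conjP g) = 1 := by
    rw [mul_assoc (conjP h' * fieldP σ), ← mul_assoc (conjP g), hinv, mul_inv_cancel]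
  have e : (conjP h' * fieldP σ * conjP g : MulAut L₂) = conjP (h' * FieldExt.glMap σ g) * fieldP σ := by
    rw [mul_assoc, fieldP_mul_conjP, ← mul_assoc, ← map_mul]
  have hp := conjP_mul_fieldP_pow (m := 1) σ (h' * FieldExt.glMap σ g) 2
  rw [pow_two, ← e, hsq] at hp
  obtain ⟨hσ2, -⟩ := LocalBalance.eq_one_semilinear le_rfl hp.symm
  have hp' := conjP_mul_fieldP_pow (m := 1) σ h' (orderOf (conjP h' * fieldP σ : MulAut L₂))
  rw [pow_orderOf_eq_one] at hp'
  obtain ⟨hσn, -⟩ := LocalBalance.eq_one_semilinear le_rfl hp'.symm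
  obtain ⟨j, hj⟩ := hβ
  rw [hj, pow_succ, pow_mul, hσ2, one_pow, one_mul] at hσn
  rw [hσn, fieldP_one, mul_one, ← map_mul]
  exact conjP_inner_of_sq _ ⟨h'.val.det, by rw [Units.val_mul, Matrix.det_mul]⟩

theorem subDihedral_psl (h2 : (2 : F) ≠ 0) : GW.SubDihedral L₂ := fun P => by
  obtain ⟨k, hk, -, he⟩ := PSL2.sylow_two_dihedral h2 P
  exact Or.inr ⟨2 ^ k, Nat.le_self_pow (by omega) 2, he⟩

/-- A group without four-groups in a `SubDihedral` group has a normal 2-complement. -/
theorem complement_of_noFour {X : Type} [Group X] [Finite X] (hd : GW.SubDihedral X) (H : Subgroup X)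
    (hN : NoFour H) : Cfsg.HasNormalPComplement 2 H := by
  classical
  haveI : Fact (Nat.Prime 2) := ⟨Nat.prime_two⟩
  obtain ⟨S⟩ : Nonempty (Sylow 2 H) := inferInstance
  refine GW.hasNormalPComplement_of_cyclic_two S (by_contra fun hS => ?_)
  obtain ⟨V, hV, -⟩ := (hd.subgroup H).exists_four S hS
  haveI : Nontrivial V := Finite.one_lt_card_iff_nontrivial.mp (by rw [IsKleinFour.card_four]; norm_num)
  obtain ⟨v, hv⟩ := exists_ne (1 : V)
  obtain ⟨w, hw⟩ : ∃ w : V, w ≠ 1 ∧ w ≠ v := by
    by_contra hno
    push Not at hno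
    have hcard : Nat.card V ≤ 2 := by
      refine (Nat.card_le_card_of_injective (fun x : V => decide (x = 1)) fun x y hxy => ?_).trans (by simp)
      simp only [decide_eq_decide] at hxy
      by_cases hx : x = 1
      · rw [hx, hxy.1 hx]
      · rw [hno x hx, hno y fun hy => hx (hxy.2 hy)]
    rw [IsKleinFour.card_four] at hcard
    omega
  have ho : ∀ x : V, x ≠ 1 → orderOf ((x : H) : X) = 2 := fun x hx => by
    rw [orderOf_coe, orderOf_coe]
    exact orderOf_eq_prime (by rw [pow_two]; exact IsKleinFour.mul_self x) hx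
  refine hw.2 (Subtype.ext (Subtype.ext (hN _ (w : H).2 _ (v : H).2 (ho w hw.1) (ho v hv) ?_)))
  exact congrArg (fun x : V => ((x : H) : X))
    ((IsKleinFour.isMulCommutative (G := V)).is_comm.comm w v)

theorem fix_spec (h2 : (2 : F) ≠ 0) (hq : 3 < Fintype.card F) {c : F} {g : GL (Fin 2) F}
    (hg : g.val = gmat c) (hN : NoFour (fix (conjP g : MulAut L₂))) :
    ∃ m, Odd m ∧ ((Fintype.card F % 4 = 1 ∧ 2 * m = Fintype.card F + 1) ∨
        (Fintype.card F % 4 = 3 ∧ 2 * m + 1 = Fintype.card F)) ∧
      Nat.card (fix (conjP g : MulAut L₂)) = 2 * m ∧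
      ∀ L : Subgroup L₂, fix (conjP g : MulAut L₂) ≤ L → Cfsg.HasNormalPComplement 2 L →
        L = fix (conjP g : MulAut L₂) := by
  classical
  have hc := OuterPair.not_isSquare_of_gmat h2 hg hN
  have hc0 : c ≠ 0 := fun h => hc (by rw [h, neg_zero]; exact IsSquare.zero)
  obtain ⟨m, hm, hmodd, hmq⟩ := card_circ_cases h2 hc
  refine ⟨m, hmodd, hmq, ?_⟩
  have hC : Nat.card (ψ c).range = m := by
    have := card_range_ψ h2 hc0
    omega
  have hm3 : 3 ≤ m := by
    obtain ⟨j, hj⟩ := hmodd
    omega
  have hCle : (ψ c).range ≤ fix (conjP g : MulAut L₂) := by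
    rintro _ ⟨u, rfl⟩
    refine mem_fix_conjP g _ (Or.inl ?_)
    show g.val * mat _ 0 = mat _ 0 * g.val
    rw [hg, OuterGen.gmat, OuterGen.mat_mul, OuterGen.mat_mul]
    simp [mul_comm]
  -- an involution inverting the torus
  obtain ⟨B, hB⟩ := OuterGen.exists_sol (F := F) (d := c) h2 hc0 (-1)
  let y : SL(2, F) := sl 0 B (by rw [hB, QuadraticAlgebra.norm_zero]; ring)
  set Y : L₂ := PSL2.mk y with hY
  have hYfix : Y ∈ fix (conjP g : MulAut L₂) := by
    refine mem_fix_conjP g _ (Or.inr ?_)
    show g.val * mat 0 B = -(mat 0 B * g.val)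
    rw [hg, OuterGen.gmat, OuterGen.mat_mul, OuterGen.mat_mul, OuterGen.mat_neg]
    congr 1 <;> ext <;> simp <;> ring
  have hyy : y * y = -1 := by
    refine Subtype.ext ?_
    show mat 0 B * mat 0 B = -1
    rw [norm_eq] at hB
    rw [OuterGen.mat_mul]
    ext i j
    fin_cases i <;> fin_cases j <;> simp [mat, -mul_eq_zero] <;> first | ring1 | linear_combination hB
  have hYY : Y * Y = 1 := by rw [hY, ← map_mul, hyy, PSL2.mk_neg_one]
  have hYo : orderOf Y = 2 := by
    refine orderOf_eq_prime (by rw [pow_two, hYY]) fun h1 => ?_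
    rcases PSL2.mk_eq_one.1 h1 with h | h <;> rw [h] at hyy
    · exact PSL2.neg_one_ne_one h2 (by rw [← hyy, one_mul])
    · exact PSL2.neg_one_ne_one h2 (by rw [← hyy, neg_mul_neg, one_mul])
  have hinv : ∀ x ∈ (ψ c).range, Y * x * Y = x⁻¹ := by
    rintro _ ⟨u, rfl⟩
    show PSL2.mk y * PSL2.mk (sl ((u : (QuadraticAlgebra F c 0)ˣ) : QuadraticAlgebra F c 0) 0
      (by rw [OuterGen.circ_norm, QuadraticAlgebra.norm_zero, sub_zero])) * PSL2.mk y = (ψ c u)⁻¹
    rw [← map_inv, ← map_mul, ← map_mul]
    refine PSL2.mk_eq_mk.2 (Or.inr (Subtype.ext ?_))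
    rw [norm_eq] at hB
    show mat 0 B * mat _ 0 * mat 0 B = -mat _ 0
    rw [OuterGen.mat_mul, OuterGen.mat_mul, OuterGen.mat_neg, ← OuterGen.circ_star u]
    congr 1 <;> ext <;> simp
    · linear_combination ((u : (QuadraticAlgebra F c 0)ˣ) : QuadraticAlgebra F c 0).re * hB
    · linear_combination -((u : (QuadraticAlgebra F c 0)ˣ) : QuadraticAlgebra F c 0).im * hB
  obtain ⟨p, hp'⟩ := CharP.exists F
  haveI := hp'
  haveI hpf : Fact p.Prime := ⟨CharP.char_is_prime F p⟩
  obtain ⟨e, -, he⟩ := FiniteField.card F p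
  have hp2 : p ≠ 2 := by
    rintro rfl
    exact h2 (by exact_mod_cast CharP.cast_eq_zero F 2)
  have hoddq : Fintype.card F % 2 = 1 := Nat.odd_iff.1 (PSL2.odd_card_iff.2 h2)
  have hg2 : Nat.gcd 2 (Fintype.card F - 1) = 2 := Nat.gcd_eq_left ⟨Fintype.card F / 2, by omega⟩
  have main : ∀ L : Subgroup L₂, fix (conjP g : MulAut L₂) ≤ L → Cfsg.HasNormalPComplement 2 L →
      Nat.card L = 2 * m := by
    intro L hle hLc
    have hCL := hCle.trans hle
    have hdm : m ∣ Nat.card L := hC ▸ card_dvd_of_le hCL
    have h2L : 2 ∣ Nat.card L := (dvd_of_eq hYo.symm).trans (Subgroup.orderOf_dvd_natCard L (hle hYfix))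
    have hA4 : ∀ f : L ≃* alternatingGroup (Fin 4), False := fun f =>
      GW.alt_four_no_complement (Transfer.hasNormalPComplement_of_surjective f.toMonoidHom f.surjective hLc)
    rcases PSL2.dickson p L with ⟨k, hk, hshape⟩ | ⟨P, hP⟩ | ⟨⟨f⟩⟩ | ⟨⟨f⟩⟩ | ⟨⟨f⟩⟩ |
      ⟨K', iK, iK', j, hj, hiso⟩
    · rcases hshape with ⟨hcy, -⟩ | ⟨⟨f⟩⟩
      · exfalso
        haveI := hcy
        haveI : Nontrivial (ψ c).range := Finite.one_lt_card_iff_nontrivial.mp (by omega)
        obtain ⟨x, hx⟩ := exists_ne (1 : (ψ c).range)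
        have hcomm := congrArg Subtype.val
          ((IsCyclic.isMulCommutative (α := L)).is_comm.comm ⟨Y, hle hYfix⟩ ⟨x, hCL x.2⟩)
        simp only [Subgroup.coe_mul] at hcomm
        have h1 := hinv x x.2
        rw [hcomm, mul_assoc, hYY, mul_one] at h1
        have hxo : orderOf x ∣ 2 := orderOf_dvd_of_pow_eq_one (Subtype.ext (by
          rw [Subgroup.coe_pow, pow_two]
          nth_rewrite 2 [h1]
          exact mul_inv_cancel _))
        have hxm : orderOf x ∣ m := hC ▸ orderOf_dvd_natCard x
        exact hx (orderOf_eq_one_iff.1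
          (Nat.eq_one_of_dvd_coprimes (Nat.coprime_two_left.2 hmodd) hxo hxm))
      · rw [Nat.card_congr f.toEquiv, DihedralGroup.nat_card] at hdm ⊢
        have hmk : m ∣ k := (Nat.coprime_two_right.2 hmodd).dvd_of_dvd_mul_left hdm
        rw [hg2] at hk
        obtain ⟨j, hj⟩ : ∃ j, Fintype.card F = 2 * j + 1 := ⟨Fintype.card F / 2, by omega⟩
        rw [hj, show (2 * j + 1 + 1) / 2 = j + 1 by omega, show (2 * j + 1 - 1) / 2 = j by omega] at hk
        have hmj : m = j ∨ m = j + 1 := by omega
        have hkm : k ∣ m := by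
          rcases hk with hk | hk <;> rcases hmj with e | e <;> subst e
          · exact absurd (Nat.le_of_dvd one_pos
              (by simpa using Nat.dvd_sub (hmk.trans hk) (dvd_refl m))) (by omega)
          · exact hk
          · exact hk
          · exact absurd (Nat.le_of_dvd (by omega) (hmk.trans hk)) (by omega)
        rw [Nat.dvd_antisymm hmk hkm]
    · exfalso
      have hN' := PSL2.card_normalizer_sylow p P
      rw [hg2] at hN'
      have hd : m ∣ (Fintype.card F - 1) * Fintype.card F := by
        rw [← hN']; exact (hdm.trans (card_dvd_of_le hP)).mul_left 2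
      have h2N : 2 * 2 ∣ (Fintype.card F - 1) * Fintype.card F := by
        rw [← hN']; exact Nat.mul_dvd_mul_left 2 (h2L.trans (card_dvd_of_le hP))
      have h4 : 4 ∣ Fintype.card F - 1 :=
        (Nat.Coprime.pow_left 2 (Nat.coprime_two_left.2 (Nat.odd_iff.2 hoddq))).dvd_of_dvd_mul_right h2N
      obtain ⟨-, hmm⟩ : Fintype.card F % 4 = 1 ∧ 2 * m = Fintype.card F + 1 := by omega
      have hco : m.Coprime (Fintype.card F) := by
        refine Nat.coprime_of_dvd fun r hr h1 h2' => hr.not_dvd_one ?_
        have := Nat.dvd_sub (h1.mul_left 2) h2'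
        rwa [hmm, Nat.add_sub_cancel_left] at this
      have hd' := hco.dvd_of_dvd_mul_right hd
      obtain ⟨i, hi⟩ := hd'
      rcases i with _ | _ | i
      · omega
      · omega
      · nlinarith [show m * (i + 1 + 1) ≥ 2 * m by nlinarith, hi, Nat.sub_le (Fintype.card F) 1]
    · exact (hA4 f).elim
    · exfalso
      let f' : (alternatingGroup (Fin 4)).comap f.toMonoidHom →* alternatingGroup (Fin 4) :=
        (f.toMonoidHom.comp (Subgroup.subtype _)).codRestrict (alternatingGroup (Fin 4)) fun z => z.2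
      refine GW.alt_four_no_complement (Transfer.hasNormalPComplement_of_surjective f' (fun z => ?_)
        (Transfer.HasNormalPComplement_subgroup hLc _))
      exact ⟨⟨f.symm z, by simp⟩, Subtype.ext (f.apply_symm_apply z)⟩
    · exfalso
      haveI : IsSimpleGroup (alternatingGroup (Fin 5)) := alternatingGroup.isSimpleGroup (by simp)
      haveI := f.isSimpleGroup
      refine GW.not_complement_of_simple (X := L) (fun h => ?_) h2L hLc
      have key : ∀ a b : alternatingGroup (Fin 5), a * b = b * a := fun a b =>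
        f.symm.injective (by rw [map_mul, map_mul]; exact h.is_comm.comm _ _)
      have := key
        ⟨Equiv.swap 0 1 * Equiv.swap 1 2, Equiv.Perm.mem_alternatingGroup.mpr (by decide)⟩
        ⟨Equiv.swap 0 1 * Equiv.swap 1 3, Equiv.Perm.mem_alternatingGroup.mpr (by decide)⟩
      revert this; decide
    · exfalso
      have hpK : p ∣ Fintype.card K' :=
        hpf.out.dvd_of_dvd_pow (hj ▸ he ▸ dvd_pow_self p e.ne_zero)
      have h2K : (2 : K') ≠ 0 := by
        intro h
        obtain ⟨r, hr⟩ := CharP.exists K'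
        haveI := hr
        haveI : Fact r.Prime := ⟨CharP.char_is_prime K' r⟩
        obtain ⟨i, -, hi⟩ := FiniteField.card K' r
        have hpr : p = r :=
          (Nat.prime_dvd_prime_iff_eq hpf.out Fact.out).1 (hpf.out.dvd_of_dvd_pow (hi ▸ hpK))
        have : ((2 : ℕ) : K') = 0 := by exact_mod_cast h
        rw [CharP.cast_eq_zero_iff K' r 2] at this
        exact hp2 (hpr.trans ((Nat.prime_dvd_prime_iff_eq Fact.out Nat.prime_two).1 this))
      by_cases h3 : Fintype.card K' = 3
      · -- orders 12 and 24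
        have hcard : Nat.card L = 12 ∨ Nat.card L = 24 := by
          have h12 := PSL2.two_mul_card_PSL (F := K') h2K
          rw [h3] at h12
          rcases hiso with ⟨⟨f⟩⟩ | ⟨⟨f⟩⟩
          · left; rw [Nat.card_congr f.toEquiv]; norm_num at h12 ⊢; omega
          · right
            rw [Nat.card_congr f.toEquiv, GL.card_PGL, GL.card_SL2, h3]
            norm_num
        have h24 : m ∣ 24 := by
          rcases hcard with h | h <;> rw [h] at hdm
          · exact hdm.trans (by norm_num)
          · exact hdm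
        have hm3' : m = 3 := by
          have h' : m ∣ 3 := ((Nat.coprime_two_right.2 hmodd).pow_right 3).dvd_of_dvd_mul_left
            (show m ∣ 2 ^ 3 * 3 from h24)
          rcases (Nat.dvd_prime Nat.prime_three).1 h' with h'' | h'' <;> omega
        rw [h3] at hj hpK
        have hp3 : p = 3 := (Nat.prime_dvd_prime_iff_eq hpf.out Nat.prime_three).1 hpK
        have : 3 ∣ Fintype.card F := by rw [← hj]; refine dvd_pow_self 3 ?_; rintro rfl; simp at hj; omega
        omega
      · have hK4 : 4 ≤ Fintype.card K' := by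
          have h1 := Fintype.one_lt_card (α := K')
          have h2' := Nat.odd_iff.1 (PSL2.odd_card_iff.2 h2K)
          omega
        haveI : IsSimpleGroup (Matrix.ProjectiveSpecialLinearGroup (Fin 2) K') := PSL2.psl_isSimpleGroup hK4
        refine GW.not_complement_of_simple (X := Matrix.ProjectiveSpecialLinearGroup (Fin 2) K')
          (fun h => GL.PSL_not_comm (F := K') 2 le_rfl
            (fun _ => by rw [Nat.card_eq_fintype_card]; omega) fun a b => h.is_comm.comm a b) ?_ ?_
        · have h12 := PSL2.two_mul_card_PSL (F := K') h2K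
          obtain ⟨i, hi⟩ := PSL2.odd_card_iff.2 h2K
          have h8 : 8 ∣ Fintype.card K' ^ 2 - 1 := by
            rw [hi, show (2 * i + 1) ^ 2 - 1 = 4 * (i * (i + 1)) by
              rw [Nat.sub_eq_iff_eq_add (Nat.one_le_pow _ _ (by omega))]; ring]
            obtain ⟨w, hw⟩ := Nat.even_mul_succ_self i
            exact ⟨w, by omega⟩
          obtain ⟨w, hw⟩ := dvd_mul_of_dvd_right h8 (Fintype.card K')
          omega
        · rcases hiso with ⟨⟨f⟩⟩ | ⟨⟨f⟩⟩
          · exact Transfer.hasNormalPComplement_of_surjective f.toMonoidHom f.surjective hLc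
          · have hPGL : Cfsg.HasNormalPComplement 2 (Matrix.ProjGenLinGroup (Fin 2) K') :=
              Transfer.hasNormalPComplement_of_surjective f.toMonoidHom f.surjective hLc
            let h : SL(2, K') →* Matrix.ProjGenLinGroup (Fin 2) K' :=
              (QuotientGroup.mk' (Subgroup.center (GL (Fin 2) K'))).comp Matrix.SpecialLinearGroup.toGL
            have hker : h.ker = Subgroup.center SL(2, K') := by
              ext s
              rw [MonoidHom.mem_ker]
              show QuotientGroup.mk' (Subgroup.center (GL (Fin 2) K')) (Matrix.SpecialLinearGroup.toGL s) = 1 ↔ _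
              rw [QuotientGroup.mk'_apply, QuotientGroup.eq_one_iff]
              exact Matrix.SpecialLinearGroup.toGL_mem_center_iff s
            have := Transfer.HasNormalPComplement_subgroup hPGL h.range
            exact Transfer.hasNormalPComplement_of_surjective
              ((QuotientGroup.quotientKerEquivRange h).symm.trans
                (QuotientGroup.quotientMulEquivOfEq hker)).toMonoidHom (MulEquiv.surjective _) this
  have hcard := main _ le_rfl (complement_of_noFour (subDihedral_psl h2) _ hN)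
  exact ⟨hcard, fun L hle hLc => (eq_of_le_of_card_ge hle (by rw [main L hle hLc, hcard])).symm⟩

end Cfsg.Agent.GW.OuterCirc
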