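import Cfsg.Agent.Lib.GW.Dichotomy
import Cfsg.Agent.Lib.Qd.Stability
import Cfsg.Agent.Lib.Replacement.ZJ
import Cfsg.Agent.Lib.Components.GenFitting
import Cfsg.Agent.Lib.LocalStructure.Basic
import Cfsg.Agent.S1856
import Cfsg.Agent.S0205

/-!
# Maximal subgroups over `Cent t` with a normal 2-complement

Such an `M ≠ Cent t` is solvable, has `O₂(M) = 1` and two primes in `F(M)`.
-/

set_option autoImplicit false
set_option linter.style.haveILetI false

namespace Cfsg.Agent.GW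

open Subgroup
open BSW (sq_of_order inv_of_order ne_one_of_order order_of_sq mem_cent)
open scoped Pointwise

universe u

variable {G : Type u} [Group G] [Finite G] {S : Sylow 2 G} {t : G}

/-- A group with a normal 2-complement is solvable. -/
theorem isSolvable_of_complement {M : Type u} [Group M] [Finite M]
    (hc : Cfsg.HasNormalPComplement 2 M) : Group.IsSolvable M := by
  haveI : Fact (Nat.Prime 2) := ⟨Nat.prime_two⟩
  haveI := Transfer.pResidual_normal (G := M) 2
  haveI : Group.IsSolvable (Cfsg.pResidual 2 M) := S0205.result (by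
    rw [← Nat.not_even_iff_odd, even_iff_two_dvd]
    exact Transfer.hasNormalPComplement_iff.mp hc)
  haveI : Group.IsNilpotent (M ⧸ Cfsg.pResidual 2 M) :=
    (Transfer.isPGroup_quotient_pResidual (G := M) 2).isNilpotent
  exact Group.isSolvable_of_ker_le_range (Cfsg.pResidual 2 M).subtype
    (QuotientGroup.mk' (Cfsg.pResidual 2 M)) (by rw [QuotientGroup.ker_mk', range_subtype])

theorem genFitting_eq_fitting_of_complement {M : Type u} [Group M] [Finite M]
    (hc : Cfsg.HasNormalPComplement 2 M) :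
    Cfsg.generalizedFittingSubgroup M = Cfsg.fittingSubgroup M := by
  haveI := isSolvable_of_complement hc
  rw [Cfsg.generalizedFittingSubgroup, Components.layer_eq_bot_of_isSolvable, bot_sup_eq]

/-- A Sylow subgroup of a subgroup containing its normaliser is a Sylow subgroup. -/
theorem exists_sylow_of_normalizer_le {p : ℕ} [Fact p.Prime] {M : Subgroup G} (T : Sylow p M)
    (h : normalizer (((T : Subgroup M).map M.subtype : Subgroup G) : Set G) ≤ M) :
    ∃ P : Sylow p G, (P : Subgroup G) = (T : Subgroup M).map M.subtype := by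
  set R := (T : Subgroup M).map M.subtype with hR
  obtain ⟨P, hP⟩ := (T.2.map M.subtype).exists_le_sylow
  refine ⟨P, ?_⟩
  by_contra hne
  have hlt : R.subgroupOf (P : Subgroup G) < ⊤ := by
    rw [lt_top_iff_ne_top, Ne, subgroupOf_eq_top]
    exact fun h => hne (le_antisymm h hP)
  haveI := P.2.isNilpotent
  obtain ⟨x, hx, hx'⟩ := SetLike.exists_of_lt (Group.normalizerCondition_of_isNilpotent _ hlt)
  have hxM : (x : G) ∈ M := by
    refine h ?_
    rw [mem_normalizer_iff_map_conj_eq]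
    refine eq_of_le_of_card_ge ?_
      (le_of_eq (card_map_of_injective (MulAut.conj (x : G)).injective).symm)
    rintro _ ⟨r, hr, rfl⟩
    exact ((mem_normalizer_iff.mp hx) ⟨r, hP hr⟩).mp hr
  have hTP : IsPGroup p ↥(R ⊔ zpowers (x : G)) :=
    P.2.to_le (sup_le hP (zpowers_le.mpr x.2))
  have h3 := T.3 (hTP.comap_subtype (K := M)) (fun z hz => mem_sup_left ⟨z, hz, rfl⟩)
  have h4 : (⟨(x : G), hxM⟩ : M) ∈ (T : Subgroup M) :=
    h3 ▸ (mem_subgroupOf.mpr (mem_sup_right (mem_zpowers (x : G))))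
  exact hx' ⟨_, h4, rfl⟩

/-- `O₂(M) = 1` for `M ≠ Cent t` maximal over `Cent t` with a normal 2-complement. -/
theorem pCore_two_eq_bot (hyp : Hyp S t) {M : Subgroup G} (hM : IsCoatom M) (hCM : Cent t ≤ M)
    (hc : Cfsg.HasNormalPComplement 2 M) (hne : M ≠ Cent t) : Cfsg.pCore 2 M = ⊥ := by
  haveI : Fact (Nat.Prime 2) := ⟨Nat.prime_two⟩
  haveI := hyp.simple
  by_contra h2
  have hSM : (S : Subgroup G) ≤ M := hyp.sylow_le_cent.trans hCM
  set T := S.subtype hSM with hT
  set R := Cfsg.pCore 2 M with hR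
  have hR2 : IsPGroup 2 R := PCore.isPGroup_pCore
  have hne' := LocalStructure.inf_centralizer_ne_bot hR2 h2 T.2
    (by rw [normalizer_eq_top (H := R)]; exact le_top)
  haveI := (nontrivial_iff_ne_bot _).2 hne'
  obtain ⟨k, hk, hcard⟩ := (hR2.to_le
    (inf_le_left : R ⊓ centralizer ((T : Subgroup M) : Set M) ≤ R)).nontrivial_iff_card.mp inferInstance
  obtain ⟨⟨z, hzR, hzT⟩, hz⟩ := exists_prime_orderOf_dvd_card'
    (G := ↥(R ⊓ centralizer ((T : Subgroup M) : Set M))) 2 (hcard ▸ dvd_pow_self 2 hk.ne')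
  rw [← Subgroup.orderOf_coe] at hz
  change orderOf z = 2 at hz
  obtain ⟨K, hK, hcK⟩ := (Transfer.hasNormalPComplement_iff_exists T).mp hc
  haveI := hK
  have hzK : ∀ c ∈ K, Commute z c := fun c hcK' =>
    (PCore.commute_of_normal_of_disjoint PCore.pCore_normal hK
      (PCore.disjoint_of_isPGroup_of_coprime hR2
        (Transfer.coprime_card_of_isComplement'_sylow T hcK)) hzR hcK' : z * c = c * z)
  have hcen : ∀ x : M, Commute z x := by
    intro x
    obtain ⟨⟨⟨a, ha⟩, ⟨s, hs⟩⟩, rfl, -⟩ := (Subgroup.isComplement'_def.mp hcK).existsUnique x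
    exact (hzK a ha).mul_right (mem_centralizer_iff.mp hzT s hs).symm
  have hzo : orderOf (z : G) = 2 := by rw [Subgroup.orderOf_coe]; exact hz
  have hle : M ≤ Cent (z : G) := fun x hx => mem_cent.2 (congrArg Subtype.val (hcen ⟨x, hx⟩).symm.eq)
  have hnt : Cent (z : G) ≠ ⊤ := by
    intro h
    have hcz : (z : G) ∈ center G := mem_center_iff.2 fun g => by
      have := mem_cent.1 (h.ge (mem_top g))
      exact this
    rcases hyp.simple.eq_bot_or_eq_top_of_normal (center G) inferInstance with h1 | h1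
    · rw [h1, mem_bot] at hcz
      exact ne_one_of_order hzo hcz
    · exact hyp.not_comm ⟨⟨fun a b => (mem_center_iff.1 (h1 ▸ mem_top b) a)⟩⟩
  have heq : M = Cent (z : G) := ((hM.le_iff.mp hle).resolve_left hnt).symm
  obtain ⟨g, hg⟩ := isConj_iff.1 (hyp.isConj_t hzo)
  refine hne (eq_of_le_of_card_ge hCM ?_).symm
  rw [heq]
  refine Nat.card_le_card_of_injective
    (fun x : Cent (z : G) => (⟨g * x * g⁻¹, mem_cent.2 (by
      rw [← hg]
      have e := mem_cent.1 x.2
      calc g * (x : G) * g⁻¹ * (g * z * g⁻¹) = g * ((x : G) * z) * g⁻¹ := by group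
        _ = g * (z * (x : G)) * g⁻¹ := by rw [e]
        _ = g * z * g⁻¹ * (g * (x : G) * g⁻¹) := by group)⟩ : Cent t)) fun a b h => ?_
  have h' : g * (a : G) * g⁻¹ = g * (b : G) * g⁻¹ := congrArg Subtype.val h
  exact Subtype.ext (mul_left_cancel (mul_right_cancel h'))

/-- **Two primes**: `F(M)` of a maximal `M ≥ Cent t`, `M ≠ Cent t`, with a normal 2-complement has
two prime divisors. -/
theorem two_primes_fitting (hyp : Hyp S t) {M : Subgroup G} (hM : IsCoatom M) (hCM : Cent t ≤ M)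
    (hc : Cfsg.HasNormalPComplement 2 M) (hne : M ≠ Cent t) :
    ∃ p r : ℕ, p.Prime ∧ r.Prime ∧ p ≠ r ∧ p ∣ Nat.card ↥(Cfsg.fittingSubgroup ↥M) ∧
      r ∣ Nat.card ↥(Cfsg.fittingSubgroup ↥M) := by
  classical
  haveI : Fact (Nat.Prime 2) := ⟨Nat.prime_two⟩
  haveI := hyp.simple
  haveI := isSolvable_of_complement hc
  have hSM : (S : Subgroup G) ≤ M := hyp.sylow_le_cent.trans hCM
  have hM1 : M ≠ ⊥ := fun h => ne_one_of_order hyp.orderT (mem_bot.1 (h ▸ hSM hyp.memS))
  haveI := (nontrivial_iff_ne_bot M).mpr hM1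
  obtain ⟨p, hp, hpd⟩ : ∃ p : ℕ, p.Prime ∧ p ∣ Nat.card ↥(Cfsg.fittingSubgroup ↥M) :=
    Nat.exists_prime_and_dvd fun h1 =>
      Components.fittingSubgroup_ne_bot (G := M) (eq_bot_of_card_eq _ h1)
  by_contra hno
  have hall : ∀ r : ℕ, r.Prime → r ∣ Nat.card ↥(Cfsg.fittingSubgroup ↥M) → r = p :=
    fun r hr hd => by
      by_contra hrp
      exact hno ⟨p, r, hp, hr, Ne.symm hrp, hpd, hd⟩
  haveI := Fact.mk hp
  have hp2 : p ≠ 2 := by
    rintro rfl
    refine (S1856.dvd_card_fit_iff M).1 hpd ?_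
    rw [S1312.coreP, pCore_two_eq_bot hyp hM hCM hc hne, Subgroup.map_bot]
  -- `F(M) = O_p(M)`
  have hFp : Cfsg.fittingSubgroup ↥M ≤ Cfsg.pCore p ↥M := by
    have h := (S1856.fit_le_iff M (S1312.coreP p M)).2 fun r hr hd => by
      rw [hall r hr hd]
    exact (map_le_map_iff_of_injective M.subtype_injective).1 h
  have hcen : centralizer (Cfsg.pCore p ↥M : Set ↥M) ≤ Cfsg.pCore p ↥M :=
    (centralizer_le hFp).trans ((Components.centralizer_fittingSubgroup_le).trans hFp)
  -- a Sylow subgroup of `M` above a Sylow subgroup of `oCore t`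
  obtain ⟨R₀⟩ := (inferInstance : Nonempty (Sylow p (oCore t)))
  set P₀ := (R₀ : Subgroup (oCore t)).map (oCore t).subtype with hP₀
  have hP₀M : P₀ ≤ M := (map_subtype_le _).trans ((Hyp.oCore_le_cent t).trans hCM)
  obtain ⟨T, hT⟩ := ((R₀.2.map (oCore t).subtype).comap_subtype (K := M)).exists_le_sylow
  set R := (T : Subgroup M).map M.subtype with hR
  have hP₀R : P₀ ≤ R := fun x hx => ⟨⟨x, hP₀M hx⟩, hT hx, rfl⟩
  obtain ⟨n, hn, ⟨e⟩⟩ := hyp.dihedral
  have hd : SubDihedral G := subDihedral_of_sylow S hn e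
  have hWn : (Cfsg.centerThompsonAOf (T : Subgroup M)).Normal :=
    Replacement.centerThompsonAOf_normal hp2 T (isStronglyClosed_sylow T)
      (Qd.stableOn_of_not_involves_qd hp2 (not_involves_qd (hd.subgroup M) hp2) T) hcen
  have hR1 : R ≠ ⊥ := by
    intro h
    have h1 := (S1856.dvd_card_fit_iff M).1 hpd
    exact h1 (le_bot_iff.1 (h ▸ map_mono (PCore.pCore_le_sylow T)))
  set W := Cfsg.centerThompsonAOf R with hW
  have hWR : W ≤ R := (ZJControl.isZJLike_A hp2).le G R
  have hWeq : W = (Cfsg.centerThompsonAOf (T : Subgroup M)).map M.subtype :=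
    (ZJControl.isZJLike_A hp2).map_subtype (T : Subgroup M)
  have hMW : M ≤ normalizer (W : Set G) := by
    haveI := hWn
    rw [hWeq]
    exact S1312.le_normalizer_map M _
  have hNW : normalizer (W : Set G) = M :=
    S1856.normalizer_eq_of_le hM (hWR.trans (map_subtype_le _)) hMW
      ((ZJControl.isZJLike_A hp2).ne_bot G R (T.2.map _) hR1)
  obtain ⟨P, hP⟩ := exists_sylow_of_normalizer_le T
    (((ZJControl.isZJLike_A hp2).normalizer_le R).trans hNW.le)
  -- `t` centralises the fixed points of the other involutions on `O_p(M)`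
  set F := S1312.coreP p M with hF
  have hFP : F ≤ (P : Subgroup G) := hP ▸ map_mono (PCore.pCore_le_sylow T)
  have hSF : (S : Subgroup G) ≤ normalizer (F : Set G) :=
    hSM.trans (S1856.le_normalizer_coreP p M)
  have hodd_p : ∀ x ∈ (P : Subgroup G), Odd (orderOf x) := by
    intro x hx
    obtain ⟨j, hj⟩ := P.2 ⟨x, hx⟩
    exact (hp.odd_of_ne_two hp2).pow.of_dvd_nat
      (orderOf_dvd_of_pow_eq_one (by simpa using congrArg Subtype.val hj : x ^ p ^ j = 1))
  have key : ∀ u ∈ (S : Subgroup G), orderOf u = 2 → F ⊓ Cent u ≤ Cent t := by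
    intro u hu hu2 a ha
    have htu : Commute t u := (hyp.centralS u hu).symm
    set z := a⁻¹ * (t * a * t⁻¹) with hz
    have hconjA : t * a * t⁻¹ ∈ F ⊓ Cent u :=
      ⟨(mem_normalizer_iff.mp (hSF hyp.memS) a).mp ha.1,
        mem_cent.2 ((htu.mul_left (mem_cent.1 ha.2)).mul_left htu.inv_left).eq⟩
    have hzA : z ∈ F ⊓ Cent u := mul_mem (inv_mem ha) hconjA
    have hzinv : t * z * t⁻¹ = z⁻¹ := by
      have h2 : t * t = 1 := sq_of_order hyp.orderT
      calc t * z * t⁻¹ = t * a⁻¹ * t * a * (t * t)⁻¹ := by rw [hz]; group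
        _ = t * a⁻¹ * t⁻¹ * a := by rw [h2, inv_one, mul_one, inv_of_order hyp.orderT]
        _ = z⁻¹ := by rw [hz]; group
    have hzo : Odd (orderOf z) := hodd_p z (hFP hzA.1)
    have hz1 : z = 1 := by
      have hzu : z ∈ oCore u := (hyp.mem_oCore_iff hu2).2 ⟨hzA.2, hzo⟩
      obtain ⟨c, hc'⟩ := isConj_iff.1 (hyp.isConj_t hu2)
      have hzt : c * z * c⁻¹ ∈ oCore t := hc' ▸ hyp.map_oCore hu2 c hzu
      have hzp : IsPGroup p (zpowers (⟨_, hzt⟩ : oCore t)) := by
        obtain ⟨j, hj⟩ := P.2 ⟨z, hFP hzA.1⟩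
        have hd : orderOf (⟨_, hzt⟩ : oCore t) ∣ p ^ j := by
          rw [orderOf_mk, show c * z * c⁻¹ = MulAut.conj c z from rfl, MulEquiv.orderOf_eq]
          exact orderOf_dvd_of_pow_eq_one (by simpa using congrArg Subtype.val hj)
        obtain ⟨i, -, hi⟩ := (Nat.dvd_prime_pow hp).1 hd
        exact IsPGroup.of_card (n := i) (by rw [Nat.card_zpowers, hi])
      obtain ⟨T', hT'⟩ := hzp.exists_le_sylow
      obtain ⟨d, hd'⟩ := MulAction.exists_smul_eq (oCore t) T' R₀
      set y₁ := (d : G) * (c * z * c⁻¹) * (d : G)⁻¹ with hy₁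
      have hy₁P : y₁ ∈ P₀ := by
        refine ⟨d * ⟨_, hzt⟩ * d⁻¹, ?_, rfl⟩
        rw [← hd', Sylow.coe_subgroup_smul]
        exact smul_mem_pointwise_smul _ (MulAut.conj d) _ (hT' (mem_zpowers _))
      obtain ⟨-, hctrl⟩ := zjA_controls hd hp2 P (A := {z}) (Set.singleton_subset_iff.2 (hFP hzA.1))
      obtain ⟨m, hm, hma⟩ := hctrl ((d : G) * c) (by
        rintro _ ⟨w, hw, rfl⟩
        rw [Set.mem_singleton_iff] at hw
        subst hw
        show (d : G) * c * z * ((d : G) * c)⁻¹ ∈ (P : Subgroup G)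
        rw [show (d : G) * c * z * ((d : G) * c)⁻¹ = y₁ by rw [hy₁]; group, hP]
        exact hP₀R hy₁P)
      rw [hP, ← hW, hNW] at hm
      refine eq_one_of_complement hyp hSM hc hm hzo (y₁ := y₁) ?_ ?_ hzinv
      · rw [← hma z rfl, hy₁]; group
      · exact (mem_cent.1 (Hyp.oCore_le_cent t (map_subtype_le _ hy₁P))).symm
    refine mem_cent.2 ?_
    rw [hz, inv_mul_eq_one] at hz1
    exact eq_mul_inv_iff_mul_eq.mp hz1
  obtain ⟨g⟩ := hyp.exists_gens
  have hu2 : orderOf g.τ = 2 := g.hτo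
  have hne' : t ≠ g.τ := fun e' => tau_not_mem g (e' ▸ g.htσ)
  have hpair : Pair t g.τ := ⟨hyp.orderT, hu2, (hyp.centralS g.τ g.hτ).symm, hne'⟩
  have hA4 : hpair.four ≤ (S : Subgroup G) := hpair.four_le hyp.memS g.hτ
  haveI : IsMulCommutative hpair.four :=
    ⟨⟨fun a b => Subtype.ext (hpair.commute_of_mem_four a.2 b.2).eq⟩⟩
  have hcyc : ¬ IsCyclic hpair.four := by
    intro hc
    haveI := hc
    obtain ⟨x, hx⟩ := IsCyclic.exists_generator (α := hpair.four)
    have := eq_of_invol_zpowers (σ := (x : G)) (x := t) (y := g.τ) ?_ ?_ hyp.orderT hu2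
    · exact hne' this
    · obtain ⟨i, hi⟩ := mem_zpowers_iff.mp (hx ⟨t, hpair.left_mem⟩)
      exact ⟨i, congrArg Subtype.val hi⟩
    · obtain ⟨i, hi⟩ := mem_zpowers_iff.mp (hx ⟨g.τ, hpair.right_mem⟩)
      exact ⟨i, congrArg Subtype.val hi⟩
  have hcop : (Nat.card hpair.four).Coprime (Nat.card F) := by
    obtain ⟨i, hi⟩ := IsPGroup.iff_card.mp hpair.isPGroup
    obtain ⟨j, hj⟩ := IsPGroup.iff_card.mp (S1312.isPGroup_coreP p M)
    rw [hi, hF, hj]
    exact ((Nat.coprime_primes Nat.prime_two hp).mpr (Ne.symm hp2)).pow i j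
  have hFt : F ⊓ Cent t = F := by
    refine Coprime.eq_of_forall_centralizer_le hcyc (hA4.trans hSF) hcop inf_le_left
      fun a ha ha1 => le_inf inf_le_left ?_
    rcases ha with rfl | rfl | rfl | rfl
    · exact absurd rfl ha1
    · exact inf_le_right
    · exact key _ g.hτ hu2
    · exact key _ (mul_mem hyp.memS g.hτ) hpair.order_mul
  -- so `t` lies in `O_p(M)`
  have htF : (⟨t, hSM hyp.memS⟩ : M) ∈ Cfsg.pCore p ↥M :=
    hcen (mem_centralizer_iff.2 fun y hy => Subtype.ext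
      (mem_cent.1 (hFt.ge (mem_map_of_mem M.subtype hy)).2))
  obtain ⟨j, hj⟩ := (PCore.isPGroup_pCore (p := p)) ⟨_, htF⟩
  have h2 : orderOf t ∣ p ^ j := orderOf_dvd_of_pow_eq_one
    (by simpa using congrArg (fun z : Cfsg.pCore p ↥M => ((z : M) : G)) hj)
  rw [hyp.orderT] at h2
  exact hp2 ((Nat.prime_dvd_prime_iff_eq Nat.prime_two hp).mp
    (Nat.prime_two.dvd_of_dvd_pow h2)).symm

end Cfsg.Agent.GW
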