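import Cfsg.Agent.Lib.GW.KType
import Cfsg.Agent.Lib.Coprime.Sylow
import Cfsg.Agent.Lib.PSL2.Sylow
import Cfsg.Agent.Lib.PSL2.Classes
import Cfsg.Agent.Lib.Spectrum.Basic
import Cfsg.Agent.Lib.Fusion.DihedralAut

/-!
# Odd subgroups of groups of known type

* `IsKnown.signalizer_eq_bot`: in `PSL₂(q)` or `A₇` a noncyclic odd `p`-subgroup normalises no
  nontrivial odd subgroup of order prime to `p`.
* `index_simple_le_two`, `odd_le_simple`: if four groups are self-centralising, a group with
  dihedral Sylow 2-subgroups has every known simple normal subgroup of index at most 2.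
* `signalizer_le_oddCore`: the combination, modulo the odd core.
-/

set_option autoImplicit false
set_option linter.style.haveILetI false

namespace Cfsg.Agent.GW

open Subgroup
open scoped MatrixGroups

universe u v

variable {X : Type u} [Group X] [Finite X]

/-- The four groups of `X` are self-centralising. -/
def SelfFour (X : Type u) [Group X] : Prop :=
  ∀ V : Subgroup X, IsKleinFour V → centralizer (V : Set X) ≤ V

omit [Finite X] in
theorem SelfFour.of_injective (h : SelfFour X) {Y : Type v} [Group Y] [Finite Y] (f : Y →* X)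
    (hf : Function.Injective f) : SelfFour Y := by
  intro V hV y hy
  haveI := hV
  have hy' : f y ∈ centralizer ((V.map f : Subgroup X) : Set X) := by
    rw [mem_centralizer_iff]
    rintro _ ⟨v, hv, rfl⟩
    rw [← map_mul, ← map_mul, mem_centralizer_iff.mp hy v hv]
  obtain ⟨v, hv, hvy⟩ := h _ (isKleinFour_map f hf V) hy'
  exact hf hvy ▸ hv

theorem SelfFour.subgroup (h : SelfFour X) (L : Subgroup X) : SelfFour L :=
  h.of_injective L.subtype L.subtype_injective

/-- Self-centralising four groups stay so modulo a normal odd subgroup. -/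
theorem SelfFour.quotient (h : SelfFour X) (N : Subgroup X) [N.Normal]
    (hN : Odd (Nat.card N)) : SelfFour (X ⧸ N) := by
  haveI : Fact (Nat.Prime 2) := ⟨Nat.prime_two⟩
  intro W hW y hy
  haveI := hW
  set π := QuotientGroup.mk' N with hπ
  have hπs : Function.Surjective π := QuotientGroup.mk'_surjective N
  have hker : π.ker = N := QuotientGroup.ker_mk' N
  set K := W.comap π with hK
  obtain ⟨T⟩ := (inferInstance : Nonempty (Sylow 2 K))
  set V := (T : Subgroup K).map K.subtype with hV
  let g : K →* W := (π.comp K.subtype).codRestrict W fun x => x.2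
  have hg : Function.Surjective g := by
    rintro ⟨w, hw⟩
    obtain ⟨x, rfl⟩ := hπs w
    exact ⟨⟨x, hw⟩, rfl⟩
  have hW2 : IsPGroup 2 W := IsPGroup.of_card (n := 2) (by rw [IsKleinFour.card_four]; norm_num)
  have hTtop : (T : Subgroup K).map g = ⊤ := by
    have h2 : IsPGroup 2 (⊤ : Subgroup W) := PCore.isPGroup_top_iff.mpr hW2
    have := (T.mapSurjective hg).3 h2 le_top
    rw [Sylow.coe_mapSurjective] at this
    exact this.symm
  have hVmap : V.map π = W := by
    have h1 : ((T : Subgroup K).map g).map W.subtype = W := by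
      rw [hTtop, ← MonoidHom.range_eq_map, range_subtype]
    calc V.map π = ((T : Subgroup K).map g).map W.subtype := by
          rw [hV, map_map, map_map]; rfl
      _ = W := h1
  have hV2 : IsPGroup 2 V := T.2.map _
  have hinj : Function.Injective (π.comp V.subtype) := by
    rw [injective_iff_map_eq_one]
    intro a ha
    have h1 : (a : X) ∈ N := hker ▸ (ha : π (a : X) = 1)
    obtain ⟨k, hk⟩ := hV2 a
    have h3 : orderOf (a : X) ∣ 2 ^ k :=
      orderOf_dvd_of_pow_eq_one (by rw [← Subgroup.coe_pow, hk]; rfl)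
    exact Subtype.ext (orderOf_eq_one_iff.mp (Nat.eq_one_of_dvd_coprimes
      ((Nat.coprime_two_right.mpr hN).pow_right k) (Subgroup.orderOf_dvd_natCard _ h1) h3))
  haveI : IsKleinFour V := by
    let e : V ≃* W := (MonoidHom.ofInjective hinj).trans (MulEquiv.subgroupCongr (by
      rw [MonoidHom.range_eq_map, ← map_map, ← MonoidHom.range_eq_map, range_subtype, hVmap]))
    exact ⟨by rw [Nat.card_congr e.toEquiv, IsKleinFour.card_four],
      by rw [Monoid.exponent_eq_of_mulEquiv e, IsKleinFour.exponent_two]⟩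
  obtain ⟨x, rfl⟩ := hπs y
  obtain ⟨n, hn, hxn⟩ := Coprime.exists_mul_mem_centralizer (A := V) (N := N) (k := x)
    (fun a _ => by rw [normalizer_eq_top (H := N)]; trivial)
    (by rw [IsKleinFour.card_four, show (4 : ℕ) = 2 ^ 2 by norm_num]
        exact ((Nat.coprime_two_right.mpr hN).pow_right 2).symm)
    (Or.inl (haveI := hV2.isNilpotent; inferInstance))
    (fun a ha => by
      rw [← hker, MonoidHom.mem_ker]
      have h1 := mem_centralizer_iff.mp hy (π a) (hVmap ▸ mem_map_of_mem π ha)
      calc π (x⁻¹ * a * x * a⁻¹) = (π x)⁻¹ * (π a * π x) * (π a)⁻¹ := by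
            simp only [map_mul, map_inv, mul_assoc]
        _ = 1 := by rw [h1]; group)
  have h2 := mem_map_of_mem π (h V inferInstance hxn)
  have h3 : π n = 1 := by rw [← MonoidHom.mem_ker, hker]; exact hn
  rw [hVmap, map_mul, h3, mul_one] at h2
  exact h2

/-! ### Inside a known simple group -/

omit [Finite X] in
theorem IsKnown.even_card (h : IsKnown X) : 2 ∣ Nat.card X := by
  rcases h with ⟨F, iF, iF', hodd, h3, ⟨e⟩⟩ | ⟨⟨e⟩⟩
  · obtain ⟨ℓ, hℓ⟩ := CharP.exists F
    haveI := hℓ
    haveI : Fact ℓ.Prime := ⟨CharP.char_is_prime F ℓ⟩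
    have h2 : (2 : F) ≠ 0 := by
      intro h0
      haveI : CharP F 2 := CharTwo.of_one_ne_zero_of_two_eq_zero one_ne_zero h0
      obtain ⟨n, -, hcard⟩ := FiniteField.card F 2
      rw [hcard] at hodd
      exact Nat.not_odd_iff_even.mpr (Nat.even_pow.mpr ⟨even_two, n.ne_zero⟩) hodd
    obtain ⟨P⟩ := (inferInstance : Nonempty (Sylow 2 PSL(2, F)))
    obtain ⟨n, hn⟩ := PSL2.sylow_two_dihedral h2 P
    rw [Nat.card_congr e.toEquiv]
    refine dvd_trans ?_ (card_subgroup_dvd_card (P : Subgroup PSL(2, F)))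
    rw [Nat.card_congr (Classical.choice hn.2.2).toEquiv, DihedralGroup.nat_card]
    exact dvd_mul_right 2 _
  · rw [Nat.card_congr e.toEquiv, nat_card_alternatingGroup, Nat.card_eq_fintype_card,
      Fintype.card_fin]
    decide

omit [Finite X] in
/-- A finite cyclic group has at most one subgroup of each order. -/
theorem eq_of_card_eq_of_cyclic {α : Type*} [Group α] [Finite α] [IsCyclic α] {H K : Subgroup α}
    (h : Nat.card H = Nat.card K) : H = K := by
  classical
  haveI := Fintype.ofFinite α
  have key : ∀ L : Subgroup α, Nat.card L = Nat.card H →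
      (L : Set α).toFinset = Finset.univ.filter fun x => x ^ Nat.card H = 1 := fun L hL => by
    refine Finset.eq_of_subset_of_card_le (fun x hx => ?_) ?_
    · rw [Set.mem_toFinset, SetLike.mem_coe] at hx
      refine Finset.mem_filter.2 ⟨Finset.mem_univ _, ?_⟩
      rw [← hL]
      have := congrArg Subtype.val (pow_card_eq_one' (x := (⟨x, hx⟩ : L)))
      rwa [SubgroupClass.coe_pow, OneMemClass.coe_one] at this
    · refine (IsCyclic.card_pow_eq_one_le Nat.card_pos).trans (le_of_eq ?_)
      rw [← hL]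
      exact Nat.card_eq_card_toFinset (L : Set α)
  simpa using (key H rfl).trans (key K h.symm).symm

/-- The noncyclic odd prime of a known group is isolated in the prime graph. -/
theorem IsKnown.prime_isolated (h : IsKnown X) {p : ℕ} [hp : Fact p.Prime] (hp2 : p ≠ 2)
    {P : Subgroup X} (hP : IsPGroup p P) (hPc : ¬ IsCyclic P) {q : ℕ} [hq : Fact q.Prime]
    (hq2 : q ≠ 2) (hqp : q ≠ p) :
    (∀ Q : Subgroup X, IsPGroup q Q → IsCyclic Q) ∧ ∀ x : X, orderOf x ≠ p * q := by
  classical
  rcases h with ⟨F, iF, iF', hodd, h3, ⟨e⟩⟩ | ⟨⟨e⟩⟩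
  · obtain ⟨ℓ, hℓ⟩ := CharP.exists F
    haveI := hℓ
    haveI : Fact ℓ.Prime := ⟨CharP.char_is_prime F ℓ⟩
    have cyc : ∀ (r : ℕ) [Fact r.Prime], r ≠ 2 → r ≠ ℓ → ∀ Q : Subgroup X, IsPGroup r Q →
        IsCyclic Q := by
      intro r _ hr2 hrl Q hQ
      obtain ⟨R, hR⟩ := (hQ.map e.toMonoidHom).exists_le_sylow
      haveI := PSL2.isCyclic_sylow_odd_psl (F := F) ℓ r hr2 hrl R
      haveI : IsCyclic (Q.map e.toMonoidHom) :=
        isCyclic_of_injective (inclusion hR) (inclusion_injective hR)
      exact (Q.equivMapOfInjective e.toMonoidHom e.injective).isCyclic.mpr inferInstance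
    have hpl : p = ℓ := by
      by_contra hne
      exact hPc (cyc p hp2 hne P hP)
    subst hpl
    refine ⟨fun Q hQ => cyc q hq2 hqp Q hQ, fun x hx => ?_⟩
    have hdvd := PSL2.psl_orderOf_dvd (F := F) p (e x)
    rw [show orderOf (e x) = p * q by rw [← hx]; exact e.orderOf_eq x] at hdvd
    obtain ⟨n, -, hn⟩ := FiniteField.card F p
    have hpF : p ∣ Fintype.card F := hn ▸ dvd_pow_self p n.ne_zero
    have hdiv : ∀ a : ℕ, Nat.gcd 2 (Fintype.card F - 1) ∣ a →
        p * q ∣ a / Nat.gcd 2 (Fintype.card F - 1) → p ∣ a :=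
      fun a ha hd => ((dvd_mul_right p q).trans hd).trans (Nat.div_dvd_of_dvd ha)
    have hg : Nat.gcd 2 (Fintype.card F - 1) = 2 := by
      refine Nat.gcd_eq_left ?_
      obtain ⟨k, hk⟩ := hodd
      exact ⟨k, by omega⟩
    have h2a : 2 ∣ Fintype.card F - 1 := hg ▸ Nat.gcd_dvd_right _ _
    rcases hdvd with h1 | h1 | h1
    · have hq1 : q ∣ p := (dvd_mul_left q p).trans h1
      exact hqp ((Nat.prime_dvd_prime_iff_eq hq.out hp.out).mp hq1)
    · have h4 := Nat.dvd_sub hpF (hdiv _ (Nat.gcd_dvd_right _ _) h1)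
      rw [Nat.sub_sub_self (by omega)] at h4
      exact hp.out.not_dvd_one h4
    · have h4 := hdiv _ (by rw [hg]; obtain ⟨k, hk⟩ := hodd; exact ⟨k + 1, by omega⟩) h1
      exact hp.out.not_dvd_one ((Nat.dvd_add_right hpF).mp h4)
  · have hcard : Nat.card X = 2520 := by
      rw [Nat.card_congr e.toEquiv, nat_card_alternatingGroup, Nat.card_eq_fintype_card,
        Fintype.card_fin]
      rfl
    have big : ∀ (r : ℕ) [Fact r.Prime], r ≠ 2 → r ≠ 3 → ∀ Q : Subgroup X, IsPGroup r Q →
        IsCyclic Q := by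
      intro r hr hr2 hr3 Q hQ
      obtain ⟨k, hk⟩ := IsPGroup.iff_card.mp hQ
      have hd : r ^ k ∣ 2520 := hcard ▸ hk ▸ card_subgroup_dvd_card Q
      rcases k with _ | _ | k
      · haveI : Subsingleton Q := (Nat.card_eq_one_iff_unique.mp (by simpa using hk)).1
        infer_instance
      · exact isCyclic_of_prime_card (p := r) (by simpa using hk)
      · exfalso
        have h2 : r ^ 2 ∣ 2520 := (pow_dvd_pow r (by omega)).trans hd
        have hle : r ≤ 50 := by
          by_contra hgt
          have := Nat.le_of_dvd (by norm_num) h2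
          have : 51 ^ 2 ≤ r ^ 2 := Nat.pow_le_pow_left (by omega) 2
          omega
        have := hr.out
        interval_cases r <;> norm_num at *
    have hp3 : p = 3 := by
      by_contra hne
      exact hPc (big p hp2 hne P hP)
    subst hp3
    refine ⟨fun Q hQ => big q hq2 hqp Q hQ, fun x hx => ?_⟩
    have hmem := Spectrum.orderOf_alternating_mem (n := 7) 3 (by norm_num) [1, 2, 3, 4, 5, 6, 7]
      (by decide) (e x)
    rw [show orderOf (e x) = 3 * q by rw [← hx]; exact e.orderOf_eq x] at hmem
    have := hq.out.two_le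
    simp only [List.mem_cons, List.not_mem_nil, or_false] at hmem
    omega

/-- In a known simple group a noncyclic `p`-subgroup (`p` odd) normalises no nontrivial odd
subgroup of order prime to `p`. -/
theorem IsKnown.signalizer_eq_bot (h : IsKnown X) {p : ℕ} [hp : Fact p.Prime] (hp2 : p ≠ 2)
    {P Y : Subgroup X} (hP : IsPGroup p P) (hPc : ¬ IsCyclic P) (hY : Odd (Nat.card Y))
    (hYp : ¬ p ∣ Nat.card Y) (hn : P ≤ normalizer (Y : Set X)) : Y = ⊥ := by
  by_contra hne
  obtain ⟨q, hqp, hqd⟩ := Nat.exists_prime_and_dvd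
    (fun h1 : Nat.card Y = 1 => hne (eq_bot_of_card_eq _ h1))
  haveI : Fact q.Prime := ⟨hqp⟩
  have hq2 : q ≠ 2 := by
    rintro rfl
    exact Nat.not_even_iff_odd.mpr hY (even_iff_two_dvd.mpr hqd)
  have hqne : q ≠ p := by
    rintro rfl
    exact hYp hqd
  obtain ⟨hcyc, hiso⟩ := h.prime_isolated hp2 hP hPc hq2 hqne
  obtain ⟨k, hk⟩ := IsPGroup.iff_card.mp hP
  haveI := hP.isNilpotent
  obtain ⟨T, hT⟩ := Coprime.exists_invariant_sylow hn
    (hk ▸ ((hp.out.coprime_iff_not_dvd.mpr hYp).pow_left k)) (Or.inl inferInstance) q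
  set R := (T : Subgroup Y).map Y.subtype with hR
  haveI := hcyc R (T.2.map _)
  have hR1 : R ≠ ⊥ := by
    rw [hR, Ne, map_eq_bot_iff_of_injective _ Y.subtype_injective]
    exact T.ne_bot_of_dvd_card hqd
  obtain ⟨y, hy⟩ := exists_prime_orderOf_dvd_card' (G := R) q (by
    obtain ⟨j, hj⟩ := IsPGroup.iff_card.mp (T.2.map Y.subtype)
    rw [hj]
    refine dvd_pow_self q (fun h0 => hR1 (eq_bot_of_card_eq _ ?_))
    rw [hj, h0, pow_zero])
  set Z := zpowers (y : X) with hZ
  have hcardZ : Nat.card Z = q := by rw [hZ, Nat.card_zpowers, orderOf_coe, hy]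
  have hPZ : P ≤ normalizer (Z : Set X) := by
    intro x hx
    rw [mem_normalizer_iff_map_conj_eq]
    have hle : Z.map (MulAut.conj x).toMonoidHom ≤ R := by
      rw [hZ, MonoidHom.map_zpowers, zpowers_le]
      exact (mem_normalizer_iff.mp (hT hx) _).mp y.2
    have hcz : Nat.card (Z.map (MulAut.conj x).toMonoidHom) = q := by
      rw [card_map_of_injective (MulAut.conj x).injective, hcardZ]
    -- a cyclic group has one subgroup of each order
    have hZR : Z ≤ R := zpowers_le.mpr y.2
    refine map_injective_of_ker_le (H := _) (K := _) (f := MonoidHom.id X) (by simp) (by simp) ?_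
    rw [map_id, map_id]
    have key : ∀ A : Subgroup X, A ≤ R → Nat.card A = q →
        A.subgroupOf R = (zpowers y : Subgroup R) := by
      intro A hA hAc
      have hc1 : Nat.card (A.subgroupOf R) = q := by
        rw [Nat.card_congr (subgroupOfEquivOfLe hA).toEquiv, hAc]
      refine eq_of_card_eq_of_cyclic ?_
      rw [hc1, Nat.card_zpowers, hy]
    have := (key _ hle hcz).trans (key _ hZR hcardZ).symm
    rwa [subgroupOf_inj, inf_eq_left.mpr hle, inf_eq_left.mpr hZR] at this
  haveI : IsCyclic Z := by rw [hZ]; infer_instance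
  haveI : IsCyclic (MulAut Z) := by
    have e : MulAut Z ≃* (ZMod (Nat.card Z))ˣ := IsCyclic.mulAutMulEquiv Z
    rw [e.isCyclic, hcardZ]
    infer_instance
  let f : P →* MulAut Z := (Z.normalizerMonoidHom).comp (inclusion hPZ)
  have hf : ¬ Function.Injective f := fun hf => hPc (isCyclic_of_injective f hf)
  rw [injective_iff_map_eq_one] at hf
  push Not at hf
  obtain ⟨x, hx1, hxne⟩ := hf
  have hxC : (x : X) ∈ centralizer (Z : Set X) := by
    have : inclusion hPZ x ∈ Z.normalizerMonoidHom.ker := hx1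
    rw [normalizerMonoidHom_ker, mem_subgroupOf] at this
    exact this
  obtain ⟨j, hj⟩ := hP x
  have hord : orderOf (x : X) ∣ p ^ j :=
    orderOf_dvd_of_pow_eq_one (by rw [← Subgroup.coe_pow, hj]; rfl)
  obtain ⟨i, -, hi⟩ := (Nat.dvd_prime_pow hp.out).mp hord
  have hi0 : i ≠ 0 := by
    rintro rfl
    exact hxne (Subtype.ext (orderOf_eq_one_iff.mp (by simpa using hi)))
  set x₀ := (x : X) ^ p ^ (i - 1) with hx₀
  have hx₀o : orderOf x₀ = p := by
    rw [hx₀, orderOf_pow' _ (pow_ne_zero _ hp.out.ne_zero), hi,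
      Nat.gcd_eq_right (pow_dvd_pow p (Nat.sub_le i 1)), Nat.pow_div (Nat.sub_le i 1) hp.out.pos,
      show i - (i - 1) = 1 by omega, pow_one]
  have hcomm : Commute x₀ (y : X) :=
    ((show Commute (x : X) (y : X) from
      (mem_centralizer_iff.mp hxC (y : X) (mem_zpowers _)).symm).pow_left _)
  apply hiso (x₀ * y)
  rw [hcomm.orderOf_mul_eq_mul_orderOf_of_coprime, hx₀o, orderOf_coe, hy]
  rw [hx₀o, orderOf_coe, hy]
  exact (Nat.coprime_primes hp.out hqp).mpr (Ne.symm hqne)

/-! ### Known simple normal subgroups -/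

omit [Finite X] in
theorem card_le_two_of_pow_eq_one {G : Type*} [Group G] [IsCyclic G] [Finite G]
    (h : ∀ g : G, g * g = 1) : Nat.card G ≤ 2 := by
  obtain ⟨g, hg⟩ := IsCyclic.exists_generator (α := G)
  have h1 : orderOf g ∣ 2 := orderOf_dvd_of_pow_eq_one (by rw [pow_two]; exact h g)
  rw [orderOf_eq_card_of_forall_mem_zpowers hg] at h1
  exact Nat.le_of_dvd two_pos h1

/-- A normal dihedral subgroup of order at least 4 of a dihedral group has index at most 2. -/
theorem relIndex_le_two_of_dihedral {n : ℕ} [NeZero n] (T : Subgroup (DihedralGroup n)) [T.Normal]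
    (hT : ¬ IsCyclic T) : T.index ≤ 2 := by
  obtain ⟨i, hi⟩ : ∃ i, DihedralGroup.sr i ∈ T := by
    by_contra hno
    apply hT
    refine Subgroup.isCyclic_of_le (H' := zpowers (DihedralGroup.r (1 : ZMod n))) fun d hd => ?_
    rcases d with b | b
    · refine ⟨(b.val : ℤ), ?_⟩
      show DihedralGroup.r (1 : ZMod n) ^ ((b.val : ℕ) : ℤ) = _
      rw [DihedralGroup.r_one_zpow, Int.cast_natCast, ZMod.natCast_zmod_val]
    · exact absurd ⟨b, hd⟩ hno
  -- `T` contains `r 2`
  have h2 : DihedralGroup.r (2 : ZMod n) ∈ T := by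
    have h1 := T.mul_mem hi (‹T.Normal›.conj_mem _ hi (DihedralGroup.r (-1)))
    have e : DihedralGroup.sr i * (DihedralGroup.r (-1) * DihedralGroup.sr i *
        (DihedralGroup.r (-1))⁻¹) = DihedralGroup.r (2 : ZMod n) := by
      simp; ring
    rwa [e] at h1
  -- every element is in `T` or in `r 1 * T`
  have hcov : ∀ d : DihedralGroup n, d ∈ T ∨ (DihedralGroup.r (1 : ZMod n))⁻¹ * d ∈ T := by
    have hev : ∀ b : ℕ, DihedralGroup.r ((2 * b : ℕ) : ZMod n) ∈ T := fun b => by
      have := T.pow_mem h2 b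
      rw [DihedralGroup.r_pow] at this
      simpa [mul_comm] using this
    have hr : ∀ b : ZMod n, DihedralGroup.r b ∈ T ∨
        (DihedralGroup.r (1 : ZMod n))⁻¹ * DihedralGroup.r b ∈ T := by
      intro b
      rcases Nat.even_or_odd' b.val with ⟨c, hc | hc⟩
      · left
        have := hev c
        rwa [← hc, ZMod.natCast_zmod_val] at this
      · right
        have := hev c
        rw [DihedralGroup.inv_r, DihedralGroup.r_mul_r]
        convert this using 2
        rw [← ZMod.natCast_zmod_val b, hc]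
        push_cast
        ring
    rintro (b | b)
    · exact hr b
    · have e : DihedralGroup.sr b = DihedralGroup.r (i - b) * DihedralGroup.sr i := by simp
      rcases hr (i - b) with h | h
      · left; rw [e]; exact T.mul_mem h hi
      · right; rw [e, ← mul_assoc]; exact T.mul_mem h hi
  let f : Fin 2 → DihedralGroup n ⧸ T := ![(1 : DihedralGroup n), DihedralGroup.r (1 : ZMod n)]
  have hf : Function.Surjective f := by
    intro x
    obtain ⟨d, rfl⟩ := QuotientGroup.mk_surjective x
    rcases hcov d with h | h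
    · exact ⟨0, QuotientGroup.eq.mpr (by simpa using h)⟩
    · exact ⟨1, QuotientGroup.eq.mpr (by simpa using h)⟩
  have := Nat.card_le_card_of_surjective f hf
  rw [← index_eq_card] at this
  simpa using this

/-- With self-centralising four groups a normal known simple subgroup has index at most 2. -/
theorem index_simple_le_two (hd : SubDihedral X) (hV : SelfFour X) (E : Subgroup X) [E.Normal]
    [hE : IsSimpleGroup E] (hna : ¬ IsMulCommutative E) (heven : 2 ∣ Nat.card E) :
    E.index ≤ 2 := by
  classical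
  haveI : Fact (Nat.Prime 2) := ⟨Nat.prime_two⟩
  have hnoc : ¬ Cfsg.HasNormalPComplement 2 E := by
    rintro ⟨P, N, hN, hc⟩
    rcases hE.eq_bot_or_eq_top_of_normal N hN with h | h
    · subst h
      rw [isComplement'_bot_left] at hc
      have hp : IsPGroup 2 E := PCore.isPGroup_top_iff.mp (hc ▸ P.2)
      haveI := hp.isNilpotent
      rcases hE.eq_bot_or_eq_top_of_normal (center E) inferInstance with h | h
      · exact absurd h hp.bot_lt_center.ne'
      · exact hna ⟨⟨fun a b => (mem_center_iff.mp (h ▸ mem_top b) a)⟩⟩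
    · subst h
      rw [isComplement'_top_left] at hc
      have h2 : ¬ 2 ∣ Nat.card E := by
        have := P.not_dvd_index
        rwa [hc, index_bot] at this
      exact h2 heven
  obtain ⟨T⟩ := (inferInstance : Nonempty (Sylow 2 E))
  obtain ⟨m, hm, ⟨eT⟩⟩ : ∃ m, 2 ≤ m ∧ Nonempty ((T : Subgroup E) ≃* DihedralGroup m) :=
    ((hd.subgroup E) T).resolve_left fun h => hnoc (hasNormalPComplement_of_cyclic_two T h)
  haveI : NeZero m := ⟨by omega⟩
  set T' := (T : Subgroup E).map E.subtype with hT'
  set M := normalizer (T' : Set X) with hM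
  -- odd elements of `N(T)` lie in `E`
  have hodd : ∀ g ∈ M, Odd (orderOf g) → g ∈ E := by
    intro g hg hgo
    obtain ⟨φ, hφ⟩ := DihedralSylow.exists_embeds eT
    obtain ⟨K, hK⟩ := DihedralSylow.exists_two_pow eT
    rcases Nat.lt_or_ge m 3 with hm3 | hm3
    · obtain rfl : m = 2 := by omega
      -- `T` is a four group
      haveI : IsKleinFour (T : Subgroup E) :=
        ⟨by rw [Nat.card_congr eT.toEquiv, DihedralGroup.nat_card],
          by rw [Monoid.exponent_eq_of_mulEquiv eT]; exact IsKleinFour.exponent_two (G := DihedralGroup 2)⟩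
      haveI : IsKleinFour T' := isKleinFour_map E.subtype E.subtype_injective (T : Subgroup E)
      have h24 := DihedralCentTools.card_normalizer_dvd (E := T') IsKleinFour.card_four
        (hV T' inferInstance)
      -- `N_E(T)` has an element of order 3
      obtain ⟨c, hcT, hc3⟩ : ∃ c : E, c ∈ normalizer ((T : Subgroup E) : Set E) ∧ orderOf c = 3 := by
        haveI : Fact (Nat.Prime 3) := ⟨Nat.prime_three⟩
        set NE := normalizer ((T : Subgroup E) : Set E) with hNE
        have h3 : 3 ∣ Nat.card NE := by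
          by_contra h3
          apply hnoc
          refine ⟨T, _, inferInstance, MonoidHom.ker_transferSylow_isComplement' T fun x hx => ?_⟩
          have h24' : Nat.card NE ∣ 2 ^ 3 * 3 := by
            refine dvd_trans ?_ (by simpa using h24)
            rw [← card_map_of_injective (K := NE) E.subtype_injective]
            exact card_dvd_of_le (le_normalizer_map E.subtype)
          have h8 : Nat.card NE ∣ 2 ^ 3 :=
            Nat.Coprime.dvd_of_dvd_mul_right ((Nat.prime_three.coprime_iff_not_dvd.mpr h3).symm) h24'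
          obtain ⟨j, -, hj⟩ := (Nat.dvd_prime_pow Nat.prime_two).mp h8
          have hxT : x ∈ (T : Subgroup E) := by
            have := T.3 (IsPGroup.of_card hj) le_normalizer
            have hx' : x ∈ NE := hx
            rwa [this] at hx'
          exact mem_centralizer_iff.mpr fun s hs => congrArg Subtype.val
            ((IsKleinFour.isMulCommutative (G := (T : Subgroup E))).is_comm.comm ⟨s, hs⟩ ⟨x, hxT⟩)
        obtain ⟨c, hc⟩ := exists_prime_orderOf_dvd_card' (G := NE) 3 h3
        exact ⟨c, c.2, by rw [orderOf_coe]; exact hc⟩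
      -- all elements of order 3 of `N(T)` lie in `E`
      rw [← hM] at h24
      have hgd : orderOf g ∣ 3 := by
        have h1 : orderOf g ∣ 2 ^ 3 * 3 :=
          ((orderOf_mk g hg) ▸ orderOf_dvd_natCard (⟨g, hg⟩ : M)).trans (by simpa using h24)
        exact Nat.Coprime.dvd_of_dvd_mul_left ((Nat.coprime_two_right.mpr hgo).pow_right 3) h1
      rcases (Nat.dvd_prime Nat.prime_three).mp hgd with h1 | h1
      · rw [orderOf_eq_one_iff.mp h1]; exact one_mem _
      haveI : Fact (Nat.Prime 3) := ⟨Nat.prime_three⟩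
      have hcM : (c : X) ∈ M := le_normalizer_map E.subtype ⟨c, hcT, rfl⟩
      obtain ⟨R, hR⟩ := (IsPGroup.of_card (p := 3) (n := 1) (G := zpowers (⟨g, hg⟩ : M))
        (by rw [Nat.card_zpowers, orderOf_mk, h1, pow_one])).exists_le_sylow
      obtain ⟨R', hR'⟩ := (IsPGroup.of_card (p := 3) (n := 1) (G := zpowers (⟨c, hcM⟩ : M))
        (by rw [Nat.card_zpowers, orderOf_mk, orderOf_coe, hc3, pow_one])).exists_le_sylow
      have hR'eq : zpowers (⟨c, hcM⟩ : M) = (R' : Subgroup M) := by
        refine eq_of_le_of_card_ge hR' ?_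
        rw [Nat.card_zpowers, orderOf_mk, orderOf_coe, hc3]
        obtain ⟨j, hj⟩ := IsPGroup.iff_card.mp R'.2
        have : (3 : ℕ) ^ j ∣ 24 := hj ▸ (card_subgroup_dvd_card _).trans h24
        rw [hj]
        rcases j with _ | _ | j
        · simp
        · simp
        · exact absurd ((pow_dvd_pow 3 (by omega : 2 ≤ j + 1 + 1)).trans this) (by norm_num)
      obtain ⟨x, hx⟩ := MulAction.exists_smul_eq M R' R
      have hgR : (⟨g, hg⟩ : M) ∈ (R : Subgroup M) := hR (mem_zpowers _)
      rw [← hx, Sylow.coe_subgroup_smul, ← hR'eq] at hgR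
      obtain ⟨z, hz, hzg⟩ := hgR
      obtain ⟨l, rfl⟩ := mem_zpowers_iff.mp hz
      have : (x : X) * (c : X) ^ l * (x : X)⁻¹ = g := congrArg Subtype.val hzg
      rw [← this]
      exact ‹E.Normal›.conj_mem _ (zpow_mem c.2 l) _
    · -- `T` is dihedral of order at least 8
      have h2m : 2 ∣ m := by
        rcases K with _ | K
        · rw [pow_zero] at hK; omega
        · exact ⟨2 ^ K, by rw [hK, pow_succ']⟩
      have hK2 : 2 ≤ K := by
        rcases K with _ | _ | K
        · rw [pow_zero] at hK; omega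
        · rw [pow_one] at hK; omega
        · omega
      let ψ : DihedralGroup m →* X := E.subtype.comp φ
      have hψ : Function.Injective ψ := E.subtype_injective.comp hφ.inj
      have hgen : Fusion.Dihedral.DihedralGen T' (ψ (.r 1)) (ψ (.sr 0)) K := by
        refine ⟨hK2, ?_, ?_, ?_, ?_⟩
        · rw [orderOf_injective ψ hψ, DihedralGroup.orderOf_r_one, hK]
        · rw [← map_mul, DihedralGroup.sr_mul_self, map_one]
        · rw [← map_inv, ← map_mul, ← map_mul, ← map_inv]; simp
        · rw [hT', ← hφ.range, MonoidHom.range_eq_map, Subgroup.map_map, ← MonoidHom.map_zpowers,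
            ← MonoidHom.map_zpowers, ← Subgroup.map_sup]
          congr 1
          refine ((eq_top_iff' _).mpr fun d => ?_).symm
          have hr : ∀ b : ZMod m, DihedralGroup.r b ∈ zpowers (DihedralGroup.r (1 : ZMod m)) :=
            fun b => ⟨(b.val : ℤ), by
              show DihedralGroup.r (1 : ZMod m) ^ ((b.val : ℕ) : ℤ) = _
              rw [DihedralGroup.r_one_zpow, Int.cast_natCast, ZMod.natCast_zmod_val]⟩
          rcases d with b | b
          · exact mem_sup_left (hr b)
          · have e : DihedralGroup.sr b = DihedralGroup.sr 0 * DihedralGroup.r b := by simp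
            rw [e]
            exact mul_mem (mem_sup_right (mem_zpowers _)) (mem_sup_left (hr b))
      have hc : g ∈ centralizer (T' : Set X) := mem_centralizer_iff.mpr fun s hs => by
        have := hgen.centralizes_of_odd (g := g)
          (fun y hy => (mem_normalizer_iff.mp hg y).mp hy) hgo
          (fun y _ => by rw [pow_orderOf_eq_one]; group) s hs
        exact (mul_inv_eq_iff_eq_mul.mp this).symm
      have hV4 := hφ.isKleinFour_map h2m 0
      haveI := hV4
      haveI hV' := isKleinFour_map E.subtype E.subtype_injective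
        ((DihedralSylow.four h2m 0).map φ : Subgroup E)
      refine map_subtype_le _ (hV _ hV' (centralizer_le ?_ hc))
      rintro _ ⟨v, ⟨d, _, rfl⟩, rfl⟩
      exact ⟨φ d, hφ.mem d, rfl⟩
  -- `X / E` is a 2-group
  have hsup : M ⊔ E = ⊤ := Sylow.normalizer_sup_eq_top T
  set π := QuotientGroup.mk' E with hπ
  have hq2 : IsPGroup 2 (X ⧸ E) := by
    intro x
    obtain ⟨g, rfl⟩ := QuotientGroup.mk'_surjective E x
    obtain ⟨a, ha, b, hb, rfl⟩ : ∃ a ∈ M, ∃ b ∈ E, a * b = g := by
      have : g ∈ ((M ⊔ E : Subgroup X) : Set X) := by rw [hsup]; trivial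
      rw [coe_mul_of_left_le_normalizer_right] at this
      · exact this
      · rw [normalizer_eq_top (H := E)]; exact le_top
    obtain ⟨j, l, hl, hjl⟩ := Nat.exists_eq_pow_mul_and_not_dvd (orderOf_pos a).ne' 2 (by norm_num)
    refine ⟨j, ?_⟩
    have hmem : a ^ 2 ^ j ∈ E := by
      refine hodd _ (pow_mem ha _) ?_
      rw [orderOf_pow' _ (pow_ne_zero _ two_ne_zero), hjl, Nat.gcd_mul_right_left,
        Nat.mul_div_cancel_left _ (by positivity)]
      exact Nat.not_even_iff_odd.mp fun he => hl (even_iff_two_dvd.mp he)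
    rw [map_mul, show QuotientGroup.mk' E b = 1 from (QuotientGroup.eq_one_iff b).mpr hb, mul_one,
      ← map_pow]
    exact (QuotientGroup.eq_one_iff _).mpr hmem
  -- so a Sylow 2-subgroup covers it
  obtain ⟨S, hS⟩ := (T.2.map E.subtype).exists_le_sylow
  have hSE : (S : Subgroup X) ⊔ E = ⊤ := by
    have hmap : (S : Subgroup X).map π = ⊤ := by
      have h1 := (S.mapSurjective (QuotientGroup.mk'_surjective E)).3
        (PCore.isPGroup_top_iff.mpr hq2) le_top
      rw [Sylow.coe_mapSurjective] at h1
      exact h1.symm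
    rw [← QuotientGroup.ker_mk' E, ← comap_map_eq, ← hπ, hmap, comap_top]
  obtain ⟨n, hn, ⟨eS⟩⟩ : ∃ n, 2 ≤ n ∧ Nonempty ((S : Subgroup X) ≃* DihedralGroup n) := by
    refine (hd S).resolve_left fun hc => ?_
    haveI := hc
    haveI : IsCyclic (T : Subgroup E) :=
      isCyclic_of_injective ((inclusion hS).comp
        ((T : Subgroup E).equivMapOfInjective E.subtype E.subtype_injective).toMonoidHom)
        ((inclusion_injective hS).comp (MulEquiv.injective _))
    exact hnoc (hasNormalPComplement_of_cyclic_two T inferInstance)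
  haveI : NeZero n := ⟨by omega⟩
  set U := (E.subgroupOf (S : Subgroup X)).map eS.toMonoidHom with hU
  haveI : U.Normal := (inferInstance : (E.subgroupOf (S : Subgroup X)).Normal).map _ eS.surjective
  have hUc : ¬ IsCyclic U := by
    intro hc
    haveI : IsCyclic (E.subgroupOf (S : Subgroup X)) :=
      ((E.subgroupOf (S : Subgroup X)).equivMapOfInjective eS.toMonoidHom eS.injective).isCyclic.mpr hc
    let j : (T : Subgroup E) →* E.subgroupOf (S : Subgroup X) :=
      (((E.subtype).comp (T : Subgroup E).subtype).codRestrict (S : Subgroup X)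
        fun t => hS ⟨t, t.2, rfl⟩).codRestrict _ fun t => (t : E).2
    have hj : Function.Injective j := fun a b h =>
      Subtype.ext (E.subtype_injective (congrArg (fun z : E.subgroupOf (S : Subgroup X) => ((z : (S : Subgroup X)) : X)) h))
    haveI := isCyclic_of_injective j hj
    exact hnoc (hasNormalPComplement_of_cyclic_two T inferInstance)
  have hidx := relIndex_le_two_of_dihedral U hUc
  rw [hU, show eS.toMonoidHom = (eS : (S : Subgroup X) →* DihedralGroup n) from rfl,
    index_map_equiv] at hidx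
  calc E.index = E.relIndex ((S : Subgroup X) ⊔ E) := by rw [hSE, relIndex_top_right]
    _ = E.relIndex (S : Subgroup X) := relIndex_sup_right _ _
    _ ≤ 2 := hidx

/-- Subgroups of odd order lie in a normal subgroup of index at most 2. -/
theorem odd_le_of_index_le_two {E Y : Subgroup X} [E.Normal] (hE : E.index ≤ 2)
    (hY : Odd (Nat.card Y)) : Y ≤ E := by
  intro y hy
  rw [← QuotientGroup.eq_one_iff, ← orderOf_eq_one_iff]
  have h1 : orderOf (y : X ⧸ E) ∣ Nat.card Y :=
    (orderOf_map_dvd (QuotientGroup.mk' E) y).trans (Subgroup.orderOf_dvd_natCard Y hy)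
  have h2 : orderOf (y : X ⧸ E) ≤ 2 := (Nat.le_of_dvd Nat.card_pos (_root_.orderOf_dvd_natCard _)).trans hE
  have h3 : Odd (orderOf (y : X ⧸ E)) := hY.of_dvd_nat h1
  obtain ⟨k, hk⟩ := h3
  omega

/-- The structure of a group with self-centralising four groups and trivial odd core. -/
theorem structure_selfFour (hd : SubDihedral X) (hk : KnownSections X) (hV : SelfFour X)
    (hO : Cfsg.oddCore X = ⊥) :
    IsPGroup 2 X ∨ Nonempty (X ≃* alternatingGroup (Fin 4)) ∨
      Nonempty (X ≃* Equiv.Perm (Fin 4)) ∨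
      ∃ E : Subgroup X, E.Normal ∧ IsSimpleGroup E ∧ IsKnown E ∧
        centralizer (E : Set X) = ⊥ ∧ E.index ≤ 2 := by
  rcases structure_of_oddCore_eq_bot hd hk hO with h | h | h | ⟨E, hEn, hEs, hEk, hC⟩
  · exact Or.inl h
  · exact Or.inr (Or.inl h)
  · exact Or.inr (Or.inr (Or.inl h))
  refine Or.inr (Or.inr (Or.inr ⟨E, hEn, hEs, hEk, hC, ?_⟩))
  haveI := hEn
  haveI := hEs
  refine index_simple_le_two hd hV E (fun hc => ?_) hEk.even_card
  have hle : E ≤ centralizer (E : Set X) := fun x hx => mem_centralizer_iff.mpr fun y hy =>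
    congrArg Subtype.val (hc.is_comm.comm (⟨y, hy⟩ : E) ⟨x, hx⟩)
  rw [hC, le_bot_iff] at hle
  exact not_subsingleton E (by rw [hle]; infer_instance)

/-- **Signalizers modulo the odd core**: if the image of the `p`-subgroup `P` (`p` odd) modulo
`O(X)` is not cyclic, every odd subgroup of order prime to `p` normalised by `P` lies in `O(X)`. -/
theorem signalizer_le_oddCore (hd : SubDihedral X) (hk : KnownSections X) (hV : SelfFour X)
    {p : ℕ} [hp : Fact p.Prime] (hp2 : p ≠ 2) {P Y : Subgroup X} (hP : IsPGroup p P)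
    (hPc : ¬ IsCyclic (P.map (QuotientGroup.mk' (Cfsg.oddCore X))))
    (hY : Odd (Nat.card Y)) (hYp : ¬ p ∣ Nat.card Y) (hn : P ≤ normalizer (Y : Set X)) :
    Y ≤ Cfsg.oddCore X := by
  set O := Cfsg.oddCore X with hO
  set π := QuotientGroup.mk' O with hπ
  set P' := P.map π with hP'
  set Y' := Y.map π with hY'
  have hP2 : IsPGroup p P' := hP.map π
  have hY2 : Odd (Nat.card Y') := hY.of_dvd_nat (card_map_dvd _ _)
  have hYp' : ¬ p ∣ Nat.card Y' := fun h => hYp (h.trans (card_map_dvd _ _))
  have hn' : P' ≤ normalizer (Y' : Set (X ⧸ O)) :=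
    (map_mono hn).trans (le_normalizer_map π)
  have hoddP : Odd (Nat.card P') := by
    obtain ⟨k, hk⟩ := IsPGroup.iff_card.mp hP2
    rw [hk]
    exact (hp.out.odd_of_ne_two hp2).pow
  suffices hbot : Y' = ⊥ by
    rw [hY', Subgroup.map_eq_bot_iff, hπ, QuotientGroup.ker_mk'] at hbot
    exact hbot
  have hsmall : ∀ (Z : Type) [Group Z] [Finite Z], Nat.card Z ∣ 24 → (X ⧸ O ≃* Z) → False := by
    intro Z _ _ h24 e
    apply hPc
    have h3 : Nat.card P' ∣ 3 := by
      refine Nat.Coprime.dvd_of_dvd_mul_left ((Nat.coprime_two_right.mpr hoddP).pow_right 3) ?_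
      have := (card_subgroup_dvd_card P').trans (Nat.card_congr e.toEquiv ▸ h24)
      simpa using this
    rcases (Nat.dvd_prime Nat.prime_three).mp h3 with h | h
    · haveI : Subsingleton P' := (Nat.card_eq_one_iff_unique.mp h).1
      infer_instance
    · haveI := Fact.mk Nat.prime_three
      exact isCyclic_of_prime_card (p := 3) h
  rcases structure_selfFour hd.quotient_oddCore (hk.of_surjective _ (QuotientGroup.mk'_surjective _))
      (hV.quotient O PCore.odd_card_oddCore) PCore.pPrimeCore_quotient_self_eq_bot with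
    h2 | ⟨⟨e⟩⟩ | ⟨⟨e⟩⟩ | ⟨E, hEn, hEs, hEk, hC, hidx⟩
  · refine eq_bot_of_card_eq _ ?_
    haveI : Fact (Nat.Prime 2) := ⟨Nat.prime_two⟩
    obtain ⟨j, hj⟩ := IsPGroup.iff_card.mp (h2.to_subgroup Y')
    rw [hj] at hY2 ⊢
    rcases j with _ | j
    · rfl
    · exact absurd hY2 (Nat.not_odd_iff_even.mpr ⟨2 ^ j, by ring⟩)
  · exact (hsmall _ (by rw [nat_card_alternatingGroup]; simp [Nat.factorial]) e).elim
  · exact (hsmall _ (by rw [Nat.card_perm]; simp [Nat.factorial]) e).elim
  · haveI := hEn
    have hPE : P' ≤ E := odd_le_of_index_le_two hidx hoddP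
    have hYE : Y' ≤ E := odd_le_of_index_le_two hidx hY2
    have h := hEk.signalizer_eq_bot hp2 (P := P'.subgroupOf E) (Y := Y'.subgroupOf E)
      (hP2.of_equiv (subgroupOfEquivOfLe hPE).symm)
      (fun h => hPc ((subgroupOfEquivOfLe hPE).isCyclic.mp h))
      (by rwa [Nat.card_congr (subgroupOfEquivOfLe hYE).toEquiv])
      (by rwa [Nat.card_congr (subgroupOfEquivOfLe hYE).toEquiv])
      (by
        intro x hx
        rw [mem_normalizer_iff]
        intro y
        exact mem_normalizer_iff.mp (hn' hx) (y : X ⧸ O))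
    rwa [subgroupOf_eq_bot, disjoint_iff, inf_eq_left.mpr hYE] at h

end Cfsg.Agent.GW
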