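import Cfsg.Agent.Lib.GW.NoFixedPairs

/-!
# The dichotomy for the normaliser of a weakly closed p-subgroup

For `p` dividing `|oCore t|`: either `|G|_p` divides `|oCore t|`, or some weakly closed `A` of rank at
least three has a normaliser with one class of involutions, each with proper fixed points on `A`.
-/

set_option autoImplicit false
set_option linter.style.haveILetI false
set_option linter.unusedSectionVars false

namespace Cfsg.Agent.GW

open Subgroup
open BSW (sq_of_order inv_of_order ne_one_of_order order_of_sq mem_cent)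
open scoped Pointwise

universe u

variable {G : Type u} [Group G] [Finite G] {S : Sylow 2 G} {t : G} {p : ℕ}

/-- The configuration to be refuted. -/
structure Full (p : ℕ) (P : Sylow p G) (A : Subgroup G) (T : Sylow 2 G) (c : G) : Prop where
  wc : Wc p A
  leP : A ≤ (P : Subgroup G)
  Ple : (P : Subgroup G) ≤ normalizer (A : Set G)
  rank : p ^ 3 ≤ Nat.card A
  hyp : Hyp T c
  Tle : (T : Subgroup G) ≤ normalizer (A : Set G)
  oneClass : ∀ i ∈ normalizer (A : Set G), orderOf i = 2 → ∃ n ∈ normalizer (A : Set G), n * i * n⁻¹ = c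
  fixes : ∃ e ∈ A, e ≠ 1 ∧ Commute e c
  moves : ∃ e ∈ A, ¬ Commute e c

/-- In a dihedral Sylow subgroup of order at least eight two reflections of a four group are conjugate. -/
theorem exists_swap {a b : G} {T : Sylow 2 G} (hT : Hyp T a) (h : Pair a b) (hVT : h.four ≤ (T : Subgroup G)) :
    (∃ s ∈ (T : Subgroup G), s * b * s⁻¹ = a * b) ∨ (T : Subgroup G) = h.four := by
  obtain ⟨g⟩ := hT.exists_gens
  obtain ⟨j, hj | hj⟩ := g.hform b (hVT h.right_mem)
  · exact absurd (eq_of_invol_zpowers (hj ▸ zpow_mem (mem_zpowers _) j) g.htσ h.hb h.ha) h.ne.symm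
  rcases Nat.eq_zero_or_pos g.k with hk | hk
  · refine Or.inr (le_antisymm (fun x hx => ?_) hVT)
    have hσa : g.σ = a :=
      eq_of_invol_zpowers (mem_zpowers _) g.htσ (by rw [g.hord, g.hn, hk]; rfl) h.ha
    have hσ : g.σ ∈ h.four := hσa.symm ▸ h.left_mem
    have hτ : g.τ ∈ h.four := by
      rw [show g.τ = (g.σ ^ j)⁻¹ * b by rw [hj]; group]
      exact mul_mem (inv_mem (zpow_mem hσ j)) h.right_mem
    obtain ⟨i, hi | hi⟩ := g.hform x hx <;> rw [hi]
    exacts [zpow_mem hσ i, mul_mem (zpow_mem hσ i) hτ]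
  · refine Or.inl ⟨g.σ ^ (2 ^ (g.k - 1)), pow_mem g.hσ _, ?_⟩
    obtain ⟨m, hm⟩ : ∃ m, m = g.σ ^ (2 ^ (g.k - 1)) := ⟨_, rfl⟩
    have hs2 : m * m = a := by
      rw [hm, ← pow_add, ← mul_two, ← pow_succ, Nat.sub_add_cancel hk]
      refine eq_of_invol_zpowers (pow_mem (mem_zpowers _) _) g.htσ ?_ h.ha
      rw [orderOf_pow_of_dvd (by positivity) (by rw [g.hord, g.hn]; exact pow_dvd_pow 2 (Nat.le_succ _)),
        g.hord, g.hn, pow_succ, Nat.mul_div_cancel_left _ (by positivity)]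
    have hmj : Commute m (g.σ ^ j) := hm ▸ ((Commute.refl g.σ).pow_left _).zpow_right j
    have hi : g.τ * m * g.τ⁻¹ = m⁻¹ := by rw [hm, ← conj_pow, g.hrel, inv_pow]
    have e : g.τ * m⁻¹ = m * g.τ := mul_inv_eq_iff_eq_mul.1 (by rw [← conj_inv, hi, inv_inv])
    rw [← hm]
    calc m * b * m⁻¹ = m * g.σ ^ j * (g.τ * m⁻¹) := by rw [hj]; group
      _ = m * (g.σ ^ j * m) * g.τ := by rw [e]; group
      _ = m * m * (g.σ ^ j * g.τ) := by rw [← hmj.eq]; group
      _ = a * b := by rw [hs2, hj]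

/-- An involution acting without fixed points on a subgroup of odd order inverts it. -/
theorem inverts_of_fixfree {Q : Subgroup G} {a : G} (ha : orderOf a = 2) (haQ : a ∈ normalizer (Q : Set G))
    (hfix : ∀ y ∈ Q, Commute y a → y = 1) {y : G} (hy : y ∈ Q) : a * y * a⁻¹ = y⁻¹ := by
  let φ : Q →* Q :=
    { toFun := fun x => ⟨a * x * a⁻¹, (mem_normalizer_iff.1 haQ x).1 x.2⟩
      map_one' := Subtype.ext (by simp)
      map_mul' := fun x x' => Subtype.ext (by simp [mul_assoc]) }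
  have hinv : Function.Involutive φ := fun x => Subtype.ext (by
    show a * (a * (x : G) * a⁻¹) * a⁻¹ = x
    rw [show a * (a * (x : G) * a⁻¹) * a⁻¹ = a * a * x * (a * a)⁻¹ by group, sq_of_order ha]
    simp)
  have hfpf : MonoidHom.FixedPointFree φ := fun x hx => Subtype.ext <|
    hfix x x.2 (mul_inv_eq_iff_eq_mul.1 (congrArg Subtype.val hx)).symm
  exact congrArg Subtype.val (congrFun (hfpf.coe_eq_inv_of_involutive hinv) ⟨y, hy⟩)

theorem card_dvd_sylow [Fact p.Prime] {W Q : Subgroup G} (R : Sylow p W) (hQ : IsPGroup p Q) (hQW : Q ≤ W) :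
    Nat.card Q ∣ Nat.card (R : Subgroup W) := by
  obtain ⟨R', hR'⟩ := (hQ.comap_subtype : IsPGroup p (Q.subgroupOf W)).exists_le_sylow
  have := card_dvd_of_le (show Q.subgroupOf W ≤ (R' : Subgroup W) from hR')
  rwa [Nat.card_congr (subgroupOfEquivOfLe hQW).toEquiv, R'.card_eq_multiplicity,
    ← R.card_eq_multiplicity] at this

namespace Wc

variable [Fact p.Prime] {A : Subgroup G}

/-- The case of a single component. -/
theorem card_dvd_of_single (w : Wc p A) (hyp : Hyp S t) (nf : NoFixed G) (hp : p ≠ 2) (P : Sylow p G)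
    (hPN : (P : Subgroup G) ≤ normalizer (A : Set G)) {c d : G} (h : Pair c d)
    (hcN : c ∈ normalizer (A : Set G)) (hdN : d ∈ normalizer (A : Set G))
    (hcA : ∃ e ∈ A, e ≠ 1 ∧ Commute e c) (hdA : ∀ e ∈ A, Commute d e → e = 1)
    (hbA : ∀ e ∈ A, Commute (c * d) e → e = 1) {Q : Subgroup G} (hQ : IsPGroup p Q) :
    Nat.card Q ∣ Nat.card (oCore t) := by
  have hbN : c * d ∈ normalizer (A : Set G) := mul_mem hcN hdN
  have hcent : ∀ {Y : Subgroup G}, (∀ y ∈ Y, d * y * d⁻¹ = y⁻¹) →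
      (∀ y ∈ Y, c * d * y * (c * d)⁻¹ = y⁻¹) → ∀ y ∈ Y, Commute c y := fun {Y} h1 h2 y hy => by
    refine mul_inv_eq_iff_eq_mul.1 ?_
    have := h2 y⁻¹ (inv_mem hy)
    rw [inv_inv, ← h1 y hy] at this
    nth_rw 2 [← this]
    rw [mul_inv_rev]
    rw [show c * d * (d * y * d⁻¹) * (d⁻¹ * c⁻¹) = c * (d * d) * y * (d * d)⁻¹ * c⁻¹ by group,
      sq_of_order h.hb]
    simp
  have hcentA : ∀ e ∈ A, Commute c e := hcent (fun e he => w.inverts hp h.hb hdN hdA he)
    (fun e he => w.inverts hp h.order_mul hbN hbA he)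
  obtain ⟨e₀, he₀, he₀1, he₀c⟩ := hcA
  have hnot : ∀ v, (∀ e ∈ A, Commute v e → e = 1) → ∀ n ∈ normalizer (A : Set G), n * v * n⁻¹ ≠ c := by
    intro v hv n hn hne
    have h1 : n⁻¹ * e₀ * n ∈ A := (mem_normalizer_iff''.1 hn e₀).1 he₀
    refine he₀1 ?_
    have h2 := hv _ h1 (by
      have := hcentA e₀ he₀
      rw [← hne] at this
      calc v * (n⁻¹ * e₀ * n) = n⁻¹ * (n * v * n⁻¹ * e₀) * n := by group
        _ = n⁻¹ * e₀ * n * v := by rw [this.eq]; group)
    simpa using conj_eq_one_iff.1 (show n⁻¹ * e₀ * n⁻¹⁻¹ = 1 by rwa [inv_inv])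
  obtain ⟨-, hR⟩ := w.sylow_le hyp nf hp h hcN hdN he₀ he₀1 he₀c
  set L := centralizer (A : Set G)
  set W := core L
  obtain ⟨hodd_mem, hconj⟩ := hyp.core_spec (L := L) fun a b ha hb =>
    hyp.no_pair_cent nf he₀1 (w.odd hp he₀) a b (mem_cent.2 (mem_centralizer_iff.1 ha e₀ he₀).symm)
      (mem_cent.2 (mem_centralizer_iff.1 hb e₀ he₀).symm)
  have hNW : normalizer (A : Set G) ≤ normalizer (W : Set G) :=
    (Coprime.le_normalizer_centralizer le_rfl).trans
      (Components.normalizer_le_normalizer_map_of_characteristic L (Cfsg.oddCore L))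
  have hLN : L ≤ normalizer (A : Set G) := fun g hg => mem_normalizer_iff.2 fun a => by
    constructor
    · intro ha; rwa [← mem_centralizer_iff.1 hg a ha, mul_inv_cancel_right]
    · intro ha
      have := mem_centralizer_iff.1 hg _ ha
      rw [show g * a * g⁻¹ * g = g * a by group] at this
      exact mul_left_cancel this ▸ ha
  have hPW : (P : Subgroup G) ≤ W := by
    intro e heP
    have he := hPN heP
    obtain ⟨l, hl⟩ := pow_prime_of_pGroup P.2 heP
    have hcL : c ∈ L := mem_centralizer_iff.2 fun a ha => (hcentA a ha).eq.symm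
    have hecL : e * c * e⁻¹ ∈ L := by
      refine mem_centralizer_iff.2 fun a ha => ?_
      have := hcentA _ ((mem_normalizer_iff''.1 he a).1 ha)
      calc a * (e * c * e⁻¹) = e * (e⁻¹ * a * e * c) * e⁻¹ := by group
        _ = e * (c * (e⁻¹ * a * e)) * e⁻¹ := by rw [this.eq]
        _ = e * c * e⁻¹ * a := by group
    obtain ⟨m, hm, hmc⟩ := hconj c (e * c * e⁻¹) hcL hecL h.ha
      ((MulEquiv.orderOf_eq (MulAut.conj e) c).trans h.ha)
    set d₀ := m⁻¹ * e with hd₀
    have hd₀c : d₀ ∈ Cent c := mem_cent.2 (by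
      calc m⁻¹ * e * c = m⁻¹ * (e * c * e⁻¹) * e := by group
        _ = c * (m⁻¹ * e) := by rw [← hmc]; group)
    have hpow : ∀ n : ℕ, e ^ n * (d₀ ^ n)⁻¹ ∈ W := by
      intro n
      induction n with
      | zero => simp
      | succ n ih =>
        rw [show e ^ (n + 1) * (d₀ ^ (n + 1))⁻¹ = e ^ n * m * (e ^ n)⁻¹ * (e ^ n * (d₀ ^ n)⁻¹) by
          rw [pow_succ, pow_succ, hd₀]; group]
        exact mul_mem ((mem_normalizer_iff.1 (hNW (pow_mem he n)) m).1 hm) ih
    obtain ⟨i, k, hk, hik⟩ := Nat.exists_eq_two_pow_mul_odd (orderOf_pos d₀).ne'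
    have h2 : d₀ ^ (2 ^ i) ∈ oCore c := by
      refine (hyp.mem_oCore_iff h.ha).2 ⟨pow_mem hd₀c _, ?_⟩
      rwa [orderOf_pow_of_dvd (by positivity) (hik ▸ Dvd.intro _ rfl), hik, Nat.mul_div_cancel_left _ (by positivity)]
    have h3 : d₀ ^ (2 ^ i) ∈ W := hodd_mem _ (mem_centralizer_iff.2 fun a ha => (hyp.oCore_comm nf h.ha
      ((hyp.mem_oCore_iff h.ha).2 ⟨mem_cent.2 (hcentA a ha).symm.eq, w.odd hp ha⟩) h2).eq)
      (((hyp.mem_oCore_iff h.ha).1 h2).2)
    have h4 : e ^ (2 ^ i) ∈ W := by simpa using mul_mem (hpow (2 ^ i)) h3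
    obtain ⟨j, hj⟩ := exists_pow_eq_self_of_coprime (x := e) (n := 2 ^ i)
      ((Nat.coprime_two_left.2 (odd_of_pow hp ⟨l, hl⟩)).pow_left i)
    exact hj ▸ pow_mem h4 j
  have hVW : h.four ≤ normalizer (W : Set G) := (h.four_le hcN hdN).trans hNW
  obtain ⟨R, -, hRV⟩ := Hyp.exists_invariant_ge (p := p) (odd_core L) h.isPGroup hVW (U := ⊥) bot_le
    IsPGroup.of_bot (fun g _ => mem_normalizer_iff.2 fun z => by simp)
  set R' := (R : Subgroup W).map W.subtype
  have hR'N : R' ≤ normalizer (A : Set G) := ((map_subtype_le _).trans (core_le L)).trans hLN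
  have hfree : ∀ v, orderOf v = 2 → v ∈ normalizer (A : Set G) → (∀ e ∈ A, Commute v e → e = 1) →
      ∀ y ∈ R', Commute y v → y = 1 := by
    intro v hv hvN hvA y hy hyv
    by_contra hy1
    obtain ⟨n, hn, hne⟩ := w.trick hyp nf hp hv hvN h.ha hcN hR (hR'N hy)
      (pow_prime_of_pGroup (R.2.map _) hy) hy1 hyv
    exact hnot v hvA n hn hne
  have hR'c : R' ≤ oCore c := fun y hy => by
    refine (hyp.mem_oCore_iff h.ha).2 ⟨mem_cent.2 ?_, (odd_core L).of_dvd_nat (orderOf_dvd_natCard _ (map_subtype_le _ hy))⟩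
    exact (hcent (fun z hz => inverts_of_fixfree h.hb (hRV h.right_mem) (hfree d h.hb hdN hdA) hz)
      (fun z hz => inverts_of_fixfree h.order_mul (hRV (h.four.mul_mem h.left_mem h.right_mem))
        (hfree _ h.order_mul hbN hbA) hz) y hy).eq.symm
  obtain ⟨P', hP'⟩ := hQ.exists_le_sylow
  calc Nat.card Q ∣ Nat.card (P' : Subgroup G) := card_dvd_of_le hP'
    _ = Nat.card (P : Subgroup G) := by rw [P'.card_eq_multiplicity, P.card_eq_multiplicity]
    _ ∣ Nat.card (R : Subgroup W) := card_dvd_sylow R P.2 hPW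
    _ = Nat.card R' := (card_map_of_injective W.subtype_injective).symm
    _ ∣ Nat.card (oCore c) := card_dvd_of_le hR'c
    _ = Nat.card (oCore t) := hyp.card_oCore_eq h.ha hyp.orderT

/-- Two components give the configuration. -/
theorem full_of_two (w : Wc p A) (hyp : Hyp S t) (nf : NoFixed G) (hp : p ≠ 2) (P : Sylow p G)
    (hAP : A ≤ (P : Subgroup G)) (hPN : (P : Subgroup G) ≤ normalizer (A : Set G)) {c d : G} (h : Pair c d)
    (hcN : c ∈ normalizer (A : Set G)) (hdN : d ∈ normalizer (A : Set G))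
    {e₁ e₂ : G} (he₁ : e₁ ∈ A) (he₁1 : e₁ ≠ 1) (he₁c : Commute e₁ c)
    (he₂ : e₂ ∈ A) (he₂1 : e₂ ≠ 1) (he₂d : Commute e₂ d) :
    ∃ (T : Sylow 2 G), Full p P A T c := by
  haveI : Fact (Nat.Prime 2) := ⟨Nat.prime_two⟩
  obtain ⟨⟨T, hT, hVT, hTN⟩, hR⟩ := w.sylow_le hyp nf hp h hcN hdN he₁ he₁1 he₁c
  have move : ∀ {n v : G}, n ∈ normalizer (A : Set G) → ∀ {e}, e ∈ A → e ≠ 1 → Commute e v →
      ∃ f ∈ A, f ≠ 1 ∧ Commute f (n * v * n⁻¹) := fun {n v} hn {e} he he1 hev =>
    ⟨n * e * n⁻¹, (mem_normalizer_iff.1 hn e).1 he, fun h0 => he1 (conj_eq_one_iff.1 h0),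
      show _ = _ by rw [conj_mul, conj_mul, hev.eq]⟩
  obtain ⟨e₃, he₃, he₃1, he₃b⟩ : ∃ e ∈ A, e ≠ 1 ∧ Commute e (c * d) := by
    rcases exists_swap hT h hVT with ⟨s, hs, hsd⟩ | hT4
    · exact hsd ▸ move (hTN hs) he₂ he₂1 he₂d
    obtain ⟨n, hn, hnd⟩ := w.trick hyp nf hp h.hb hdN h.ha hcN hR (w.le_normalizer w.isPGroup le_rfl he₂)
      (pow_prime_of_pGroup w.isPGroup he₂) he₂1 he₂d
    -- Burnside: choose `n` normalising the four group
    set L := normalizer (A : Set G) ⊓ Cent c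
    have hT1 : (T : Subgroup G) ≤ L := le_inf hTN hT.sylow_le_cent
    have hT2 : ((n • T : Sylow 2 G) : Subgroup G) ≤ L := by
      intro x hx
      obtain ⟨y, hy, rfl⟩ : ∃ y ∈ (T : Subgroup G), n * y * n⁻¹ = x := hx
      refine mem_inf.2 ⟨mul_mem (mul_mem hn (hTN hy)) (inv_mem hn), mem_cent.2 ?_⟩
      rw [← hnd, conj_mul, conj_mul, (h.commute_of_mem_four (hT4 ▸ hy) h.right_mem).eq]
    obtain ⟨m, hm⟩ := MulAction.exists_smul_eq L ((n • T).subtype hT2) (T.subtype hT1)
    have hmn : ∀ y ∈ (T : Subgroup G), (m : G) * n * y * ((m : G) * n)⁻¹ ∈ (T : Subgroup G) := by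
      intro y hy
      have h1 : n * y * n⁻¹ ∈ ((n • T : Sylow 2 G) : Subgroup G) :=
        Subgroup.smul_mem_pointwise_smul y (MulAut.conj n) (T : Subgroup G) hy
      have h2 : m * ⟨_, hT2 h1⟩ * m⁻¹ ∈ ((T.subtype hT1 : Sylow 2 L) : Subgroup L) := by
        rw [← hm]
        exact Subgroup.smul_mem_pointwise_smul _ (MulAut.conj m)
          (((n • T).subtype hT2 : Sylow 2 L) : Subgroup L) h1
      rw [Sylow.coe_subtype, mem_subgroupOf] at h2
      rw [show (m : G) * n * y * ((m : G) * n)⁻¹ = m * (n * y * n⁻¹) * (m : G)⁻¹ by group]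
      exact h2
    set n' := (m : G) * n with hn'
    have hn'N : n' ∈ normalizer (A : Set G) := mul_mem (mem_inf.1 m.2).1 hn
    have hn'd : n' * d * n'⁻¹ = c := by
      rw [hn', show (m : G) * n * d * ((m : G) * n)⁻¹ = m * (n * d * n⁻¹) * (m : G)⁻¹ by group, hnd,
        mem_cent.1 (mem_inf.1 m.2).2, mul_inv_cancel_right]
    have hn'c : orderOf (n' * c * n'⁻¹) = 2 := (MulEquiv.orderOf_eq (MulAut.conj n') c).trans h.ha
    rcases h.mem_four.1 (hT4 ▸ hmn c (hVT h.left_mem)) with hc | hc | hc | hc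
    · exact absurd hc (ne_one_of_order hn'c)
    · exact absurd (mul_left_cancel (mul_right_cancel (hc.trans hn'd.symm))) h.ne
    · -- a transposition would be realised by a 2-element
      exfalso
      obtain ⟨i, k, hk, hik⟩ := Nat.exists_eq_two_pow_mul_odd (orderOf_pos n').ne'
      have hsw : ∀ j : ℕ, n' ^ j * d * (n' ^ j)⁻¹ = if Odd j then c else d := by
        intro j
        induction j with
        | zero => simp
        | succ j ih =>
          rw [show n' ^ (j + 1) * d * (n' ^ (j + 1))⁻¹ = n' * (n' ^ j * d * (n' ^ j)⁻¹) * n'⁻¹ by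
            rw [pow_succ']; group, ih]
          by_cases hj : Odd j
          · rw [if_pos hj, if_neg (by simpa [Nat.odd_add_one] using hj)]; exact hc
          · rw [if_neg hj, if_pos (Nat.odd_add_one.2 hj)]; exact hn'd
      have hqT : zpowers (n' ^ k) ≤ normalizer ((T : Subgroup G) : Set G) := zpowers_le.2 (pow_mem
        (mem_normalizer_iff_map_conj_eq.2 (Subgroup.eq_of_le_of_card_ge
          (by rintro _ ⟨y, hy, rfl⟩; exact hmn y hy)
          (card_map_of_injective (MulAut.conj n').injective).ge)) k)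
      have hq : IsPGroup 2 (zpowers (n' ^ k)) := IsPGroup.of_card (n := i) (by
        rw [Nat.card_zpowers, orderOf_pow_of_dvd (Nat.pos_iff_ne_zero.1 hk.pos) (hik ▸ Dvd.intro_left _ rfl),
          hik, Nat.mul_div_cancel _ hk.pos])
      have hqmem : n' ^ k ∈ (T : Subgroup G) :=
        (T.3 (hq.to_sup_of_normal_right' T.2 hqT) le_sup_right) ▸ mem_sup_left (mem_zpowers _)
      have := hsw k
      rw [if_pos hk, (h.commute_of_mem_four (hT4 ▸ hqmem) h.right_mem).eq, mul_inv_cancel_right] at this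
      exact h.ne this.symm
    · exact hc ▸ move hn'N he₁ he₁1 he₁c
  have hmoves : ¬ Commute e₂ c := fun hc => he₂1 (w.fixed_eq_one hyp nf hp h he₂ hc he₂d)
  refine ⟨T, ⟨w, hAP, hPN, ?_, hT, hTN, ?_, ⟨e₁, he₁, he₁1, he₁c⟩, e₂, he₂, hmoves⟩⟩
  · -- three components
    have hcomp : ∀ {v e : G}, e ∈ A → e ≠ 1 → Commute e v → p ≤ Nat.card (A ⊓ Cent v : Subgroup G) := by
      intro v e he he1 hev
      obtain ⟨k, hk⟩ := ((w.isPGroup).to_le (inf_le_left : A ⊓ Cent v ≤ A)).exists_card_eq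
      rcases Nat.eq_zero_or_pos k with rfl | hk0
      · exact absurd (Subgroup.mem_bot.1 ((Subgroup.card_eq_one.1 (by simpa using hk)).le
          (mem_inf.2 ⟨he, mem_cent.2 hev.eq⟩))) he1
      · exact hk ▸ Nat.le_self_pow hk0.ne' p
    letI : CommGroup A := { (inferInstance : Group A) with mul_comm := w.isMulCommutative.is_comm.comm }
    let U (v : G) := (A ⊓ Cent v : Subgroup G).subgroupOf A
    have hU : ∀ v, Nat.card (U v) = Nat.card (A ⊓ Cent v : Subgroup G) := fun v =>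
      Nat.card_congr (subgroupOfEquivOfLe inf_le_left).toEquiv
    have hinj : Function.Injective (fun z : U c × U d × U (c * d) => (z.1 : A) * z.2.1 * z.2.2) := by
      rintro ⟨x, y, z⟩ ⟨x', y', z'⟩ hz
      have h0 : ((x / x' : U c) : A) * (y / y' : U d) * (z / z' : U (c * d)) = 1 := by
        push_cast
        rw [div_mul_div_comm, div_mul_div_comm, div_eq_one]
        exact hz
      generalize hX : x / x' = X, hY : y / y' = Y, hZ : z / z' = Z at h0
      have hXc : Commute ((X : A) : G) c := mem_cent.1 (mem_inf.1 X.2).2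
      have hYd : Commute ((Y : A) : G) d := mem_cent.1 (mem_inf.1 Y.2).2
      have hZb : Commute ((Z : A) : G) (c * d) := mem_cent.1 (mem_inf.1 Z.2).2
      have inv : ∀ {v e : G}, Pair v c → e ∈ A → Commute e v → c * e * c⁻¹ = e⁻¹ := fun hv he hev =>
        hyp.inverts nf hv ((hyp.mem_oCore_iff hv.ha).2 ⟨mem_cent.2 hev.eq, w.odd hp he⟩)
      have hXYZ : ((X : A) : G) * (Y : A) * (Z : A) = 1 := congrArg Subtype.val h0
      have h1 : (X : A) * (Y : A)⁻¹ * (Z : A)⁻¹ = 1 := Subtype.ext (by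
        push_cast
        rw [← inv h.symm Y.1.2 hYd, ← inv h.right_left Z.1.2 hZb]
        calc ((X : A) : G) * (c * (Y : A) * c⁻¹) * (c * (Z : A) * c⁻¹)
            = ((X : A) : G) * c * ((Y : A) * (Z : A)) * c⁻¹ := by group
          _ = c * (((X : A) : G) * (Y : A) * (Z : A)) * c⁻¹ := by rw [hXc.eq]; group
          _ = 1 := by rw [hXYZ]; simp)
      have hX2 : (X : A) * (X : A) = 1 := by
        have e := congrArg₂ (· * ·) h0 h1
        simp only [mul_one] at e
        rw [← e]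
        simp [mul_comm, mul_left_comm, mul_assoc]
      have hX1 : (X : A) = 1 := Subtype.ext (orderOf_eq_one_iff.1 (Nat.eq_one_of_dvd_coprimes
        (Nat.coprime_two_right.2 (w.odd hp X.1.2)) dvd_rfl
        (orderOf_dvd_of_pow_eq_one (show ((X : A) : G) ^ 2 = 1 by
          rw [pow_two]; exact congrArg Subtype.val hX2))))
      have hYZ : (Y : A) = (Z : A)⁻¹ := eq_inv_of_mul_eq_one_left (by rwa [hX1, one_mul] at h0)
      have hY1 : (Y : A) = 1 := Subtype.ext (w.fixed_eq_one hyp nf hp h.right Y.1.2 hYd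
        (by rw [hYZ]; exact hZb.inv_left))
      have hZ1 : (Z : A) = 1 := by rw [← inv_inv (Z : A), ← hYZ, hY1, inv_one]
      simp only [Prod.mk.injEq]
      exact ⟨div_eq_one.1 (hX.trans (Subtype.ext hX1)), div_eq_one.1 (hY.trans (Subtype.ext hY1)),
        div_eq_one.1 (hZ.trans (Subtype.ext hZ1))⟩
    calc p ^ 3 = p * (p * p) := by ring
      _ ≤ Nat.card (U c) * (Nat.card (U d) * Nat.card (U (c * d))) := by
          rw [hU, hU, hU]
          exact Nat.mul_le_mul (hcomp he₁ he₁1 he₁c) (Nat.mul_le_mul (hcomp he₂ he₂1 he₂d) (hcomp he₃ he₃1 he₃b))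
      _ = Nat.card (U c × U d × U (c * d)) := by rw [Nat.card_prod, Nat.card_prod]
      _ ≤ Nat.card A := Nat.card_le_card_of_injective _ hinj
  · intro i hiN hi
    obtain ⟨n, hn, hni⟩ := exists_conj_mem T hTN hiN ⟨1, by rw [pow_one, ← hi, pow_orderOf_eq_one]⟩
    set i' := n * i * n⁻¹
    have hi' : orderOf i' = 2 := (MulEquiv.orderOf_eq (MulAut.conj n) i).trans hi
    by_cases hic : i' = c
    · exact ⟨n, hn, hic⟩
    have hp' : Pair c i' := ⟨h.ha, hi', (hT.centralS _ hni).symm, Ne.symm hic⟩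
    have hi'N : i' ∈ normalizer (A : Set G) := hTN hni
    obtain ⟨e, he, he1, hei⟩ : ∃ e ∈ A, e ≠ 1 ∧ Commute e i' := by
      by_contra hno
      push Not at hno
      have hfree : ∀ e ∈ A, Commute i' e → e = 1 := fun e he hc => by
        by_contra h1; exact hno e he h1 hc.symm
      rcases exists_swap hT hp' (hp'.four_le (hVT h.left_mem) hni) with ⟨s, hs, hsi⟩ | hT4
      · have hfree' : ∀ e ∈ A, Commute (c * i') e → e = 1 := fun e he hc => by
          by_contra h1
          obtain ⟨f, hf, hf1, hfc⟩ := move (inv_mem (hTN hs)) he h1 hc.symm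
          refine hno f hf hf1 ?_
          rwa [← hsi, show s⁻¹ * (s * i' * s⁻¹) * s⁻¹⁻¹ = i' by group] at hfc
        refine hmoves (mul_inv_eq_iff_eq_mul.1 ?_).symm
        have e1 := w.inverts hp hp'.order_mul (mul_mem hcN hi'N) hfree' (inv_mem he₂)
        rw [inv_inv, ← w.inverts hp hi' hi'N hfree he₂] at e1
        calc c * e₂ * c⁻¹ = c * i' * (i' * e₂ * i'⁻¹) * (c * i')⁻¹ := by
              rw [show c * i' * (i' * e₂ * i'⁻¹) * (c * i')⁻¹ = c * (i' * i') * e₂ * (i' * i')⁻¹ * c⁻¹ by group,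
                sq_of_order hi']
              simp
          _ = e₂ := e1
      · rcases hp'.mem_four.1 (hT4 ▸ hVT h.right_mem) with e | e | e | e
        · exact ne_one_of_order h.hb e
        · exact h.ne e.symm
        · exact hno e₂ he₂ he₂1 (e ▸ he₂d)
        · refine hno e₃ he₃ he₃1 ?_
          rwa [e, ← mul_assoc, sq_of_order h.ha, one_mul] at he₃b
    obtain ⟨m, hm, hmi⟩ := w.trick hyp nf hp hi' hi'N h.ha hcN hR
      (w.le_normalizer w.isPGroup le_rfl he) (pow_prime_of_pGroup w.isPGroup he) he1 hei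
    exact ⟨m * n, mul_mem hm hn, by rw [show m * n * i * (m * n)⁻¹ = m * i' * m⁻¹ by simp only [i']; group, hmi]⟩

end Wc

/-- Either `|G|_p` divides `|oCore t|`, or the configuration `Full` occurs. -/
theorem Hyp.dichotomy (hyp : Hyp S t) (nf : NoFixed G) [Fact p.Prime] (hd : p ∣ Nat.card (oCore t)) :
    (∀ Q : Subgroup G, IsPGroup p Q → Nat.card Q ∣ Nat.card (oCore t)) ∨
      ∃ (P : Sylow p G) (A : Subgroup G) (T : Sylow 2 G) (c : G), Full p P A T c := by
  have hp : p ≠ 2 := by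
    rintro rfl
    exact (Nat.not_even_iff_odd.2 (hyp.odd_oCore t)) (even_iff_two_dvd.2 hd)
  obtain ⟨r, hr⟩ := exists_prime_orderOf_dvd_card' (G := oCore t) p hd
  have hr1 : (r : G) ≠ 1 := fun h => by
    rw [show r = 1 from Subtype.ext h, orderOf_one] at hr
    exact (Fact.out : p.Prime).ne_one hr.symm
  have hrR : (r : G) ∈ pp p t := (hyp.mem_pp nf hyp.orderT).2 ⟨r.2, 1, by
    rw [pow_one, ← SubgroupClass.coe_pow, ← hr, pow_orderOf_eq_one]; rfl⟩
  obtain ⟨P, hP⟩ := ((PCore.isPGroup_pCore (p := p)).map _ : IsPGroup p (pp p t)).exists_le_sylow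
  have hPne : (P : Subgroup G) ≠ ⊥ := fun h => hr1 (Subgroup.mem_bot.1 (h ▸ hP hrR))
  obtain ⟨A, w, hAP, hPN⟩ := hyp.exists_wc hp P hPne
  obtain ⟨a, b, h, ha, hb⟩ := w.exists_four hyp nf hp hrR hr1 (hPN (hP hrR))
  obtain ⟨c, d, h', hc, hd', e, he, he1, hec⟩ : ∃ c d : G, Pair c d ∧ c ∈ normalizer (A : Set G) ∧
      d ∈ normalizer (A : Set G) ∧ ∃ e ∈ A, e ≠ 1 ∧ Commute e c := by
    by_contra hno
    push Not at hno
    obtain ⟨e, he, he1⟩ := (bot_or_exists_ne_one A).resolve_left w.ne_bot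
    have fa : ∀ f ∈ A, Commute a f → f = 1 := fun f hf hc => by
      by_contra h1; exact hno a b h ha hb f hf h1 hc.symm
    have fb : ∀ f ∈ A, Commute b f → f = 1 := fun f hf hc => by
      by_contra h1; exact hno b a h.symm hb ha f hf h1 hc.symm
    refine hno (a * b) a h.right_left (mul_mem ha hb) ha e he he1 (mul_inv_eq_iff_eq_mul.1 ?_).symm
    rw [show a * b * e * (a * b)⁻¹ = a * (b * e * b⁻¹) * a⁻¹ by group, w.inverts hp h.hb hb fb he,
      w.inverts hp h.ha ha fa (inv_mem he), inv_inv]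
  by_cases h2 : ∃ d' : G, Pair c d' ∧ d' ∈ normalizer (A : Set G) ∧ ∃ f ∈ A, f ≠ 1 ∧ Commute f d'
  · obtain ⟨d', hcd, hdN, f, hf, hf1, hfd⟩ := h2
    obtain ⟨T, hT⟩ := w.full_of_two hyp nf hp P hAP hPN hcd hc hdN he he1 hec hf hf1 hfd
    exact Or.inr ⟨P, A, T, c, hT⟩
  · push Not at h2
    refine Or.inl fun Q hQ => w.card_dvd_of_single hyp nf hp P hPN h' hc hd' ⟨e, he, he1, hec⟩ ?_ ?_ hQ
    · exact fun f hf hfd => by by_contra h1; exact h2 d h' hd' f hf h1 hfd.symm
    · exact fun f hf hfd => by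
        by_contra h1; exact h2 (c * d) h'.left (mul_mem hc hd') f hf h1 hfd.symm

end Cfsg.Agent.GW
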