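import Cfsg.Agent.Lib.BSW.DihedralTI

/-!
# The setting of the Gorenstein-Walter theorem

A finite simple group with a dihedral Sylow 2-subgroup `S` and an involution `t` central in `S`.
-/

set_option autoImplicit false

namespace Cfsg.Agent.GW

open Subgroup

universe u

variable {G : Type u} [Group G]

/-- The centraliser of an element, as a subgroup. -/
abbrev Cent (x : G) : Subgroup G := centralizer ({x} : Set G)

/-- The largest normal subgroup of odd order of the centraliser of `x`, as a subgroup of `G`. -/
noncomputable def oCore [Finite G] (x : G) : Subgroup G :=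
  (Cfsg.oddCore (Cent x)).map (Cent x).subtype

/-- `G` is simple, `S` is a dihedral Sylow 2-subgroup and `t` is an involution central in `S`. -/
structure Hyp [Finite G] (S : Sylow 2 G) (t : G) : Prop where
  simple : IsSimpleGroup G
  dihedral : ∃ n : ℕ, 2 ≤ n ∧ Nonempty ((S : Subgroup G) ≃* DihedralGroup n)
  orderT : orderOf t = 2
  memS : t ∈ (S : Subgroup G)
  centralS : ∀ s ∈ (S : Subgroup G), s * t = t * s

/-- For all commuting involutions `a ≠ b`, nothing but the identity of the odd core of the
centraliser of `a` is centralised by `b`. -/
def NoFixed (G : Type u) [Group G] [Finite G] : Prop :=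
  ∀ a b : G, orderOf a = 2 → orderOf b = 2 → a * b = b * a → a ≠ b → oCore a ⊓ Cent b = ⊥

end Cfsg.Agent.GW
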