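import Cfsg.Agent.Lib.GW.NoFixedMain
import Cfsg.Agent.Lib.GW.KFacts
import Cfsg.Agent.Lib.SmallSimple.Criteria
import Cfsg.Agent.Lib.PSL2.Basic

/-!
# Gorenstein-Walter: from the simple case to the structure theorem

`PartTwo` is the case with fixed points.  With Part I (`Hyp.psl_of_noFixed`) and induction on the order it gives
that every nonabelian simple group with dihedral Sylow 2-subgroups is `IsKnown`, hence `KnownSections` for every
finite group and the structure of a perfect group with dihedral Sylow 2-subgroups.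
-/

set_option autoImplicit false
set_option linter.style.haveILetI false
set_option linter.unusedSectionVars false

namespace Cfsg.Agent.GW

open Subgroup

universe u v

/-- Gorenstein-Walter, the case with fixed points, for groups with known proper sections. -/
def PartTwo : Prop :=
  ∀ (G : Type u) [Group G] [Finite G] (S : Sylow 2 G) (t : G), Hyp S t →
    (∀ H : Subgroup G, H ≠ ⊤ → KnownSections H) → ¬ NoFixed G → IsKnown G

variable {X : Type u} [Group X] [Finite X]

theorem exists_hyp (hs : IsSimpleGroup X) (hd : DihedralTwo X) : ∃ (S : Sylow 2 X) (t : X), Hyp S t := by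
  haveI : Fact (Nat.Prime 2) := ⟨Nat.prime_two⟩
  obtain ⟨S⟩ : Nonempty (Sylow 2 X) := inferInstance
  obtain ⟨n, hn, ⟨e⟩⟩ := hd S
  haveI : NeZero n := ⟨by omega⟩
  have hne : (⊤ : Subgroup (S : Subgroup X)) ≠ ⊥ := fun h => by
    have h1 : Nat.card (⊤ : Subgroup (S : Subgroup X)) = 1 := by rw [h, Subgroup.card_bot]
    rw [Subgroup.card_top, Nat.card_congr e.toEquiv, DihedralGroup.nat_card] at h1
    omega
  obtain ⟨z, -, hz, hzo⟩ := PGroup.exists_orderOf_eq_mem_center S.2 ⊤ hne
  exact ⟨S, (z : X), ⟨hs, ⟨n, hn, ⟨e⟩⟩, by rwa [Subgroup.orderOf_coe], z.2,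
    fun s hs' => congrArg Subtype.val (Subgroup.mem_center_iff.1 hz ⟨s, hs'⟩)⟩⟩

/-- Part I in the form `IsKnown`. -/
theorem Hyp.isKnown_of_noFixed {S : Sylow 2 X} {t : X} (hyp : Hyp S t) (nf : NoFixed X) : IsKnown X := by
  obtain ⟨F, iF, iF', hodd, ⟨e⟩⟩ := hyp.psl_of_noFixed nf
  refine Or.inl ⟨F, iF, iF', hodd, ?_, ⟨e⟩⟩
  by_contra h3
  haveI := hyp.simple
  have h1 := Fintype.one_lt_card (α := F)
  have hcard : Fintype.card F = 3 := by
    obtain ⟨k, hk⟩ := hodd
    omega
  have h12 := PSL2.two_mul_card_PSL (PSL2.odd_card_iff.1 hodd)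
  rw [hcard, ← Nat.card_congr e.toEquiv] at h12
  exact SmallSimple.false_of_two_primes (G := X) (a := 2) (b := 1) Nat.prime_two Nat.prime_three
    (by norm_num at h12 ⊢; omega) (by norm_num at h12; rw [show Nat.card X = 12 by omega]; norm_num)

/-- Every nonabelian simple group with dihedral Sylow 2-subgroups is known. -/
theorem isKnown_of_simple (h2 : PartTwo.{u}) :
    ∀ (G : Type u) [Group G] [Finite G], IsSimpleGroup G → DihedralTwo G → IsKnown G := by
  suffices key : ∀ (m : ℕ) (G : Type u) [Group G] [Finite G], Nat.card G = m → IsSimpleGroup G →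
      DihedralTwo G → IsKnown G from fun G _ _ hs hd => key _ G rfl hs hd
  intro m
  induction m using Nat.strong_induction_on with
  | _ m ih =>
    intro G _ _ hm hs hd
    obtain ⟨S, t, hyp⟩ := exists_hyp hs hd
    by_cases nf : NoFixed G
    · exact hyp.isKnown_of_noFixed nf
    refine h2 G S t hyp (fun H hH K N hN hsK _ hdK => ?_) nf
    refine ih _ ?_ (K ⧸ N) rfl hsK hdK
    calc Nat.card (K ⧸ N) ≤ Nat.card K := Nat.le_of_dvd Nat.card_pos N.card_quotient_dvd_card
      _ ≤ Nat.card H := Nat.le_of_dvd Nat.card_pos K.card_subgroup_dvd_card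
      _ < m := hm ▸ lt_of_le_of_ne (Nat.le_of_dvd Nat.card_pos H.card_subgroup_dvd_card)
          fun h => hH ((Subgroup.card_eq_iff_eq_top H).1 h)

theorem knownSections (h2 : PartTwo.{u}) : KnownSections X := fun K N _ hs _ hd =>
  isKnown_of_simple h2 (K ⧸ N) hs hd

theorem isPerfect_quotient {Y : Type v} [Group Y] [Group.IsPerfect Y] (N : Subgroup Y) [N.Normal] :
    Group.IsPerfect (Y ⧸ N) := ⟨top_le_iff.1 (by
  rw [← Subgroup.map_top_of_surjective _ (QuotientGroup.mk'_surjective N),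
    ← Group.IsPerfect.commutator_eq_top (G := Y)]
  rw [commutator_def, commutator_def, Subgroup.map_commutator]
  exact Subgroup.commutator_mono le_top le_top)⟩

theorem subsingleton_of_isPerfect {Y : Type v} [Group Y] [Group.IsPerfect Y] (hs : Group.IsSolvable Y) :
    Subsingleton Y := by
  by_contra h
  haveI : Nontrivial Y := not_subsingleton_iff_nontrivial.1 h
  haveI := hs
  exact (Group.IsSolvable.commutator_lt_top_of_nontrivial Y).ne Group.IsPerfect.commutator_eq_top

/-- In a perfect core-free group with known sections and dihedral Sylow 2-subgroups, the simple normal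
subgroup is everything. -/
theorem isKnown_of_perfect [Group.IsPerfect X] (hd : SubDihedral X) (hk : KnownSections X)
    (hO : Cfsg.oddCore X = ⊥) (h4 : 2 ∣ Nat.card X) : IsKnown X := by
  haveI : Fact (Nat.Prime 2) := ⟨Nat.prime_two⟩
  have hns : ¬ Group.IsSolvable X := fun hs => by
    haveI := subsingleton_of_isPerfect hs
    rw [Nat.card_of_subsingleton (1 : X)] at h4
    omega
  rcases structure_of_oddCore_eq_bot hd hk hO with h | ⟨⟨e⟩⟩ | ⟨⟨e⟩⟩ | ⟨E, hE, hEs, hEk, hEc⟩
  · haveI := h.isNilpotent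
    exact absurd (inferInstance : Group.IsSolvable X) hns
  · refine absurd (CharInt.isSolvable_of_card_eq (a := 2) (b := 1) Nat.prime_two Nat.prime_three ?_) hns
    rw [Nat.card_congr e.toEquiv, nat_card_alternatingGroup, Nat.card_fin]; rfl
  · refine absurd (CharInt.isSolvable_of_card_eq (a := 3) (b := 1) Nat.prime_two Nat.prime_three ?_) hns
    rw [Nat.card_congr e.toEquiv, Nat.card_perm, Nat.card_fin]; rfl
  suffices hEtop : E = ⊤ by
    subst hEtop
    exact hEk.of_equiv Subgroup.topEquiv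
  have hOE : Cfsg.oddCore E = ⊥ := PCore.pPrimeCore_eq_bot_of_normal E hO
  obtain ⟨R⟩ : Nonempty (Sylow 2 E) := inferInstance
  have hRnc : ¬ IsCyclic (R : Subgroup E) := fun hc => by
    have hp := isPGroup_of_cyclic_two R hc hOE
    haveI := hp.isNilpotent
    haveI := hEs
    have hcm := IsSimpleGroup.comm_iff_isSolvable.mpr (inferInstance : Group.IsSolvable E)
    refine hns ?_
    -- `E` abelian lies in its centraliser
    have hbot : E = ⊥ := le_bot_iff.1 (hEc ▸ fun x hx => mem_centralizer_iff.2 fun y hy =>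
      congrArg Subtype.val (hcm ⟨y, hy⟩ ⟨x, hx⟩))
    exact absurd hbot ((Subgroup.nontrivial_iff_ne_bot E).1 inferInstance)
  obtain ⟨T, hT⟩ := (R.2.map E.subtype).exists_le_sylow
  rcases hd T with hc | ⟨n, hn, ⟨e⟩⟩
  · exact absurd ((((R : Subgroup E).equivMapOfInjective E.subtype E.subtype_injective).isCyclic).2
      (Subgroup.isCyclic_of_le hT)) hRnc
  haveI : NeZero n := ⟨by omega⟩
  have hne : (⊤ : Subgroup (T : Subgroup X)) ≠ ⊥ := fun h => by
    have h1 : Nat.card (⊤ : Subgroup (T : Subgroup X)) = 1 := by rw [h, Subgroup.card_bot]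
    rw [Subgroup.card_top, Nat.card_congr e.toEquiv, DihedralGroup.nat_card] at h1
    omega
  obtain ⟨z, -, hz, hzo⟩ := PGroup.exists_orderOf_eq_mem_center T.2 ⊤ hne
  obtain ⟨g⟩ := BSW.DihedralTI.exists_gens T hn e (t := (z : X)) (by rwa [Subgroup.orderOf_coe]) z.2
    (fun s hs' => congrArg Subtype.val (Subgroup.mem_center_iff.1 hz ⟨s, hs'⟩))
  obtain ⟨i, hi⟩ : ∃ i : ℤ, g.σ ^ i * g.τ ∈ E := by
    by_contra hno
    push Not at hno
    refine hRnc ((((R : Subgroup E).equivMapOfInjective E.subtype E.subtype_injective).isCyclic).2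
      (Subgroup.isCyclic_of_le (H' := zpowers g.σ) fun x hx => ?_))
    obtain ⟨j, hj | hj⟩ := g.hform x (hT hx)
    · exact hj ▸ zpow_mem (mem_zpowers _) j
    · exact absurd (hj ▸ map_subtype_le _ hx) (hno j)
  set π := QuotientGroup.mk' E
  have hσ2 : π g.σ * π g.σ = 1 := by
    have h1 : g.σ * (g.σ ^ i * g.τ) * g.σ⁻¹ * (g.σ ^ i * g.τ)⁻¹ ∈ E :=
      mul_mem (hE.conj_mem _ hi g.σ) (inv_mem hi)
    have h2 : g.τ * g.σ⁻¹ * g.τ⁻¹ = g.σ := by rw [← conj_inv, g.hrel, inv_inv]
    rw [show g.σ * (g.σ ^ i * g.τ) * g.σ⁻¹ * (g.σ ^ i * g.τ)⁻¹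
      = g.σ * g.σ ^ i * (g.τ * g.σ⁻¹ * g.τ⁻¹) * (g.σ ^ i)⁻¹ by group, h2] at h1
    rw [mul_assoc g.σ (g.σ ^ i), ((Commute.refl g.σ).zpow_left i).eq, ← mul_assoc g.σ,
      mul_inv_cancel_right] at h1
    rw [← map_mul]
    exact (QuotientGroup.eq_one_iff _).2 h1
  have hQ : ((T : Subgroup X).map π) ≤ zpowers (π g.σ) := by
    rintro _ ⟨x, hx, rfl⟩
    have hτ : π g.τ = (π g.σ ^ i)⁻¹ := by
      refine eq_inv_of_mul_eq_one_right ?_
      rw [← map_zpow, ← map_mul]
      exact (QuotientGroup.eq_one_iff _).2 hi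
    obtain ⟨j, hj | hj⟩ := g.hform x hx <;> rw [hj]
    · exact ⟨j, (map_zpow π _ j).symm⟩
    · rw [map_mul, map_zpow, hτ]
      exact mul_mem (zpow_mem (mem_zpowers _) j) (inv_mem (zpow_mem (mem_zpowers _) i))
  obtain ⟨U, hU⟩ : ∃ U : Sylow 2 (X ⧸ E), IsCyclic (U : Subgroup (X ⧸ E)) :=
    ⟨T.mapSurjective (QuotientGroup.mk'_surjective E), by
      rw [Sylow.coe_mapSurjective]; exact Subgroup.isCyclic_of_le hQ⟩
  haveI := isPerfect_quotient E
  obtain ⟨P, N, hN, hPN⟩ := hasNormalPComplement_of_cyclic_two U hU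
  haveI := hN
  have hsol : Group.IsSolvable ((X ⧸ E) ⧸ N) := by
    haveI : Group.IsNilpotent ((X ⧸ E) ⧸ N) :=
      (IsPGroup.of_equiv P.2 (hPN.symm.QuotientMulEquiv.symm)).isNilpotent
    infer_instance
  haveI := isPerfect_quotient N
  haveI := subsingleton_of_isPerfect hsol
  have hNtop : N = ⊤ := QuotientGroup.subgroup_eq_top_of_subsingleton N ‹_›
  have hodd : Odd (Nat.card (X ⧸ E)) := by
    have h1 : Nat.card (P : Subgroup (X ⧸ E)) = 1 := by
      rw [← hPN.symm.index_eq_card, hNtop, Subgroup.index_top]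
    rw [P.card_eq_multiplicity, Nat.pow_eq_one] at h1
    exact Nat.not_even_iff_odd.1 fun he => by
      have := (Nat.prime_two.dvd_iff_one_le_factorization Nat.card_pos.ne').1 (even_iff_two_dvd.1 he)
      omega
  haveI := subsingleton_of_isPerfect (Cfsg.Agent.S0205.result hodd)
  exact QuotientGroup.subgroup_eq_top_of_subsingleton E ‹_›

/-- **Gorenstein-Walter** for perfect groups (the shape of S0483). -/
theorem known_of_perfect [Group.IsPerfect X] (h2 : PartTwo.{u}) (S : Sylow 2 X) {n : ℕ} (hn : 2 ≤ n)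
    (hS : Nonempty ((S : Subgroup X) ≃* DihedralGroup n)) : IsKnown (X ⧸ Cfsg.oddCore X) := by
  obtain ⟨e⟩ := hS
  haveI : NeZero n := ⟨by omega⟩
  haveI := isPerfect_quotient (Cfsg.oddCore X)
  refine isKnown_of_perfect (subDihedral_of_sylow S hn e).quotient_oddCore (knownSections h2)
    PCore.pPrimeCore_quotient_self_eq_bot ?_
  have h4 : 2 ∣ Nat.card X := by
    refine Dvd.dvd.trans ?_ (S : Subgroup X).card_subgroup_dvd_card
    rw [Nat.card_congr e.toEquiv, DihedralGroup.nat_card]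
    exact dvd_mul_right 2 n
  rw [(Cfsg.oddCore X).card_eq_card_quotient_mul_card_subgroup] at h4
  rcases Nat.prime_two.dvd_mul.1 h4 with h | h
  · exact h
  · exact absurd (even_iff_two_dvd.2 h) (Nat.not_even_iff_odd.2 PCore.odd_card_oddCore)

end Cfsg.Agent.GW
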