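import Cfsg.Agent.S1857
import Cfsg.Agent.Lib.GW.Basic
import Cfsg.Agent.Lib.Coprime.Generation
import Cfsg.Agent.Lib.Balance.CharP

/-!
# General lemmas of the local part of Gorenstein-Walter

* `commute_of_centralizer_le`, `commute_of_fixed`: `A × B` for an involution on an odd nilpotent group.
* `eq_of_leadsTo_of_fitOf_le`, `eq_of_leadsTo_of_conj`: the two-prime case of Bender's uniqueness.
* `fitOf_le_of_leadsTo`, `eq_of_leadsTo_four`: a four group with transitive action inside the target.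
-/

set_option autoImplicit false
set_option linter.style.haveILetI false

namespace Cfsg.Agent.GW

open Subgroup Cfsg.Agent.S1856 Cfsg.Agent.S1312 Cfsg.Agent.Balance
open BSW (sq_of_order inv_of_order ne_one_of_order order_of_sq mem_cent)

universe u

variable {G : Type u} [Group G] [Finite G]

/-! ### `A × B` -/

/-- An involution normalising the nilpotent subgroup `X` of odd order and centralising the
centraliser in `X` of its fixed points centralises `X`. -/
theorem commute_of_centralizer_le {X : Subgroup G} (hX : Group.IsNilpotent X)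
    (hodd : Odd (Nat.card X)) {t : G} (ht : orderOf t = 2) (htX : t ∈ normalizer (X : Set G))
    (h : X ⊓ centralizer ((X ⊓ Cent t : Subgroup G) : Set G) ≤ Cent t) : X ≤ Cent t := by
  classical
  haveI := hX
  -- each Sylow subgroup of `X` is centralised
  suffices hs : ∀ p : ℕ, p.Prime → ∀ R : Sylow p X, (R : Subgroup X).map X.subtype ≤ Cent t by
    have htop : (⊤ : Subgroup X) ≤ (Cent t).subgroupOf X := by
      refine top_le_iff.mpr (eq_top_of_le_card _ (Nat.le_of_dvd Nat.card_pos ?_))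
      refine (Nat.dvd_iff_prime_pow_dvd_dvd _ _).2 fun p k hp hdvd => ?_
      haveI := Fact.mk hp
      obtain ⟨R⟩ := (inferInstance : Nonempty (Sylow p X))
      refine (R.pow_dvd_card_of_pow_dvd_card hdvd).trans (card_dvd_of_le fun x hx => ?_)
      exact mem_subgroupOf.2 (hs p hp R ⟨x, hx, rfl⟩)
    exact fun x hx => htop (mem_top (⟨x, hx⟩ : X))
  intro p hp R
  haveI := Fact.mk hp
  haveI hRn : (R : Subgroup X).Normal := inferInstance
  set P := (R : Subgroup X).map X.subtype with hP
  have hPp : IsPGroup p P := R.2.map _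
  have hPX : P ≤ X := map_subtype_le _
  have hXP : X ≤ normalizer (P : Set G) := fun x hx =>
    (le_normalizer_map X.subtype) ⟨⟨x, hx⟩, (normalizer_eq_top (H := (R : Subgroup X))).ge trivial, rfl⟩
  have htP : t ∈ normalizer (P : Set G) := by
    haveI hch := Sylow.characteristic_of_normal R hRn
    rw [mem_normalizer_iff_map_conj_eq]
    refine eq_of_le_of_card_ge ?_ (le_of_eq (card_map_of_injective (MulAut.conj t).injective).symm)
    rintro _ ⟨_, ⟨z, hz, rfl⟩, rfl⟩
    have h1 := Subgroup.characteristic_iff_map_eq.1 hch (X.normalizerMonoidHom ⟨t, htX⟩)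
    have h2 : X.normalizerMonoidHom ⟨t, htX⟩ z ∈ (R : Subgroup X) := by
      rw [← h1]; exact ⟨z, hz, rfl⟩
    exact ⟨_, h2, rfl⟩
  -- elements of order prime to `p` of `X` commute with `P`
  have hcop : ∀ c ∈ P, ∀ y ∈ X, (orderOf y).Coprime p → Commute c y := by
    intro c hc y hy hyo
    obtain ⟨c₀, hc₀, rfl⟩ := hc
    have hy' : (⟨y, hy⟩ : X) ∈ Cfsg.pPrimeCore p X := by
      rw [← QuotientGroup.eq_one_iff]
      haveI : (Cfsg.pPrimeCore p X).Normal := PCore.pPrimeCore_normal
      have h1 : IsPGroup p (X ⧸ Cfsg.pPrimeCore p X) := by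
        refine (PCore.pCore_eq_top_iff).1 ?_
        set Q := X ⧸ Cfsg.pPrimeCore p X
        haveI : Group.IsNilpotent Q := inferInstance
        by_contra hne
        obtain ⟨q, hq, hqd⟩ : ∃ q, q.Prime ∧ q ∣ (Cfsg.pCore p Q).index :=
          Nat.exists_prime_and_dvd (fun h1 => hne (index_eq_one.1 h1))
        haveI := Fact.mk hq
        obtain ⟨T⟩ := (inferInstance : Nonempty (Sylow q Q))
        haveI : (T : Subgroup Q).Normal := inferInstance
        by_cases hqp : q = p
        · subst hqp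
          exact T.not_dvd_index (hqd.trans (index_dvd_of_le (PCore.le_pCore T.2)))
        · have hbot : (T : Subgroup Q) = ⊥ := by
            refine le_bot_iff.1 ?_
            rw [← PCore.pPrimeCore_quotient_self_eq_bot (G := X) (p := p)]
            obtain ⟨k, hk⟩ := IsPGroup.iff_card.mp T.2
            exact PCore.le_pPrimeCore (hk ▸ ((Nat.coprime_primes hq hp).2 hqp).pow_left k)
          exact T.ne_bot_of_dvd_card (hqd.trans (index_dvd_card _)) hbot
      obtain ⟨j, hj⟩ := h1 ((⟨y, hy⟩ : X) : X ⧸ Cfsg.pPrimeCore p X)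
      refine orderOf_eq_one_iff.1 (Nat.eq_one_of_dvd_coprimes (hyo.pow_right j) ?_
        (orderOf_dvd_of_pow_eq_one hj))
      refine (orderOf_map_dvd (QuotientGroup.mk' _) (⟨y, hy⟩ : X)).trans ?_
      rw [orderOf_mk]
    exact Commute.map (show Commute c₀ ⟨y, hy⟩ from
      PCore.commute_of_mem_cores (PCore.le_pCore R.2 hc₀) hy') X.subtype
  have hp2 : p ∣ Nat.card X → p ≠ 2 := by
    rintro hd rfl
    exact Nat.not_even_iff_odd.2 hodd (even_iff_two_dvd.2 hd)
  intro c hc
  by_cases hd : p ∣ Nat.card X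
  swap
  · have : P = ⊥ := by
      rw [hP, map_eq_bot_iff_of_injective _ X.subtype_injective]
      refine eq_bot_of_card_eq _ ?_
      obtain ⟨k, hk⟩ := IsPGroup.iff_card.mp R.2
      rcases k with _ | k
      · simpa using hk
      · exact absurd ((dvd_pow_self p k.succ_ne_zero).trans (hk ▸ card_subgroup_dvd_card _)) hd
    rw [this, mem_bot] at hc
    rw [hc]
    exact one_mem _
  refine mem_cent.2 (commute_of_commute_fixed (x := t) (R := P ⊓ Cent t) hPp (hPp.to_le inf_le_left)
    (inf_le_left.trans le_normalizer) htP ?_ (fun r hr => (show Commute r t from mem_cent.1 hr.2).symm)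
    (fun c hc hcR => ?_) c hc).eq.symm
  · rw [ht]; exact (Nat.coprime_primes Nat.prime_two hp).2 (hp2 hd).symm
  · refine (show Commute c t from mem_cent.1 (h ⟨hPX hc, mem_centralizer_iff.2 fun y hy => ?_⟩)).symm
    -- split `y` into its `p`-part and `p'`-part
    have hn : orderOf y ≠ 0 := (orderOf_pos y).ne'
    set a := (orderOf y).factorization p
    set m := orderOf y / p ^ a
    have hcm : p.Coprime m := Nat.coprime_ordCompl hp hn
    have hym : y ^ m ∈ centralizer ({c} : Set G) := by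
      have hmem : y ^ m ∈ P := by
        have hY : IsPGroup p (zpowers (⟨y ^ m, X.pow_mem hy.1 m⟩ : X)) := by
          have hd : orderOf (⟨y ^ m, X.pow_mem hy.1 m⟩ : X) ∣ p ^ a := by
            rw [orderOf_mk]
            refine orderOf_dvd_of_pow_eq_one ?_
            rw [← pow_mul, mul_comm, Nat.ordProj_mul_ordCompl_eq_self, pow_orderOf_eq_one]
          obtain ⟨i, -, hi⟩ := (Nat.dvd_prime_pow hp).1 hd
          exact IsPGroup.of_card (n := i) (by rw [Nat.card_zpowers, hi])
        obtain ⟨T, hT⟩ := hY.exists_le_sylow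
        haveI := Sylow.unique_of_normal R hRn
        rw [Subsingleton.elim T R] at hT
        exact ⟨_, hT (mem_zpowers _), rfl⟩
      exact mem_centralizer_singleton_iff.2 (hcR _ ⟨hmem, pow_mem hy.2 m⟩).eq
    have hyp : y ^ p ^ a ∈ centralizer ({c} : Set G) := by
      refine mem_centralizer_singleton_iff.2 (hcop c hc _ (X.pow_mem hy.1 _) ?_).eq.symm
      rw [orderOf_pow_of_dvd (pow_ne_zero _ hp.ne_zero) (Nat.ordProj_dvd _ _)]
      exact hcm.symm
    have hmem : y ∈ centralizer ({c} : Set G) := by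
      have hg : Int.gcd (m : ℤ) ((p ^ a : ℕ) : ℤ) = 1 := by
        rw [Int.gcd_natCast_natCast]; exact (hcm.pow_left a).symm
      have h1 := mul_mem (zpow_mem hym (Int.gcdA m (p ^ a : ℕ)))
        (zpow_mem hyp (Int.gcdB m (p ^ a : ℕ)))
      rw [← zpow_natCast, ← zpow_natCast, ← zpow_mul, ← zpow_mul, ← zpow_add, ← Int.gcd_eq_gcd_ab,
        hg] at h1
      simpa using h1
    exact mem_centralizer_singleton_iff.1 hmem

/-- The same, from one fixed element whose centraliser in `X` is fixed by the involution. -/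
theorem commute_of_fixed {X : Subgroup G} (hX : Group.IsNilpotent X) (hodd : Odd (Nat.card X))
    {t y : G} (ht : orderOf t = 2) (htX : t ∈ normalizer (X : Set G)) (hy : y ∈ X)
    (hyt : Commute y t) (h : X ⊓ Cent y ≤ Cent t) : X ≤ Cent t :=
  commute_of_centralizer_le hX hodd ht htX (le_trans (inf_le_inf_left _
    (centralizer_le (Set.singleton_subset_iff.2 ⟨hy, mem_cent.2 hyt.eq⟩))) h)

/-! ### Bender uniqueness with two primes -/

omit [Finite G] in
/-- The order of the Fitting subgroup is a conjugation invariant. -/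
theorem card_fitting_map_conj (M : Subgroup G) (g : G) :
    Nat.card (fittingSubgroup ↥(M.map (MulAut.conj g).toMonoidHom)) =
      Nat.card (fittingSubgroup ↥M) := by
  let e := M.equivMapOfInjective (MulAut.conj g).toMonoidHom (MulAut.conj g).injective
  rw [← Components.map_fittingSubgroup e, card_map_of_injective e.injective]

omit [Finite G] in
theorem genFitting_eq_map_conj (M : Subgroup G) (g : G)
    (h : generalizedFittingSubgroup ↥M = fittingSubgroup ↥M) :
    generalizedFittingSubgroup ↥(M.map (MulAut.conj g).toMonoidHom) =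
      fittingSubgroup ↥(M.map (MulAut.conj g).toMonoidHom) := by
  let e := M.equivMapOfInjective (MulAut.conj g).toMonoidHom (MulAut.conj g).injective
  rw [← Components.map_fittingSubgroup e, ← Components.map_generalizedFittingSubgroup e, h]

/-- If `M ⇝ N`, `F(M)` has two prime divisors, `F*(N) = F(N) ≤ M`, then `M = N`. -/
theorem eq_of_leadsTo_of_fitOf_le [IsSimpleGroup G] (hG : ¬ IsMulCommutative G) {M N : Subgroup G}
    (hM : IsCoatom M) (hN : IsCoatom N) (hMN : Cfsg.leadsTo M N)
    {p r : ℕ} [hp : Fact p.Prime] [hr : Fact r.Prime] (hpr : p ≠ r)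
    (hpd : p ∣ Nat.card ↥(fittingSubgroup ↥M)) (hrd : r ∣ Nat.card ↥(fittingSubgroup ↥M))
    (hNF : generalizedFittingSubgroup ↥N = fittingSubgroup ↥N) (hle : fitOf N ≤ M) : M = N := by
  obtain ⟨Q, hQ1, hQF, hQN⟩ := hMN
  have h : LeadsTo M N Q := ⟨hQ1, hQF, hQN⟩
  have hFN : fitOf N ≠ ⊥ := by
    intro hb
    rw [fitOf, map_eq_bot_iff_of_injective _ N.subtype_injective, ← hNF] at hb
    have hNb : N ≠ ⊥ := by
      intro hN0
      apply hG
      obtain ⟨g, hg⟩ : ∃ g : G, g ≠ 1 := exists_ne 1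
      have htop : zpowers g = ⊤ := hN.2 _ (hN0 ▸ bot_lt_iff_ne_bot.mpr (zpowers_ne_bot.mpr hg))
      have : IsCyclic G := isCyclic_iff_exists_zpowers_eq_top.mpr ⟨g, htop⟩
      exact ⟨⟨fun x y => by let := IsCyclic.commGroup (α := G); exact mul_comm x y⟩⟩
    haveI := (nontrivial_iff_ne_bot N).mpr hNb
    exact Components.generalizedFittingSubgroup_ne_bot (G := N) hb
  have h' : LeadsTo N M (fitOf N) := by
    refine ⟨hFN, le_rfl, fun x hx => ?_⟩
    have h1 : x ∈ (generalizedFittingSubgroup ↥N).map N.subtype := hx.1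
    rw [hNF] at h1
    exact hle h1
  by_contra hne
  have hFMN : fitOf M ≤ N := by
    refine (fit_le_iff M N).2 fun s hs hsd => ?_
    have := Fact.mk hs
    have hsN := S1857.dvd_of_dvd h' h hsd
    by_cases h1 : p = s
    · exact h'.coreP_le (p := r) hN (fun he => hpr (h1.trans he.symm))
        (S1857.dvd_of_dvd h' h hrd) hsN
    · exact h'.coreP_le (p := p) hN h1 (S1857.dvd_of_dvd h' h hpd) hsN
  have hS : starOf M ≤ N := by
    rw [starOf, generalizedFittingSubgroup, Subgroup.map_sup]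
    exact sup_le (h.layOf_le.trans inf_le_right) hFMN
  have hS' : starOf N ≤ M := by
    rw [starOf, hNF]
    exact hle
  obtain ⟨s, hs, hsM, -⟩ := S1312.Pair.main hG (⟨hM, hN, hne, hS, hS'⟩ : S1312.Pair M N)
  have := Fact.mk hs
  have hFs : IsPGroup s (fitOf M) :=
    hsM.to_le (map_mono Components.fittingSubgroup_le_generalizedFittingSubgroup)
  obtain ⟨k, hk⟩ := IsPGroup.iff_card.mp hFs
  rw [fitOf, card_map_of_injective M.subtype_injective] at hk
  rw [hk] at hpd hrd
  exact hpr (((Nat.prime_dvd_prime_iff_eq hp.out hs).1 (hp.out.dvd_of_dvd_pow hpd)).trans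
    ((Nat.prime_dvd_prime_iff_eq hr.out hs).1 (hr.out.dvd_of_dvd_pow hrd)).symm)

/-- A maximal subgroup with two primes in `F(M)` and `F*(M) = F(M)` does not lead to a proper
conjugate of itself. -/
theorem eq_of_leadsTo_of_conj [IsSimpleGroup G] (hG : ¬ IsMulCommutative G) {M N : Subgroup G}
    (hM : IsCoatom M) (hN : IsCoatom N) (hMN : Cfsg.leadsTo M N) {g : G}
    (hconj : N = M.map (MulAut.conj g).toMonoidHom)
    {p r : ℕ} [hp : Fact p.Prime] [hr : Fact r.Prime] (hpr : p ≠ r)
    (hpd : p ∣ Nat.card ↥(fittingSubgroup ↥M)) (hrd : r ∣ Nat.card ↥(fittingSubgroup ↥M))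
    (hMF : generalizedFittingSubgroup ↥M = fittingSubgroup ↥M) : M = N := by
  have hcard : Nat.card ↥(fittingSubgroup ↥N) = Nat.card ↥(fittingSubgroup ↥M) := by
    subst hconj; exact card_fitting_map_conj M g
  have hNF : generalizedFittingSubgroup ↥N = fittingSubgroup ↥N := by
    subst hconj; exact genFitting_eq_map_conj M g hMF
  refine eq_of_leadsTo_of_fitOf_le hG hM hN hMN hpr hpd hrd hNF ?_
  obtain ⟨Q, hQ1, hQF, hQN⟩ := hMN
  have h : LeadsTo M N Q := ⟨hQ1, hQF, hQN⟩
  refine (fit_le_iff N M).2 fun s hs hsd => ?_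
  have := Fact.mk hs
  rw [hcard] at hsd
  by_cases h1 : p = s
  · exact h.coreP_le (p := r) hM (fun he => hpr (h1.trans he.symm)) hrd hsd
  · exact h.coreP_le (p := p) hM h1 hpd hsd

/-! ### A four group in the target -/

variable {S : Sylow 2 G} {t : G}

/-- If `M ≥ Cent t` leads to `N`, `F(M)` has two prime divisors and `N` contains a four group
all whose involutions are `N`-conjugates of `t`, then `F(N) ≤ M`. -/
theorem fitOf_le_of_leadsTo (hyp : Hyp S t) {M N : Subgroup G} (hM : IsCoatom M)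
    (hCM : Cent t ≤ M) (hMN : Cfsg.leadsTo M N)
    {p r : ℕ} [Fact p.Prime] [Fact r.Prime] (hpr : p ≠ r)
    (hpd : p ∣ Nat.card ↥(fittingSubgroup ↥M)) (hrd : r ∣ Nat.card ↥(fittingSubgroup ↥M))
    {W : Subgroup G} [IsKleinFour W] (htW : t ∈ W) (hWN : W ≤ N)
    (htrans : ∀ w ∈ W, w ≠ 1 → ∃ h ∈ N, h * t * h⁻¹ = w) : fitOf N ≤ M := by
  haveI := hyp.simple
  obtain ⟨Q, hQ1, hQF, hQN⟩ := hMN
  have h : LeadsTo M N Q := ⟨hQ1, hQF, hQN⟩
  refine (fit_le_iff N M).2 fun q hq _ => ?_
  haveI := Fact.mk hq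
  by_cases hqd : q ∣ Nat.card ↥(fittingSubgroup ↥M)
  · by_cases h1 : p = q
    · exact h.coreP_le (p := r) hM (fun he => hpr (h1.trans he.symm)) hrd hqd
    · exact h.coreP_le (p := p) hM h1 hpd hqd
  set K := coreP q N with hK
  have hbot : K ⊓ M = ⊥ := h.coreP_inf_eq_bot hqd
  have hnorm : N ≤ normalizer (K : Set G) := le_normalizer_coreP q N
  -- the conjugates of `t` in `W` have no fixed points
  have hfix : ∀ w ∈ W, w ≠ 1 → K ⊓ centralizer ({w} : Set G) ≤ ⊥ := by
    intro w hw hw1 x hx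
    obtain ⟨g, hg, rfl⟩ := htrans w hw hw1
    have h1 : g⁻¹ * x * g ∈ K := by
      have := (mem_normalizer_iff.1 (hnorm (inv_mem hg)) x).1 hx.1
      simpa using this
    have h2 : g⁻¹ * x * g ∈ Cent t := by
      refine mem_cent.2 ?_
      have e := mem_centralizer_singleton_iff.1 hx.2
      calc g⁻¹ * x * g * t = g⁻¹ * (x * (g * t * g⁻¹)) * g := by group
        _ = g⁻¹ * (g * t * g⁻¹ * x) * g := by rw [e]
        _ = t * (g⁻¹ * x * g) := by group
    have h3 : g⁻¹ * x * g ∈ K ⊓ M := ⟨h1, hCM h2⟩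
    rw [hbot, mem_bot] at h3
    refine mem_bot.2 ?_
    calc x = g * (g⁻¹ * x * g) * g⁻¹ := by group
      _ = 1 := by rw [h3]; group
  suffices hK1 : K = ⊥ by rw [hK1]; exact bot_le
  haveI : IsMulCommutative W := IsKleinFour.isMulCommutative
  have hWc : IsPGroup 2 W := IsPGroup.of_card (n := 2) (by rw [IsKleinFour.card_four]; norm_num)
  by_cases hq2 : q = 2
  · subst hq2
    by_contra hne
    haveI : Fact (Nat.Prime 2) := ⟨Nat.prime_two⟩
    have hne' := LocalStructure.inf_centralizer_ne_bot (isPGroup_coreP 2 N) hne hWc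
      (hWN.trans hnorm)
    obtain ⟨x, hx, hx1⟩ := (Subgroup.ne_bot_iff_exists_ne_one.mp hne') |>
      fun ⟨w, hw⟩ => (⟨w.1, w.2, fun h => hw (Subtype.ext h)⟩ :
        ∃ w, w ∈ (K ⊓ centralizer (W : Set G) : Subgroup G) ∧ w ≠ 1)
    exact hx1 (mem_bot.1 (hfix t htW (ne_one_of_order hyp.orderT)
      ⟨hx.1, mem_centralizer_singleton_iff.2 (mem_centralizer_iff.1 hx.2 t htW).symm⟩))
  · refine (Coprime.eq_of_forall_centralizer_le (K := K) (S := ⊥) IsKleinFour.not_isCyclic
      (hWN.trans hnorm) ?_ bot_le hfix).symm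
    obtain ⟨k, hk⟩ := IsPGroup.iff_card.mp (isPGroup_coreP q N)
    rw [IsKleinFour.card_four, hK, hk, show (4 : ℕ) = 2 ^ 2 by norm_num]
    exact ((Nat.coprime_primes Nat.prime_two hq).2 (Ne.symm hq2)).pow 2 k

/-- In that situation `F*(N) = F(N)` forces `M = N`. -/
theorem eq_of_leadsTo_four (hyp : Hyp S t) {M N : Subgroup G} (hM : IsCoatom M) (hN : IsCoatom N)
    (hCM : Cent t ≤ M) (hMN : Cfsg.leadsTo M N)
    {p r : ℕ} [Fact p.Prime] [Fact r.Prime] (hpr : p ≠ r)
    (hpd : p ∣ Nat.card ↥(fittingSubgroup ↥M)) (hrd : r ∣ Nat.card ↥(fittingSubgroup ↥M))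
    {W : Subgroup G} [IsKleinFour W] (htW : t ∈ W) (hWN : W ≤ N)
    (htrans : ∀ w ∈ W, w ≠ 1 → ∃ h ∈ N, h * t * h⁻¹ = w)
    (hNF : generalizedFittingSubgroup ↥N = fittingSubgroup ↥N) : M = N := by
  haveI := hyp.simple
  exact eq_of_leadsTo_of_fitOf_le hyp.not_comm hM hN hMN hpr hpd hrd hNF
    (fitOf_le_of_leadsTo hyp hM hCM hMN hpr hpd hrd htW hWN htrans)

end Cfsg.Agent.GW
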