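import Cfsg.Agent.Lib.GW.KType
import Cfsg.Agent.Lib.Qd.Section
import Cfsg.Agent.Lib.PSL2.Sylow
import Cfsg.Agent.Lib.ZJControl.Basic
import Cfsg.Agent.S3081

/-!
# ZJ control in groups with cyclic or dihedral Sylow 2-subgroups

* `not_sl2_image`, `not_sl2_section`, `not_involves_qd`: no `SL₂(p)` or `Qd(p)` section for odd `p`.
* `zjA_controls`, `zjOmega_controls`: strong fusion control by the normalisers of `Z(J(P))`,
  `Ω₁(Z(J_e(P)))`.
* `le_normalizer_of_controls`: then every `p`-subgroup containing `Z(J(P))` normalises it.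
-/

set_option autoImplicit false
set_option linter.style.haveILetI false

namespace Cfsg.Agent.GW

open Subgroup
open scoped MatrixGroups

universe u v

variable {X : Type u} [Group X] [Finite X]

/-- No subgroup maps onto `SL(2, F)`, `F` of odd characteristic. -/
theorem not_sl2_image (hd : SubDihedral X) {F : Type v} [Field F] [Fintype F] (h2 : (2 : F) ≠ 0)
    (K : Subgroup X) (f : K →* SL(2, F)) (hf : Function.Surjective f) : False := by
  haveI : Fact (Nat.Prime 2) := ⟨Nat.prime_two⟩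
  obtain ⟨S⟩ := (inferInstance : Nonempty (Sylow 2 K))
  set T := S.mapSurjective hf with hT
  have hcomm : ∀ x ∈ (T : Subgroup SL(2, F)), ∀ y ∈ (T : Subgroup SL(2, F)), x * y = y * x := by
    rw [hT, Sylow.coe_mapSurjective]
    rintro _ ⟨a, ha, rfl⟩ _ ⟨b, hb, rfl⟩
    rcases hd.subgroup K S with hc | ⟨n, hn, ⟨e⟩⟩
    · haveI := hc
      obtain ⟨g, hg⟩ := IsCyclic.exists_generator (α := (S : Subgroup K))
      obtain ⟨i, hi⟩ := mem_zpowers_iff.mp (hg ⟨a, ha⟩)
      obtain ⟨j, hj⟩ := mem_zpowers_iff.mp (hg ⟨b, hb⟩)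
      rw [show a = (g : K) ^ i from (congrArg Subtype.val hi).symm,
        show b = (g : K) ^ j from (congrArg Subtype.val hj).symm, ← map_mul, ← map_mul,
        (Commute.zpow_zpow (Commute.refl (g : K)) i j).eq]
    · let ψ : DihedralGroup n →* SL(2, F) :=
        f.comp ((S : Subgroup K).subtype.comp e.symm.toMonoidHom)
      -- reflections go to `±1`
      have hcen : ∀ d, ψ d ∈ center SL(2, F) := by
        have hsr : ∀ i, ψ (.sr i) ∈ center SL(2, F) := fun i =>
          PSL2.mem_center_iff_pm.mpr (PSL2.eq_pm_of_mul_self_eq_one h2 (by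
            rw [← map_mul, DihedralGroup.sr_mul_self, map_one]))
        rintro (i | i)
        · have e1 : DihedralGroup.r i = DihedralGroup.sr 0 * DihedralGroup.sr i := by simp
          rw [e1, map_mul]
          exact mul_mem (hsr _) (hsr _)
        · exact hsr i
      have h1 : f a = ψ (e ⟨a, ha⟩) := by simp [ψ]
      rw [h1]
      exact (mem_center_iff.mp (hcen _) _).symm
  obtain ⟨k, hk, -, ⟨e⟩⟩ := PSL2.sylow_two_quaternion h2 T
  have h := congrArg e (Subtype.ext (hcomm _ (e.symm (QuaternionGroup.a 1)).2 _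
    (e.symm (QuaternionGroup.xa 0)).2) :
      e.symm (QuaternionGroup.a 1) * e.symm (QuaternionGroup.xa 0) =
        e.symm (QuaternionGroup.xa 0) * e.symm (QuaternionGroup.a 1))
  simp only [map_mul, MulEquiv.apply_symm_apply, QuaternionGroup.a_mul_xa, QuaternionGroup.xa_mul_a,
    QuaternionGroup.xa.injEq, zero_sub, zero_add] at h
  have h2' : ((2 : ℕ) : ZMod (2 * 2 ^ k)) = 0 := by
    push_cast
    linear_combination -h
  rw [ZMod.natCast_eq_zero_iff] at h2'
  have h4 := Nat.le_of_dvd two_pos h2'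
  have : 2 ≤ 2 ^ k := Nat.le_self_pow (by omega) 2
  omega

theorem two_ne_zero_zmod {p : ℕ} [Fact p.Prime] (hp : p ≠ 2) : (2 : ZMod p) ≠ 0 := by
  intro h
  have h' : ((2 : ℕ) : ZMod p) = 0 := by exact_mod_cast h
  rw [ZMod.natCast_eq_zero_iff] at h'
  exact hp ((Nat.prime_dvd_prime_iff_eq Fact.out Nat.prime_two).mp h')

/-- No section is isomorphic to `SL₂(p)`, `p` odd (the hypothesis of S0118). -/
theorem not_sl2_section (hd : SubDihedral X) {p : ℕ} [Fact p.Prime] (hp : p ≠ 2) :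
    ¬ ∃ (H K : Subgroup X) (_ : (K.subgroupOf H).Normal),
      Nonempty ((H ⧸ K.subgroupOf H) ≃* Matrix.SpecialLinearGroup (Fin 2) (ZMod p)) := by
  rintro ⟨H, K, hK, ⟨e⟩⟩
  exact not_sl2_image hd (two_ne_zero_zmod hp) H
    (e.toMonoidHom.comp (QuotientGroup.mk' _)) (e.surjective.comp (QuotientGroup.mk'_surjective _))

theorem qdLin_injective {p : ℕ} : Function.Injective (Qd.qdLin (p := p)) := by
  intro M N h
  have h' : ((Qd.qdLin M).1 : Matrix (Fin 3) (Fin 3) (ZMod p)) = (Qd.qdLin N).1 := by rw [h]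
  rw [Qd.qdLin_val, Qd.qdLin_val] at h'
  apply Subtype.ext
  ext i j
  fin_cases i <;> fin_cases j
  · simpa using congrFun (congrFun h' 0) 0
  · simpa using congrFun (congrFun h' 0) 1
  · simpa using congrFun (congrFun h' 1) 0
  · simpa using congrFun (congrFun h' 1) 1

/-- `Qd(p)` is not involved, `p` odd. -/
theorem not_involves_qd (hd : SubDihedral X) {p : ℕ} [Fact p.Prime] (hp : p ≠ 2) :
    ¬ Cfsg.Involves ↥(Cfsg.qd p) X := by
  rintro ⟨K, R, hR, ⟨e⟩⟩
  let π : K →* ↥(Cfsg.qd p) := e.toMonoidHom.comp (QuotientGroup.mk' _)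
  have hπ : Function.Surjective π := e.surjective.comp (QuotientGroup.mk'_surjective _)
  set L := (Qd.qdLin (p := p)).range with hL
  let eL : SL(2, ZMod p) ≃* L := MonoidHom.ofInjective qdLin_injective
  let K' : Subgroup K := L.comap π
  let f : K' →* L := (π.comp K'.subtype).codRestrict L fun x => x.2
  have hf : Function.Surjective f := by
    rintro ⟨y, hy⟩
    obtain ⟨x, rfl⟩ := hπ y
    exact ⟨⟨x, hy⟩, rfl⟩
  exact not_sl2_image (hd.subgroup K) (two_ne_zero_zmod hp) K' (eL.symm.toMonoidHom.comp f)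
    (eL.symm.surjective.comp hf)

omit [Finite X] in
theorem isStronglyClosed_sylow {p : ℕ} (P : Sylow p X) :
    Cfsg.IsStronglyClosed (P : Subgroup X) (P : Subgroup X) :=
  ⟨le_rfl, fun _ _ _ h => h⟩

/-- `N(Z(J(P)))` controls strong fusion in `P`. -/
theorem zjA_controls (hd : SubDihedral X) {p : ℕ} [Fact p.Prime] (hp : p ≠ 2) (P : Sylow p X)
    {A : Set X} (hA : A ⊆ (P : Subgroup X)) :
    Cfsg.ControlsStrongFusionOf
      (normalizer (Cfsg.centerThompsonAOf (P : Subgroup X) : Set X)) (P : Subgroup X) A :=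
  (S3081.result hp P _ (isStronglyClosed_sylow P) (not_involves_qd hd hp)).1 A hA

/-- `N(Ω₁(Z(J_e(P))))` controls strong fusion in `P`. -/
theorem zjOmega_controls (hd : SubDihedral X) {p : ℕ} [Fact p.Prime] (hp : p ≠ 2) (P : Sylow p X)
    {A : Set X} (hA : A ⊆ (P : Subgroup X)) :
    Cfsg.ControlsStrongFusionOf
      (normalizer (Cfsg.omegaOne p (Cfsg.centerThompsonOf p (P : Subgroup X)) : Set X))
      (P : Subgroup X) A :=
  (S3081.result hp P _ (isStronglyClosed_sylow P) (not_involves_qd hd hp)).2 A hA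

/-- If `N(W)` controls strong fusion in the Sylow subgroup `P` and `P` normalises `W`, every
`p`-subgroup containing `W` normalises it. -/
theorem le_normalizer_of_controls {p : ℕ} [Fact p.Prime] (P : Sylow p X) {W : Subgroup X}
    (hPW : (P : Subgroup X) ≤ normalizer (W : Set X))
    (hc : ∀ A : Set X, A ⊆ (P : Subgroup X) →
      Cfsg.ControlsStrongFusionOf (normalizer (W : Set X)) (P : Subgroup X) A)
    {Q : Subgroup X} (hQ : IsPGroup p Q) (hWQ : W ≤ Q) : Q ≤ normalizer (W : Set X) := by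
  set H := normalizer (W : Set X) with hH
  by_contra hnot
  haveI := hQ.isNilpotent
  set Q₁ := Q ⊓ H with hQ₁
  have hlt : Q₁.subgroupOf Q < ⊤ := by
    rw [lt_top_iff_ne_top, Ne, subgroupOf_eq_top]
    exact fun h => hnot (h.trans inf_le_right)
  obtain ⟨y, hy, hy'⟩ := SetLike.exists_of_lt (Group.normalizerCondition_of_isNilpotent _ hlt)
  have hWQ₁ : W ≤ Q₁ := le_inf hWQ le_normalizer
  have hyQ₁ : ∀ z ∈ Q₁, (y : X) * z * (y : X)⁻¹ ∈ Q₁ := fun z hz =>
    ((mem_normalizer_iff.mp hy) ⟨z, (inf_le_left : Q₁ ≤ Q) hz⟩).mp hz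
  have hyH : (y : X) ∉ H := fun h => hy' (show (y : X) ∈ Q₁ from ⟨y.2, h⟩)
  -- move `Q₁` into `P` inside `H`
  obtain ⟨R, hR⟩ := ((hQ.to_le inf_le_left).comap_subtype (K := H) (H := Q₁)).exists_le_sylow
  obtain ⟨h, hh⟩ := MulAction.exists_smul_eq H R (P.subtype hPW)
  have hin : ∀ z ∈ Q₁, (h : X) * z * (h : X)⁻¹ ∈ (P : Subgroup X) := by
    intro z hz
    have h1 : (h : H) * ⟨z, hz.2⟩ * h⁻¹ ∈ ((h • R : Sylow p H) : Subgroup H) :=
      smul_mem_pointwise_smul _ (MulAut.conj h) _ (hR (x := ⟨z, hz.2⟩) hz)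
    rw [hh, Sylow.coe_subtype, mem_subgroupOf] at h1
    simpa using h1
  set A : Set X := (fun z => (h : X) * z * (h : X)⁻¹) '' Q₁ with hA
  have hAP : A ⊆ (P : Subgroup X) := by
    rintro _ ⟨z, hz, rfl⟩
    exact hin z hz
  set w := (h : X) * y * (h : X)⁻¹ with hw
  obtain ⟨-, hctrl⟩ := hc A hAP
  obtain ⟨n, hn, hnA⟩ := hctrl w (by
    rintro _ ⟨_, ⟨z, hz, rfl⟩, rfl⟩
    show w * ((h : X) * z * (h : X)⁻¹) * w⁻¹ ∈ (P : Subgroup X)
    rw [show w * ((h : X) * z * (h : X)⁻¹) * w⁻¹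
      = (h : X) * ((y : X) * z * (y : X)⁻¹) * (h : X)⁻¹ by rw [hw]; group]
    exact hin _ (hyQ₁ z hz))
  -- `n⁻¹ w` centralises `W`
  have hcen : n⁻¹ * w ∈ H := by
    refine centralizer_le_normalizer _ (mem_centralizer_iff.mpr fun a ha => ?_)
    have haA : a ∈ A := by
      refine ⟨(h : X)⁻¹ * a * (h : X), hWQ₁ ?_, by group⟩
      have := (mem_normalizer_iff.mp (inv_mem h.2) a).mp ha
      simpa using this
    have h1 := hnA a haA
    calc a * (n⁻¹ * w) = n⁻¹ * (n * a * n⁻¹) * w := by group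
      _ = n⁻¹ * (w * a * w⁻¹) * w := by rw [h1]
      _ = n⁻¹ * w * a := by group
  have hwH : w ∈ H := by
    have := mul_mem hn hcen
    rwa [mul_inv_cancel_left] at this
  apply hyH
  have := mul_mem (mul_mem (inv_mem h.2) hwH) h.2
  rw [hw] at this
  convert this using 1
  group

/-- Every `p`-subgroup containing `Z(J(P))` normalises it. -/
theorem le_normalizer_zjA (hd : SubDihedral X) {p : ℕ} [Fact p.Prime] (hp : p ≠ 2) (P : Sylow p X)
    {Q : Subgroup X} (hQ : IsPGroup p Q) (hWQ : Cfsg.centerThompsonAOf (P : Subgroup X) ≤ Q) :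
    Q ≤ normalizer (Cfsg.centerThompsonAOf (P : Subgroup X) : Set X) :=
  le_normalizer_of_controls P
    ((ZJControl.isZJLike_A hp).sylow_le_normalizer (isStronglyClosed_sylow P))
    (fun _ hA => zjA_controls hd hp P hA) hQ hWQ

/-- Every `p`-subgroup containing `O_p(N(Z(J(P))))` lies in `N(Z(J(P)))`. -/
theorem le_normalizer_zjA_of_pCore_le (hd : SubDihedral X) {p : ℕ} [Fact p.Prime] (hp : p ≠ 2)
    (P : Sylow p X) {Q : Subgroup X} (hQ : IsPGroup p Q)
    (hXQ : (Cfsg.pCore p ↥(normalizer (Cfsg.centerThompsonAOf (P : Subgroup X) : Set X))).map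
      (normalizer (Cfsg.centerThompsonAOf (P : Subgroup X) : Set X)).subtype ≤ Q) :
    Q ≤ normalizer (Cfsg.centerThompsonAOf (P : Subgroup X) : Set X) := by
  refine le_normalizer_zjA hd hp P hQ (le_trans ?_ hXQ)
  set W := Cfsg.centerThompsonAOf (P : Subgroup X) with hW
  set H := normalizer (W : Set X)
  intro w hw
  haveI : (W.subgroupOf H).Normal := normal_subgroupOf_of_le_normalizer (le_refl _)
  exact ⟨⟨w, le_normalizer hw⟩, PCore.le_pCore (N := W.subgroupOf H)
    ((P.2.to_le ((ZJControl.isZJLike_A hp).le X (P : Subgroup X))).comap_subtype) hw, rfl⟩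

end Cfsg.Agent.GW
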