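import Cfsg.Agent.Lib.GW.Basic
import Cfsg.Agent.Lib.GW.ZJ
import Cfsg.Agent.Lib.Coprime.Generation
import Cfsg.Agent.Lib.Coprime.Sylow

/-!
# An invariant Sylow subgroup of `O(C(t))`: Sylow of the group, or a local subgroup without 2-complement

For an odd prime `l` and an `S`-invariant Sylow `l`-subgroup `P₀` of `oCore t` (`P₀ ≠ 1`), either
some Sylow `l`-subgroup `P` of `G` lies in `oCore t` above `P₀`, is normalised by `S` and
`N(Z(J(P)))` has a normal 2-complement, or there is a proper subgroup `H` containing `S` and `P₀`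
with `O_l(H) ≠ 1` and no normal 2-complement.
-/

set_option autoImplicit false
set_option linter.style.haveILetI false

namespace Cfsg.Agent.GW

open Subgroup
open BSW (sq_of_order inv_of_order ne_one_of_order order_of_sq mem_cent)
open scoped Pointwise

universe u

variable {G : Type u} [Group G] [Finite G] {S : Sylow 2 G} {t : G}

omit [Finite G] in
/-- An element of odd order conjugating `y` of odd order to its inverse forces `y = 1`. -/
theorem eq_one_of_odd_inverting {g y : G} (hg : Odd (orderOf g)) (hy : Odd (orderOf y))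
    (h : g * y * g⁻¹ = y⁻¹) : y = 1 := by
  obtain ⟨k, hk⟩ := hg
  have h2 : g ^ 2 * y * (g ^ 2)⁻¹ = y := by
    calc g ^ 2 * y * (g ^ 2)⁻¹ = g * (g * y * g⁻¹) * g⁻¹ := by rw [pow_two]; group
      _ = g * y⁻¹ * g⁻¹ := by rw [h]
      _ = (g * y * g⁻¹)⁻¹ := by group
      _ = y := by rw [h, inv_inv]
  have hc : Commute (g ^ 2) y := mul_inv_eq_iff_eq_mul.mp h2
  have hg2 : g = (g ^ 2) ^ (k + 1) := by
    rw [← pow_mul, show 2 * (k + 1) = (2 * k + 1) + 1 by ring, pow_succ, ← hk, pow_orderOf_eq_one,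
      one_mul]
  have hgy : Commute g y := hg2 ▸ hc.pow_left _
  rw [hgy.eq, mul_inv_cancel_right] at h
  obtain ⟨j, hj⟩ := hy
  have hy2 : y ^ 2 = 1 := by
    rw [pow_two]
    nth_rewrite 2 [h]
    exact mul_inv_cancel y
  have := pow_orderOf_eq_one y
  rwa [hj, pow_succ, pow_mul, hy2, one_pow, one_mul] at this

/-- In a group `M ≥ S` with a normal 2-complement, an element inverted by `t` that is `M`-conjugate
to an element centralised by `t` is trivial. -/
theorem eq_one_of_complement (hyp : Hyp S t) {M : Subgroup G} (hSM : (S : Subgroup G) ≤ M)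
    (hM : Cfsg.HasNormalPComplement 2 M) {y y₁ m : G} (hm : m ∈ M)
    (hy : Odd (orderOf y)) (hconj : m * y * m⁻¹ = y₁) (h₁ : Commute t y₁)
    (hinv : t * y * t⁻¹ = y⁻¹) : y = 1 := by
  haveI : Fact (Nat.Prime 2) := ⟨Nat.prime_two⟩
  obtain ⟨K, hK, hc⟩ := (Transfer.hasNormalPComplement_iff_exists (S.subtype hSM)).mp hM
  haveI := hK
  set t₀ : M := ⟨t, hSM hyp.memS⟩ with ht₀
  set g₀ : M := ⟨m, hm⟩ with hg₀
  set q := QuotientGroup.mk' K with hq
  -- the image of `t` is central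
  have hcen : ∀ x : M, q x * q t₀ = q t₀ * q x := by
    intro x
    obtain ⟨⟨⟨s, hs⟩, ⟨k, hk⟩⟩, hsk, -⟩ :=
      ((Subgroup.isComplement'_def.mp hc.symm).existsUnique x)
    have hx : q x = q s := by
      rw [← hsk]
      show q (s * k) = q s
      rw [map_mul, show q k = 1 from (QuotientGroup.eq_one_iff k).mpr hk, mul_one]
    rw [hx, ← map_mul, ← map_mul]
    congr 1
    exact Subtype.ext (hyp.centralS s (by simpa [mem_subgroupOf] using hs))
  set g : M := t₀ * (g₀⁻¹ * t₀ * g₀) with hg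
  have hgK : g ∈ K := by
    rw [← QuotientGroup.ker_mk' K, MonoidHom.mem_ker, ← hq, hg, map_mul, map_mul, map_mul,
      mul_assoc (q g₀⁻¹), ← hcen g₀, ← mul_assoc (q g₀⁻¹), ← map_mul q g₀⁻¹ g₀, inv_mul_cancel,
      map_one, one_mul, ← map_mul, ← map_one q]
    congr 1
    exact Subtype.ext (sq_of_order hyp.orderT)
  have hgo : Odd (orderOf (g : G)) := by
    rw [Subgroup.orderOf_coe]
    refine (Nat.coprime_two_right.mp (Transfer.coprime_card_of_isComplement'_sylow _ hc)).of_dvd_nat ?_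
    exact Subgroup.orderOf_dvd_natCard K hgK
  refine eq_one_of_odd_inverting hgo hy ?_
  have h2 : (m⁻¹ * t * m) * y * (m⁻¹ * t * m)⁻¹ = y := by
    calc (m⁻¹ * t * m) * y * (m⁻¹ * t * m)⁻¹ = m⁻¹ * (t * (m * y * m⁻¹) * t⁻¹) * m := by group
      _ = m⁻¹ * y₁ * m := by rw [hconj, h₁.eq, mul_inv_cancel_right]
      _ = y := by rw [← hconj]; group
  calc (g : G) * y * (g : G)⁻¹ = t * ((m⁻¹ * t * m) * y * (m⁻¹ * t * m)⁻¹) * t⁻¹ := by
        simp only [hg, ht₀, hg₀, Subgroup.coe_mul, InvMemClass.coe_inv, mul_inv_rev, mul_assoc]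
    _ = y⁻¹ := by rw [h2, hinv]

/-- An `S`-invariant Sylow subgroup of `oCore t`. -/
theorem exists_invariant_sylow_oCore (hyp : Hyp S t) (l : ℕ) [Fact l.Prime] :
    ∃ R₀ : Sylow l (oCore t),
      (S : Subgroup G) ≤ normalizer (((R₀ : Subgroup (oCore t)).map (oCore t).subtype : Subgroup G) : Set G) := by
  haveI : Fact (Nat.Prime 2) := ⟨Nat.prime_two⟩
  haveI := S.2.isNilpotent
  obtain ⟨k, hk⟩ := IsPGroup.iff_card.mp S.2
  exact Coprime.exists_invariant_sylow (hyp.sylow_le_cent.trans (Hyp.cent_le_normalizer t))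
    (hk ▸ (Nat.coprime_two_left.mpr (hyp.odd_oCore t)).pow_left k) (Or.inl inferInstance) l

theorem ne_top_of_normalizes (hyp : Hyp S t) {l : ℕ} [Fact l.Prime] (hl : l ≠ 2) {W : Subgroup G}
    (hW : IsPGroup l W) (hW1 : W ≠ ⊥) : normalizer (W : Set G) ≠ ⊤ := by
  intro h
  haveI := hyp.simple
  haveI hn : W.Normal := normalizer_eq_top_iff.mp h
  rcases hn.eq_bot_or_eq_top with h1 | h1
  · exact hW1 h1
  · subst h1
    obtain ⟨j, hj⟩ := hW ⟨t, mem_top t⟩
    have h2 : orderOf t ∣ l ^ j :=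
      orderOf_dvd_of_pow_eq_one (by have := congrArg Subtype.val hj; simpa using this)
    rw [hyp.orderT] at h2
    exact hl ((Nat.prime_dvd_prime_iff_eq Nat.prime_two Fact.out).mp
      (Nat.prime_two.dvd_of_dvd_pow h2)).symm

omit [Finite G] in
theorem pCore_normalizer_ne_bot {l : ℕ} {W : Subgroup G} (hW : IsPGroup l W) (hW1 : W ≠ ⊥) :
    Cfsg.pCore l ↥(normalizer (W : Set G)) ≠ ⊥ := by
  intro h
  haveI : (W.subgroupOf (normalizer (W : Set G))).Normal :=
    normal_subgroupOf_of_le_normalizer (le_refl _)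
  have h1 : W.subgroupOf (normalizer (W : Set G)) ≤ ⊥ :=
    h ▸ PCore.le_pCore (hW.comap_subtype)
  rw [le_bot_iff, subgroupOf_eq_bot, disjoint_iff, inf_eq_left.mpr le_normalizer] at h1
  exact hW1 h1

/-- **The dichotomy** at an odd prime `l` dividing `|O(C(t))|`. -/
theorem dichotomy (hyp : Hyp S t) {l : ℕ} [Fact l.Prime] (hl : l ≠ 2) (R₀ : Sylow l (oCore t))
    (hR₀ : (S : Subgroup G) ≤
      normalizer (((R₀ : Subgroup (oCore t)).map (oCore t).subtype : Subgroup G) : Set G))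
    (hdvd : l ∣ Nat.card (oCore t)) :
    (∃ P : Sylow l G, (P : Subgroup G) ≤ oCore t ∧
      (R₀ : Subgroup (oCore t)).map (oCore t).subtype ≤ (P : Subgroup G) ∧
      (S : Subgroup G) ≤ normalizer ((P : Subgroup G) : Set G) ∧
      Cfsg.HasNormalPComplement 2
        ↥(normalizer (Cfsg.centerThompsonAOf (P : Subgroup G) : Set G))) ∨
    ∃ H : Subgroup G, H ≠ ⊤ ∧ (S : Subgroup G) ≤ H ∧
      (R₀ : Subgroup (oCore t)).map (oCore t).subtype ≤ H ∧ Cfsg.pCore l ↥H ≠ ⊥ ∧
      ¬ Cfsg.HasNormalPComplement 2 ↥H := by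
  classical
  haveI : Fact (Nat.Prime 2) := ⟨Nat.prime_two⟩
  have hl' : l.Prime := Fact.out
  set P₀ := (R₀ : Subgroup (oCore t)).map (oCore t).subtype with hP₀
  have hP₀1 : P₀ ≠ ⊥ := by
    rw [hP₀, Ne, map_eq_bot_iff_of_injective _ (oCore t).subtype_injective]
    exact R₀.ne_bot_of_dvd_card hdvd
  obtain ⟨R, hR⟩ := Set.Finite.exists_maximal
    (s := {R : Subgroup G | IsPGroup l R ∧ P₀ ≤ R ∧ (S : Subgroup G) ≤ normalizer (R : Set G)})
    (Set.toFinite _) ⟨P₀, R₀.2.map _, le_rfl, hR₀⟩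
  obtain ⟨⟨hRl, hP₀R, hRS⟩, hmax⟩ := hR
  have hR1 : R ≠ ⊥ := fun h => hP₀1 (le_bot_iff.mp (h ▸ hP₀R))
  set N := normalizer (R : Set G) with hN
  by_cases hNc : Cfsg.HasNormalPComplement 2 N
  swap
  · exact Or.inr ⟨N, ne_top_of_normalizes hyp hl hRl hR1, hRS, hP₀R.trans le_normalizer,
      pCore_normalizer_ne_bot hRl hR1, hNc⟩
  -- `R` is a Sylow subgroup of `G`
  set K := (Cfsg.pResidual 2 N).map N.subtype with hK
  have hKN : K ≤ N := map_subtype_le _
  have hKodd : Odd (Nat.card K) := by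
    rw [hK, card_map_of_injective N.subtype_injective, ← Nat.not_even_iff_odd, even_iff_two_dvd]
    exact Transfer.hasNormalPComplement_iff.mp hNc
  have hmemK : ∀ x ∈ N, Odd (orderOf x) → x ∈ K := fun x hx ho =>
    ⟨⟨x, hx⟩, (Transfer.mem_pResidual_iff hNc _).mpr
      (by rw [orderOf_mk]; exact Nat.coprime_two_right.mpr ho), rfl⟩
  have hSK : (S : Subgroup G) ≤ normalizer (K : Set G) := by
    haveI := Transfer.pResidual_normal (G := N) 2
    refine hRS.trans ((normal_subgroupOf_iff_le_normalizer hKN).1 ?_)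
    rw [hK, show ((Cfsg.pResidual 2 N).map N.subtype).subgroupOf N = Cfsg.pResidual 2 N from
      comap_map_eq_self_of_injective N.subtype_injective _]
    infer_instance
  have hodd_l : ∀ {x : G}, (∃ j, x ^ l ^ j = 1) → Odd (orderOf x) := by
    rintro x ⟨j, hj⟩
    exact (hl'.odd_of_ne_two hl).pow.of_dvd_nat (orderOf_dvd_of_pow_eq_one hj)
  have hpow : ∀ {Q : Subgroup G}, IsPGroup l Q → ∀ x ∈ Q, ∃ j, x ^ l ^ j = 1 := by
    intro Q hQ x hx
    obtain ⟨j, hj⟩ := hQ ⟨x, hx⟩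
    exact ⟨j, by simpa using congrArg Subtype.val hj⟩
  have hRK : R ≤ K := fun x hx => hmemK x (le_normalizer hx) (hodd_l (hpow hRl x hx))
  obtain ⟨T, hRT, hTS⟩ := Coprime.exists_invariant_sylow_ge hSK (by
      obtain ⟨k, hk⟩ := IsPGroup.iff_card.mp S.2
      exact hk ▸ (Nat.coprime_two_left.mpr hKodd).pow_left k)
    (Or.inl (haveI := S.2.isNilpotent; inferInstance)) hRK hRl hRS
  have hTR : (T : Subgroup K).map K.subtype ≤ R :=
    hmax ⟨T.2.map _, hP₀R.trans hRT, hTS⟩ hRT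
  obtain ⟨P, hP⟩ := hRl.exists_le_sylow
  have hPR : (P : Subgroup G) = R := by
    by_contra hne
    have hlt : R.subgroupOf (P : Subgroup G) < ⊤ := by
      rw [lt_top_iff_ne_top, Ne, subgroupOf_eq_top]
      exact fun h => hne (le_antisymm h hP)
    haveI := P.2.isNilpotent
    obtain ⟨x, hx, hx'⟩ := SetLike.exists_of_lt (Group.normalizerCondition_of_isNilpotent _ hlt)
    have hxN : (x : G) ∈ N := by
      rw [hN, mem_normalizer_iff_map_conj_eq]
      refine eq_of_le_of_card_ge ?_ (le_of_eq (card_map_of_injective (MulAut.conj (x : G)).injective).symm)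
      rintro _ ⟨r, hr, rfl⟩
      exact ((mem_normalizer_iff.mp hx) ⟨r, hP hr⟩).mp hr
    have hxK : (x : G) ∈ K := hmemK _ hxN (hodd_l (hpow P.2 _ x.2))
    have hTP : IsPGroup l ↥(R ⊔ zpowers (x : G)) :=
      P.2.to_le (sup_le hP (zpowers_le.mpr x.2))
    have h3 := T.3 (hTP.comap_subtype (K := K)) (fun z hz => mem_sup_left (hTR ⟨z, hz, rfl⟩))
    have h4 : (⟨(x : G), hxK⟩ : K) ∈ (T : Subgroup K) :=
      h3 ▸ (mem_subgroupOf.mpr (mem_sup_right (mem_zpowers (x : G))))
    exact hx' (hTR ⟨_, h4, rfl⟩)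
  subst hPR
  set W := Cfsg.centerThompsonAOf (P : Subgroup G) with hW
  set M := normalizer (W : Set G) with hM
  have hW1 : W ≠ ⊥ := (ZJControl.isZJLike_A hl).ne_bot G (P : Subgroup G) P.2 hR1
  have hWl : IsPGroup l W := P.2.to_le ((ZJControl.isZJLike_A hl).le G (P : Subgroup G))
  have hNM : N ≤ M := (ZJControl.isZJLike_A hl).normalizer_le (P : Subgroup G)
  by_cases hMc : Cfsg.HasNormalPComplement 2 M
  swap
  · exact Or.inr ⟨M, ne_top_of_normalizes hyp hl hWl hW1, hRS.trans hNM,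
      hP₀R.trans (le_normalizer.trans hNM), pCore_normalizer_ne_bot hWl hW1, hMc⟩
  refine Or.inl ⟨P, ?_, hP₀R, hRS, hMc⟩
  obtain ⟨n, hn, ⟨e⟩⟩ := hyp.dihedral
  have hd : SubDihedral G := subDihedral_of_sylow S hn e
  -- `t` centralises the fixed points of the other involutions of `S`
  have key : ∀ u ∈ (S : Subgroup G), orderOf u = 2 →
      (P : Subgroup G) ⊓ Cent u ≤ Cent t := by
    intro u hu hu2 a ha
    have htu : t * u = u * t := (hyp.centralS u hu).symm
    set z := a⁻¹ * (t * a * t⁻¹) with hz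
    have hconjA : t * a * t⁻¹ ∈ (P : Subgroup G) ⊓ Cent u := by
      refine ⟨(mem_normalizer_iff.mp (hRS hyp.memS) a).mp ha.1, mem_cent.2 ?_⟩
      have h1 : Commute a u := mem_cent.1 ha.2
      exact (((show Commute t u from htu).mul_left h1).mul_left
        (show Commute t u from htu).inv_left).eq
    have hzA : z ∈ (P : Subgroup G) ⊓ Cent u := mul_mem (inv_mem ha) hconjA
    have hzinv : t * z * t⁻¹ = z⁻¹ := by
      have h2 : t * t = 1 := sq_of_order hyp.orderT
      calc t * z * t⁻¹ = t * a⁻¹ * t * a * (t * t)⁻¹ := by rw [hz]; group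
        _ = t * a⁻¹ * t⁻¹ * a := by
          rw [h2, inv_one, mul_one, inv_of_order hyp.orderT]
        _ = z⁻¹ := by rw [hz]; group
    have hzo : Odd (orderOf z) := hodd_l (hpow P.2 z hzA.1)
    have hz1 : z = 1 := by
      have hzu : z ∈ oCore u := (hyp.mem_oCore_iff hu2).2 ⟨hzA.2, hzo⟩
      obtain ⟨c, hc⟩ := isConj_iff.1 (hyp.isConj_t hu2)
      have hzt : c * z * c⁻¹ ∈ oCore t := hc ▸ hyp.map_oCore hu2 c hzu
      obtain ⟨T', hT'⟩ := (IsPGroup.to_le (H := zpowers (⟨_, hzt⟩ : oCore t))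
        (K := zpowers (⟨_, hzt⟩ : oCore t)) (by
          obtain ⟨j, hj⟩ := hpow P.2 z hzA.1
          have hd : orderOf (⟨_, hzt⟩ : oCore t) ∣ l ^ j := by
            rw [orderOf_mk, show c * z * c⁻¹ = MulAut.conj c z from rfl, MulEquiv.orderOf_eq]
            exact orderOf_dvd_of_pow_eq_one hj
          obtain ⟨i, -, hi⟩ := (Nat.dvd_prime_pow hl').1 hd
          exact IsPGroup.of_card (n := i) (by rw [Nat.card_zpowers, hi])) le_rfl).exists_le_sylow
      obtain ⟨d, hd'⟩ := MulAction.exists_smul_eq (oCore t) T' R₀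
      set y₁ := (d : G) * (c * z * c⁻¹) * (d : G)⁻¹ with hy₁
      have hy₁P : y₁ ∈ P₀ := by
        refine ⟨d * ⟨_, hzt⟩ * d⁻¹, ?_, rfl⟩
        rw [← hd', Sylow.coe_subgroup_smul]
        exact smul_mem_pointwise_smul _ (MulAut.conj d) _ (hT' (mem_zpowers _))
      obtain ⟨-, hctrl⟩ := zjA_controls hd hl P (A := {z}) (by simpa using hzA.1)
      obtain ⟨m, hm, hma⟩ := hctrl ((d : G) * c) (by
        rintro _ ⟨w, hw, rfl⟩
        rw [Set.mem_singleton_iff] at hw
        subst hw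
        have e' : (d : G) * c * z * ((d : G) * c)⁻¹ = y₁ := by rw [hy₁]; group
        show (d : G) * c * z * ((d : G) * c)⁻¹ ∈ (P : Subgroup G)
        rw [e']
        exact hP₀R hy₁P)
      refine eq_one_of_complement hyp (hRS.trans hNM) hMc hm hzo (y₁ := y₁) ?_ ?_ hzinv
      · rw [← hma z rfl, hy₁]; group
      · exact (mem_cent.1 (Hyp.oCore_le_cent t (map_subtype_le _ hy₁P))).symm
    refine mem_cent.2 ?_
    rw [hz, inv_mul_eq_one] at hz1
    exact (eq_mul_inv_iff_mul_eq.mp hz1)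
  -- generation by the centralisers in a four group
  obtain ⟨g⟩ := hyp.exists_gens
  set u := g.τ with hu
  have hu2 : orderOf u = 2 := g.hτo
  have hne : t ≠ u := fun e' => tau_not_mem g (by rw [← hu, ← e']; exact g.htσ)
  have hp : Pair t u := ⟨hyp.orderT, hu2, (hyp.centralS u g.hτ).symm, hne⟩
  have hA4 : hp.four ≤ (S : Subgroup G) := hp.four_le hyp.memS g.hτ
  haveI : IsMulCommutative hp.four :=
    ⟨⟨fun a b => Subtype.ext (hp.commute_of_mem_four a.2 b.2).eq⟩⟩
  have hcyc : ¬ IsCyclic hp.four := by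
    intro hc
    haveI := hc
    obtain ⟨x, hx⟩ := IsCyclic.exists_generator (α := hp.four)
    have := eq_of_invol_zpowers (σ := (x : G)) (x := t) (y := u) ?_ ?_ hyp.orderT hu2
    · exact hne this
    · obtain ⟨i, hi⟩ := mem_zpowers_iff.mp (hx ⟨t, hp.left_mem⟩)
      exact ⟨i, congrArg Subtype.val hi⟩
    · obtain ⟨i, hi⟩ := mem_zpowers_iff.mp (hx ⟨u, hp.right_mem⟩)
      exact ⟨i, congrArg Subtype.val hi⟩
  have hcop : (Nat.card hp.four).Coprime (Nat.card (P : Subgroup G)) := by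
    obtain ⟨i, hi⟩ := IsPGroup.iff_card.mp hp.isPGroup
    obtain ⟨j, hj⟩ := IsPGroup.iff_card.mp P.2
    rw [hi, hj]
    exact ((Nat.coprime_primes Nat.prime_two hl').mpr (Ne.symm hl)).pow i j
  have hPeq : (P : Subgroup G) ⊓ Cent t = (P : Subgroup G) := by
    refine Coprime.eq_of_forall_centralizer_le hcyc (hA4.trans hRS) hcop inf_le_left fun a ha ha1 => ?_
    refine le_inf inf_le_left ?_
    rcases ha with rfl | rfl | rfl | rfl
    · exact absurd rfl ha1
    · exact inf_le_right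
    · exact key _ g.hτ hu2
    · exact key _ (mul_mem hyp.memS g.hτ) hp.order_mul
  intro x hx
  exact (hyp.mem_oCore_iff hyp.orderT).2
    ⟨(hPeq.ge hx).2, hodd_l (hpow P.2 x hx)⟩

end Cfsg.Agent.GW
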