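import Cfsg.Agent.Lib.GW.Basic
import Cfsg.Agent.S0118
import Cfsg.Agent.Lib.PCore.Basic

/-!
# Fusion of odd p-elements in a group with dihedral Sylow 2-subgroups

No section is `SL_2(p)`, so `Ω₁ Z(J(P))` is weakly closed and its normaliser controls the fusion of
p-elements (Glauberman).
-/

set_option autoImplicit false
set_option linter.style.haveILetI false
set_option linter.unusedSectionVars false
set_option linter.unusedSimpArgs false

namespace Cfsg.Agent.GW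

open Subgroup
open BSW (sq_of_order inv_of_order ne_one_of_order order_of_sq mem_cent)
open scoped Pointwise MatrixGroups

universe u

variable {G : Type u} [Group G] [Finite G] {S : Sylow 2 G} {t : G}

theorem Hyp.sl_two_free (hyp : Hyp S t) {p : ℕ} [Fact p.Prime] (hp : p ≠ 2) :
    ¬ ∃ (H K : Subgroup G) (hK : (K.subgroupOf H).Normal),
      Nonempty ((H ⧸ K.subgroupOf H) ≃* Matrix.SpecialLinearGroup (Fin 2) (ZMod p)) := by
  rintro ⟨H, K, hK, ⟨e⟩⟩
  haveI := hK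
  haveI : Fact (Nat.Prime 2) := ⟨Nat.prime_two⟩
  obtain ⟨a, b, hab⟩ := ZMod.sq_add_sq p (-1)
  let u : Matrix.SpecialLinearGroup (Fin 2) (ZMod p) := ⟨!![0, -1; 1, 0], by simp [Matrix.det_fin_two]⟩
  let v : Matrix.SpecialLinearGroup (Fin 2) (ZMod p) :=
    ⟨!![a, b; b, -a], by rw [Matrix.det_fin_two_of]; linear_combination -hab⟩
  have hmul : ∀ z w : Matrix.SpecialLinearGroup (Fin 2) (ZMod p), (z * w).1 = z.1 * w.1 := fun _ _ => rfl
  have hu : u.1 = !![0, -1; 1, 0] := rfl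
  have hv : v.1 = !![a, b; b, -a] := rfl
  have h1 : (1 : ZMod p) ≠ -1 := fun h => hp ((Nat.prime_dvd_prime_iff_eq Fact.out Nat.prime_two).1
    ((ZMod.natCast_eq_zero_iff 2 p).1 (by push_cast; linear_combination h)))
  have hu2 : u * u ≠ 1 := fun h => h1 (by
    have := congrArg (fun M : Matrix.SpecialLinearGroup (Fin 2) (ZMod p) => M.1 0 0) h
    simp [hmul, hu, hv, Matrix.mul_apply, Fin.sum_univ_two] at this
    linear_combination -this)
  have hv2 : v * v ≠ 1 := fun h => h1 (by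
    have := congrArg (fun M : Matrix.SpecialLinearGroup (Fin 2) (ZMod p) => M.1 0 0) h
    simp [hmul, hu, hv, Matrix.mul_apply, Fin.sum_univ_two] at this
    linear_combination hab - this)
  have hanti : u * v ≠ v * u := by
    intro h
    have h00 := congrArg (fun M : Matrix.SpecialLinearGroup (Fin 2) (ZMod p) => M.1 0 0) h
    have h01 := congrArg (fun M : Matrix.SpecialLinearGroup (Fin 2) (ZMod p) => M.1 0 1) h
    simp [hmul, hu, hv, Matrix.mul_apply, Fin.sum_univ_two] at h00 h01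
    have h2 : (2 : ZMod p) ≠ 0 := fun h2 => h1 (by linear_combination h2)
    have hb0 : b = 0 := (mul_eq_zero.1 (show 2 * b = 0 by linear_combination -h00)).resolve_left h2
    have ha0 : a = 0 := (mul_eq_zero.1 (show 2 * a = 0 by linear_combination h01)).resolve_left h2
    rw [ha0, hb0] at hab
    exact one_ne_zero (show (1 : ZMod p) = 0 by linear_combination hab)
  have hu4 : u ^ 4 = 1 := by
    rw [show (4 : ℕ) = 2 + 2 from rfl, pow_add, pow_two]
    apply Subtype.ext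
    ext i j; fin_cases i <;> fin_cases j <;> simp [hmul, hu, hv, Matrix.mul_apply, Fin.sum_univ_two]
  have hv4 : v ^ 4 = 1 := by
    rw [show (4 : ℕ) = 2 + 2 from rfl, pow_add, pow_two]
    apply Subtype.ext
    ext i j; fin_cases i <;> fin_cases j <;> simp [hmul, hu, hv, Matrix.mul_apply, Fin.sum_univ_two] <;>
      first
      | linear_combination (a * a + b * b - 1) * hab
      | ring
  have hconj : u * v * u = v := by
    apply Subtype.ext
    ext i j; fin_cases i <;> fin_cases j <;> simp [hmul, hu, hv, Matrix.mul_apply, Fin.sum_univ_two]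
  have hpz : ∀ z : Matrix.SpecialLinearGroup (Fin 2) (ZMod p), z ^ 4 = 1 → IsPGroup 2 (zpowers z) := by
    intro z hz x
    obtain ⟨n, hn⟩ := mem_zpowers_iff.1 x.2
    refine ⟨2, Subtype.ext ?_⟩
    rw [SubgroupClass.coe_pow, ← hn, ← zpow_natCast, ← zpow_mul, mul_comm, zpow_mul, zpow_natCast]
    rw [show ((2 : ℕ) ^ 2) = 4 from rfl, hz, one_zpow, Subgroup.coe_one]
  have hnorm : zpowers v ≤ normalizer (zpowers u : Set (Matrix.SpecialLinearGroup (Fin 2) (ZMod p))) := by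
    refine zpowers_le.2 (mem_normalizer_iff_map_conj_eq.2 ?_)
    rw [MonoidHom.map_zpowers]
    have e : MulAut.conj v u = u⁻¹ := by
      show v * u * v⁻¹ = u⁻¹
      rw [mul_inv_eq_iff_eq_mul, eq_inv_mul_iff_mul_eq, ← mul_assoc, hconj]
    show zpowers (MulAut.conj v u) = _
    rw [e, zpowers_inv]
  set Q8 := zpowers u ⊔ zpowers v with hQ8
  have hQp : IsPGroup 2 Q8 := (hpz u hu4).to_sup_of_normal_left' (hpz v hv4) hnorm
  -- lifts in one 2-subgroup of `G`
  set π : H →* Matrix.SpecialLinearGroup (Fin 2) (ZMod p) := e.toMonoidHom.comp (QuotientGroup.mk' (K.subgroupOf H))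
    with hπ
  have hπs : Function.Surjective π := e.surjective.comp (QuotientGroup.mk'_surjective _)
  set H₀ := Q8.comap π
  obtain ⟨R⟩ : Nonempty (Sylow 2 H₀) := inferInstance
  have hsur : ∀ q ∈ Q8, ∃ r : H₀, r ∈ (R : Subgroup H₀) ∧ π r = q := by
    intro q hq
    let ρ : H₀ →* Q8 := (π.comp H₀.subtype).codRestrict Q8 fun x => x.2
    have hρ : Function.Surjective ρ := fun y => by
      obtain ⟨x, hx⟩ := hπs y
      exact ⟨⟨x, by show π x ∈ Q8; rw [hx]; exact y.2⟩, Subtype.ext hx⟩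
    obtain ⟨T, hT⟩ : ∃ T : Sylow 2 Q8, (R : Subgroup H₀).map ρ ≤ T := (R.2.map ρ).exists_le_sylow
    have hTtop : (T : Subgroup Q8) = ⊤ := T.3 (by simpa using hQp.to_subgroup ⊤) le_top |>.symm
    have : (R.mapSurjective hρ : Subgroup Q8) = ⊤ := by
      rw [← hTtop]
      exact ((R.mapSurjective hρ).3 T.2 (by rw [Sylow.coe_mapSurjective]; exact hT)).symm
    rw [Sylow.coe_mapSurjective] at this
    obtain ⟨r, hr, hrq⟩ := this.ge (mem_top (⟨q, hq⟩ : Q8))
    exact ⟨r, hr, congrArg Subtype.val hrq⟩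
  obtain ⟨x, hxR, hx⟩ := hsur u (mem_sup_left (mem_zpowers u))
  obtain ⟨y, hyR, hy⟩ := hsur v (mem_sup_right (mem_zpowers v))
  set R' := ((R : Subgroup H₀).map H₀.subtype).map H.subtype
  have hR' : IsPGroup 2 R' := (R.2.map _).map _
  obtain ⟨T, hT⟩ := hR'.exists_le_sylow
  obtain ⟨c, hc⟩ := MulAction.exists_smul_eq G S T
  obtain ⟨g⟩ := (hyp.conj c).exists_gens
  have rot : ∀ z : H₀, z ∈ (R : Subgroup H₀) → π z * π z ≠ 1 → ((z : H) : G) ∈ zpowers g.σ := by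
    intro z hz hne
    obtain ⟨i, hi | hi⟩ := g.hform ((z : H) : G) (hc ▸ hT ⟨_, ⟨z, hz, rfl⟩, rfl⟩)
    · exact hi ▸ zpow_mem (mem_zpowers _) i
    · refine absurd ?_ hne
      rw [← map_mul, ← map_one π]
      exact congrArg π (Subtype.ext (by push_cast; rw [hi]; exact refl_sq g i))
  obtain ⟨i, hi⟩ := mem_zpowers_iff.1 (rot x hxR (by rwa [hx]))
  obtain ⟨j, hj⟩ := mem_zpowers_iff.1 (rot y hyR (by rwa [hy]))
  refine hanti ?_
  rw [← hx, ← hy, ← map_mul, ← map_mul]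
  refine congrArg π (Subtype.ext ?_)
  push_cast
  rw [← hi, ← hj, ← zpow_add, ← zpow_add, add_comm]

/-- An elementary abelian weakly closed p-subgroup whose normaliser controls the fusion of p-elements. -/
structure Wc (p : ℕ) (A : Subgroup G) : Prop where
  comm : ∀ a ∈ A, ∀ b ∈ A, a * b = b * a
  exp : ∀ a ∈ A, a ^ p = 1
  ne_bot : A ≠ ⊥
  wc : ∀ Q : Subgroup G, IsPGroup p Q → ∀ g : G, A ≤ Q → A.map (MulAut.conj g).toMonoidHom ≤ Q →
    g ∈ normalizer (A : Set G)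
  fus : ∀ x y : G, x ∈ normalizer (A : Set G) → y ∈ normalizer (A : Set G) →
    (∃ k, x ^ p ^ k = 1) → IsConj x y → ∃ n ∈ normalizer (A : Set G), n * x * n⁻¹ = y

namespace Wc

variable {p : ℕ} [Fact p.Prime] {A : Subgroup G}

theorem isPGroup (w : Wc p A) : IsPGroup p A := fun a => ⟨1, Subtype.ext (by simpa using w.exp a a.2)⟩

theorem isMulCommutative (w : Wc p A) : IsMulCommutative A :=
  ⟨⟨fun a b => Subtype.ext (w.comm a a.2 b b.2)⟩⟩

theorem ne_top (w : Wc p A) (hyp : Hyp S t) : A ≠ ⊤ := fun h => hyp.not_comm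
  ⟨⟨fun a b => w.comm a (h ▸ mem_top a) b (h ▸ mem_top b)⟩⟩

theorem normalizer_ne_top (w : Wc p A) (hyp : Hyp S t) : normalizer (A : Set G) ≠ ⊤ := fun h => by
  haveI := hyp.simple
  haveI : A.Normal := normalizer_eq_top_iff.1 h
  exact (Normal.eq_bot_or_eq_top (H := A) inferInstance).elim w.ne_bot (w.ne_top hyp)

/-- The normaliser of a p-subgroup containing `A` normalises `A`. -/
theorem normalizer_le (w : Wc p A) {Q : Subgroup G} (hQ : IsPGroup p Q) (hAQ : A ≤ Q) :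
    normalizer (Q : Set G) ≤ normalizer (A : Set G) := fun g hg => w.wc Q hQ g hAQ (by
  rintro _ ⟨a, ha, rfl⟩
  exact (mem_normalizer_iff.1 hg a).1 (hAQ ha))

theorem le_normalizer (w : Wc p A) {Q : Subgroup G} (hQ : IsPGroup p Q) (hAQ : A ≤ Q) :
    Q ≤ normalizer (A : Set G) := (Subgroup.le_normalizer).trans (w.normalizer_le hQ hAQ)

theorem conj (w : Wc p A) (c : G) : Wc p (A.map (MulAut.conj c).toMonoidHom) := by
  have hmem : ∀ {x : G}, x ∈ A.map (MulAut.conj c).toMonoidHom ↔ c⁻¹ * x * c ∈ A := by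
    intro x
    constructor
    · rintro ⟨a, ha, rfl⟩; simpa [mul_assoc] using ha
    · exact fun h => ⟨_, h, by simp [mul_assoc]⟩
  have hnorm : ∀ {g : G}, g ∈ normalizer (A.map (MulAut.conj c).toMonoidHom : Set G) ↔
      c⁻¹ * g * c ∈ normalizer (A : Set G) := by
    intro g
    simp only [mem_normalizer_iff, hmem]
    constructor
    · intro h a; have := h (c * a * c⁻¹); simpa [mul_assoc] using this
    · intro h x; have := h (c⁻¹ * x * c); simpa [mul_assoc] using this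
  refine ⟨?_, ?_, fun h => w.ne_bot ((map_eq_bot_iff_of_injective A (MulAut.conj c).injective).1 h), ?_, ?_⟩
  · rintro _ ⟨a, ha, rfl⟩ _ ⟨b, hb, rfl⟩
    rw [← map_mul, ← map_mul, w.comm a ha b hb]
  · rintro _ ⟨a, ha, rfl⟩
    rw [← map_pow, w.exp a ha, map_one]
  · intro Q hQ g h1 h2
    rw [hnorm]
    refine w.wc (Q.map (MulAut.conj c⁻¹).toMonoidHom) (hQ.map _) _
      (fun a ha => ⟨c * a * c⁻¹, h1 ⟨a, ha, rfl⟩, by simp [mul_assoc]⟩) ?_
    rintro _ ⟨a, ha, rfl⟩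
    exact ⟨g * (c * a * c⁻¹) * g⁻¹, h2 ⟨c * a * c⁻¹, ⟨a, ha, rfl⟩, rfl⟩, by simp [mul_assoc]⟩
  · intro x y hx hy ⟨k, hk⟩ hxy
    obtain ⟨n, hn, he⟩ := w.fus (c⁻¹ * x * c) (c⁻¹ * y * c) (hnorm.1 hx) (hnorm.1 hy)
      ⟨k, by rw [show c⁻¹ * x * c = c⁻¹ * x * c⁻¹⁻¹ by rw [inv_inv], conj_pow, hk]; simp⟩
      ((isConj_iff.2 ⟨c, by group⟩).trans (hxy.trans (isConj_iff.2 ⟨c⁻¹, by group⟩)))
    refine ⟨c * n * c⁻¹, hnorm.2 (by simpa [mul_assoc] using hn), ?_⟩
    calc c * n * c⁻¹ * x * (c * n * c⁻¹)⁻¹ = c * (n * (c⁻¹ * x * c) * n⁻¹) * c⁻¹ := by group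
      _ = y := by rw [he]; group

end Wc

/-- `Ω₁ Z(J(P))` for a Sylow p-subgroup `P`, `p` odd. -/
theorem Hyp.exists_wc (hyp : Hyp S t) {p : ℕ} [Fact p.Prime] (hp : p ≠ 2) (P : Sylow p G)
    (hP : (P : Subgroup G) ≠ ⊥) :
    ∃ A : Subgroup G, Wc p A ∧ A ≤ (P : Subgroup G) ∧ (P : Subgroup G) ≤ normalizer (A : Set G) := by
  set Z := Cfsg.centerThompsonOf p (P : Subgroup G) with hZ
  have F := ZJControl.isZJLike_centerThompson.{u} hp
  have hZP : Z ≤ (P : Subgroup G) := F.le G _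
  have hZc : ∀ a ∈ Z, ∀ b ∈ Z, a * b = b * a := fun a ha b hb => mem_centralizer_iff.1 hb.2 a ha.1
  let A : Subgroup G :=
    { carrier := {x | x ∈ Z ∧ x ^ p = 1}
      one_mem' := ⟨one_mem _, one_pow p⟩
      mul_mem' := fun {a b} ha hb => ⟨mul_mem ha.1 hb.1, by
        rw [(show Commute a b from hZc a ha.1 b hb.1).mul_pow, ha.2, hb.2, one_mul]⟩
      inv_mem' := fun {a} ha => ⟨inv_mem ha.1, by rw [inv_pow, ha.2, inv_one]⟩ }
  have hAZ : ∀ g : G, g ∈ normalizer (Z : Set G) → g ∈ normalizer (A : Set G) := fun g hg =>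
    mem_normalizer_iff.2 fun x => by
      show x ∈ Z ∧ x ^ p = 1 ↔ g * x * g⁻¹ ∈ Z ∧ (g * x * g⁻¹) ^ p = 1
      rw [conj_pow, conj_eq_one_iff]
      exact and_congr_left fun _ => mem_normalizer_iff.1 hg x
  have hPA : (P : Subgroup G) ≤ normalizer (A : Set G) := by
    intro x hx
    refine hAZ x ?_
    have h := F.map G G (MulAut.conj x).toMonoidHom (P : Subgroup G) fun y _ hy =>
      (MulAut.conj x).injective (by simpa using hy)
    rw [show (P : Subgroup G).map (MulAut.conj x).toMonoidHom = P from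
      mem_normalizer_iff_map_conj_eq.1 (Subgroup.le_normalizer hx)] at h
    exact mem_normalizer_iff_map_conj_eq.2 h.symm
  have hAP : A ≤ (P : Subgroup G) := fun a ha => hZP ha.1
  have key : ∀ (B : Set G), B ⊆ (P : Set G) → ∀ g : G, (∀ b ∈ B, g * b * g⁻¹ ∈ (P : Subgroup G)) →
      ∃ n ∈ normalizer (A : Set G), ∀ b ∈ B, n * b * n⁻¹ = g * b * g⁻¹ := by
    intro B hB g hg
    obtain ⟨n, hn, he⟩ := S0118.result hp (hyp.sl_two_free hp) P B hB g⁻¹ (by
      rintro _ ⟨b, hb, rfl⟩; show (g⁻¹)⁻¹ * b * g⁻¹ ∈ (P : Subgroup G); rw [inv_inv]; exact hg b hb)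
    exact ⟨n⁻¹, hAZ _ (inv_mem hn), fun b hb => by simpa using he b hb⟩
  have hwc : ∀ g : G, A.map (MulAut.conj g).toMonoidHom ≤ (P : Subgroup G) → g ∈ normalizer (A : Set G) := by
    intro g hg
    obtain ⟨n, hn, he⟩ := key A hAP g fun b hb => hg ⟨b, hb, rfl⟩
    refine mem_normalizer_iff_map_conj_eq.2 (Eq.trans ?_ (mem_normalizer_iff_map_conj_eq.1 hn))
    ext y
    constructor <;> rintro ⟨b, hb, rfl⟩
    · exact ⟨b, hb, he b hb⟩
    · exact ⟨b, hb, (he b hb).symm⟩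
  refine ⟨A, ⟨fun a ha b hb => hZc a ha.1 b hb.1, fun a ha => ha.2, ?_, ?_, ?_⟩, hAP, hPA⟩
  · obtain ⟨z, hz, hz1⟩ := (bot_or_exists_ne_one Z).resolve_left (F.ne_bot G _ P.2 hP)
    obtain ⟨k, hk⟩ := P.2 ⟨z, hZP hz⟩
    have hd : p ∣ orderOf z := by
      obtain ⟨l, -, hl⟩ := (Nat.dvd_prime_pow Fact.out).1
        (orderOf_dvd_of_pow_eq_one (show z ^ p ^ k = 1 from congrArg Subtype.val hk))
      rcases Nat.eq_zero_or_pos l with rfl | hl0
      · exact absurd (orderOf_eq_one_iff.1 hl) hz1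
      · exact hl ▸ dvd_pow_self p hl0.ne'
    intro hA
    have ho : orderOf (z ^ (orderOf z / p)) = p := orderOf_pow_orderOf_div (orderOf_pos z).ne' hd
    have hm : z ^ (orderOf z / p) ∈ A := by
      refine ⟨pow_mem hz _, ?_⟩
      nth_rw 2 [← ho]
      exact pow_orderOf_eq_one _
    rw [hA, mem_bot] at hm
    rw [hm, orderOf_one] at ho
    exact (Fact.out : p.Prime).ne_one ho.symm
  · intro Q hQ g h1 h2
    obtain ⟨R, hR⟩ := hQ.exists_le_sylow
    obtain ⟨c, hc⟩ := MulAction.exists_smul_eq G R P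
    have e : ∀ x ∈ (R : Subgroup G), c * x * c⁻¹ ∈ (P : Subgroup G) := fun x hx => by
      rw [← hc]; exact Subgroup.smul_mem_pointwise_smul x (MulAut.conj c) (R : Subgroup G) hx
    have hcA : c ∈ normalizer (A : Set G) := hwc c (by rintro _ ⟨a, ha, rfl⟩; exact e a (hR (h1 ha)))
    have hcg : c * g ∈ normalizer (A : Set G) := hwc (c * g) (by
      rintro _ ⟨a, ha, rfl⟩
      have := e _ (hR (h2 ⟨a, ha, rfl⟩))
      simpa [mul_assoc] using this)
    simpa using mul_mem (inv_mem hcA) hcg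
  · intro x y hx hy ⟨k, hk⟩ hxy
    set N := normalizer (A : Set G)
    have into : ∀ z ∈ N, (∃ k, z ^ p ^ k = 1) → ∃ m ∈ N, m * z * m⁻¹ ∈ (P : Subgroup G) := by
      intro z hz ⟨k, hk⟩
      obtain ⟨l, -, hl⟩ := (Nat.dvd_prime_pow Fact.out).1 (orderOf_dvd_of_pow_eq_one hk)
      obtain ⟨R, hR⟩ := (IsPGroup.of_card (n := l) (by rw [Nat.card_zpowers, Subgroup.orderOf_mk, hl]) :
        IsPGroup p (zpowers (⟨z, hz⟩ : N))).exists_le_sylow
      obtain ⟨m, hm⟩ := MulAction.exists_smul_eq N R (P.subtype hPA)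
      refine ⟨m, m.2, ?_⟩
      have h : m * ⟨z, hz⟩ * m⁻¹ ∈ ((P.subtype hPA : Sylow p N) : Subgroup N) := by
        rw [← hm]
        exact Subgroup.smul_mem_pointwise_smul _ (MulAut.conj m) (R : Subgroup N) (hR (mem_zpowers _))
      rw [Sylow.coe_subtype, mem_subgroupOf] at h
      exact h
    obtain ⟨g, hg⟩ := isConj_iff.1 hxy
    obtain ⟨m₁, hm₁, h1⟩ := into x hx ⟨k, hk⟩
    obtain ⟨m₂, hm₂, h2⟩ := into y hy ⟨k, by rw [← hg, conj_pow, hk, mul_one, mul_inv_cancel]⟩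
    obtain ⟨n, hn, he⟩ := key {m₁ * x * m₁⁻¹} (Set.singleton_subset_iff.2 h1) (m₂ * g * m₁⁻¹) (by
      rintro b rfl
      rw [show m₂ * g * m₁⁻¹ * (m₁ * x * m₁⁻¹) * (m₂ * g * m₁⁻¹)⁻¹ = m₂ * (g * x * g⁻¹) * m₂⁻¹ by group, hg]
      exact h2)
    refine ⟨m₂⁻¹ * n * m₁, mul_mem (mul_mem (inv_mem hm₂) hn) hm₁, ?_⟩
    have := he _ rfl
    calc m₂⁻¹ * n * m₁ * x * (m₂⁻¹ * n * m₁)⁻¹ = m₂⁻¹ * (n * (m₁ * x * m₁⁻¹) * n⁻¹) * m₂ := by group
      _ = g * x * g⁻¹ := by rw [this]; group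
      _ = y := hg

end Cfsg.Agent.GW
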