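import Cfsg.Agent.Lib.GW.Assembly
import Cfsg.Agent.Lib.PSL2.DicksonOrders
import Cfsg.Agent.Lib.SmallSimple.Order168Iso
import Cfsg.Agent.Lib.SmallSimple.Low
import Cfsg.Agent.Lib.Components.Quasisimple
import Cfsg.Prelude.Def_Local

/-!
# An involution centraliser properly inside a subgroup without components

With dihedral Sylow 2-subgroups this only happens in `A₅`, `A₇`, `PSL(3, 2)` and `PSL(2, 9)`.
-/

set_option autoImplicit false
set_option linter.style.haveILetI false

namespace Cfsg.Agent.GW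

open Subgroup
open scoped MatrixGroups

universe u

/-- A nonabelian simple group is not its own Fitting subgroup. -/
theorem genFitting_ne_fitting {X : Type u} [Group X] [IsSimpleGroup X] (hX : ¬ IsMulCommutative X) :
    Cfsg.generalizedFittingSubgroup X ≠ Cfsg.fittingSubgroup X := by
  have hF : Cfsg.fittingSubgroup X = ⊥ := by
    refine eq_bot_iff.2 (sSup_le fun N ⟨hN, hnil⟩ => ?_)
    rcases hN.eq_bot_or_eq_top with h | h
    · exact h.le
    subst h
    haveI : Group.IsNilpotent X := Group.nilpotent_of_surjective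
      (f := (Subgroup.topEquiv (G := X)).toMonoidHom) (Subgroup.topEquiv (G := X)).surjective
    exact absurd ⟨⟨IsSimpleGroup.comm_iff_isSolvable.mpr inferInstance⟩⟩ hX
  have hcomp : Cfsg.IsComponent (⊤ : Subgroup X) :=
    ⟨(inferInstance : (⊤ : Subgroup X).Normal).isSubnormal,
      (Components.isQuasisimple_congr Subgroup.topEquiv).2
        (Components.isQuasisimple_of_isSimpleGroup hX)⟩
  intro h
  rw [Cfsg.generalizedFittingSubgroup, hF, sup_bot_eq] at h
  have h1 : (⊤ : Subgroup X) ≤ Cfsg.layer X := le_sSup hcomp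
  rw [h] at h1
  exact bot_ne_top (top_le_iff.1 h1)

/-- In `PSL(2, q)`, `q` odd, involution centralisers are maximal apart from `q = 5, 7, 9`. -/
theorem isCoatom_centralizer_involution {F : Type*} [Field F] [Fintype F] (hodd : Odd (Fintype.card F))
    (h3 : 3 < Fintype.card F) (hq : Fintype.card F ∉ ({5, 7, 9} : Finset ℕ)) {x : PSL(2, F)}
    (hx : orderOf x = 2) : IsCoatom (Subgroup.centralizer ({x} : Set PSL(2, F))) := by
  classical
  obtain ⟨p, hc⟩ := CharP.exists F
  haveI := Fact.mk (CharP.char_is_prime F p)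
  have h2 : (2 : F) ≠ 0 := PSL2.odd_card_iff.1 hodd
  obtain ⟨g, rfl, hg, -⟩ := PSL2.exists_tr_eq_zero hx
  have h4 := PSL2.tr_sq_ne_four_of_tr_eq_zero h2 hg
  obtain ⟨k, hk⟩ := hodd
  have hd : Nat.gcd 2 (Fintype.card F - 1) = 2 := Nat.gcd_eq_left ⟨k, by omega⟩
  obtain ⟨c1, c2⟩ := PSL2.card_cent_of_tr_zero h2 hg
  simp only [Finset.mem_insert, Finset.mem_singleton, not_or] at hq
  rw [PSL2.psl_centralizer_involution h2 hg]
  refine PSL2.isCoatom_normalizer_torus p h4 rfl ?_
  rw [PSL2.card_map_cent_eq]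
  simp only [Finset.mem_insert, Finset.mem_singleton, not_or]
  rcases (show Fintype.card F % 4 = 1 ∨ Fintype.card F % 4 = 3 by omega) with hm | hm
  · exact Or.inr ⟨by rw [c1 hm], by omega⟩
  · exact Or.inl ⟨by rw [c2 hm], by omega⟩

variable {G : Type u} [Group G] [Finite G] [IsSimpleGroup G]

/-- **An involution centraliser properly inside a component-free subgroup**, from Gorenstein-Walter. -/
theorem overgroup_of_centralizer (h2 : PartTwo.{u}) (S : Sylow 2 G) (m : ℕ)
    (eS : ↥(S : Subgroup G) ≃* DihedralGroup m) (t : G) (ht : orderOf t = 2) (K : Subgroup G)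
    (hlt : Subgroup.centralizer ({t} : Set G) < K)
    (hK : Cfsg.generalizedFittingSubgroup ↥K = Cfsg.fittingSubgroup ↥K) :
    Nonempty (G ≃* ↥(alternatingGroup (Fin 5))) ∨ Nonempty (G ≃* ↥(alternatingGroup (Fin 7))) ∨
      (∃ (F : Type) (_ : Field F) (_ : Fintype F), Fintype.card F = 2 ∧
        Nonempty (G ≃* Matrix.ProjectiveSpecialLinearGroup (Fin 3) F)) ∨
      (∃ (F : Type) (_ : Field F) (_ : Fintype F), Fintype.card F = 9 ∧
        Nonempty (G ≃* Matrix.ProjectiveSpecialLinearGroup (Fin 2) F)) := by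
  classical
  haveI : Fact (Nat.Prime 2) := ⟨Nat.prime_two⟩
  have hG : ¬ IsMulCommutative G := fun hc => by
    have htop : Subgroup.centralizer ({t} : Set G) = ⊤ :=
      eq_top_iff.2 fun y _ => Subgroup.mem_centralizer_singleton_iff.2 (hc.is_comm.comm _ _)
    exact not_top_lt (htop ▸ hlt)
  have hm0 : m ≠ 0 := by
    rintro rfl
    haveI := Finite.of_equiv _ eS.toEquiv
    exact not_finite (DihedralGroup 0)
  haveI : NeZero m := ⟨hm0⟩
  have hm : 2 ≤ m := by
    by_contra hlt'
    have hm1 : m = 1 := by omega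
    subst hm1
    refine SmallSimple.not_hasNormalPComplement hG (ht ▸ orderOf_dvd_natCard t)
      (hasNormalPComplement_of_cyclic_two S (isCyclic_of_prime_card (p := 2) ?_))
    rw [Nat.card_congr eS.toEquiv, DihedralGroup.nat_card]
  have hd : DihedralTwo G := fun T => ⟨m, hm, ⟨(Sylow.equiv T S).trans eS⟩⟩
  have hKtop : K ≠ ⊤ := by
    rintro rfl
    haveI : IsSimpleGroup (⊤ : Subgroup G) := (Subgroup.topEquiv (G := G)).isSimpleGroup
    refine genFitting_ne_fitting (fun hc => hG ⟨⟨fun a b => ?_⟩⟩) hK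
    exact congrArg Subtype.val (hc.is_comm.comm (⟨a, mem_top a⟩ : (⊤ : Subgroup G)) ⟨b, mem_top b⟩)
  rcases isKnown_of_simple h2 G inferInstance hd with ⟨F, iF, iF', hodd, h3, ⟨e⟩⟩ | hA7
  swap
  · exact Or.inr (Or.inl hA7)
  have hF2 : (2 : F) ≠ 0 := PSL2.odd_card_iff.1 hodd
  have hcard := PSL2.two_mul_card_PSL (F := F) hF2
  rw [← Nat.card_congr e.toEquiv] at hcard
  by_cases h5 : Fintype.card F = 5
  · refine Or.inl (SmallSimple.iso_alternating_five hG ?_)
    rw [h5] at hcard
    omega
  by_cases h9 : Fintype.card F = 9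
  · exact Or.inr (Or.inr (Or.inr ⟨F, iF, iF', h9, ⟨e⟩⟩))
  by_cases h7 : Fintype.card F = 7
  · rw [h7] at hcard
    haveI : Fact (Nat.Prime 2) := ⟨Nat.prime_two⟩
    obtain ⟨hs, hc⟩ := DihedralCentTools.sl32
    have hZ : Subgroup.center (Matrix.SpecialLinearGroup (Fin 3) (ZMod 2)) = ⊥ := by
      refine Subgroup.eq_bot_of_card_eq _ ?_
      rw [GL.card_center_SL, ZMod.card, Fintype.card_fin]; rfl
    let q : Matrix.ProjectiveSpecialLinearGroup (Fin 3) (ZMod 2) ≃*
        Matrix.SpecialLinearGroup (Fin 3) (ZMod 2) :=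
      (QuotientGroup.quotientMulEquivOfEq hZ).trans QuotientGroup.quotientBot
    haveI := hs
    obtain ⟨f⟩ := SmallSimple.nonempty_mulEquiv_168 (G := G)
      (G' := Matrix.SpecialLinearGroup (Fin 3) (ZMod 2)) (by omega) hc
    exact Or.inr (Or.inr (Or.inl ⟨ZMod 2, inferInstance, inferInstance, ZMod.card 2,
      ⟨f.trans q.symm⟩⟩))
  exfalso
  have hmap : (Subgroup.centralizer ({t} : Set G)).map e.toMonoidHom =
      Subgroup.centralizer ({e t} : Set PSL(2, F)) := by
    ext y
    obtain ⟨y, rfl⟩ := e.surjective y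
    rw [Subgroup.mem_centralizer_singleton_iff, ← map_mul, ← map_mul, e.injective.eq_iff]
    exact (Subgroup.mem_map_iff_mem (f := e.toMonoidHom) e.injective).trans
      Subgroup.mem_centralizer_singleton_iff
  have hco := isCoatom_centralizer_involution hodd h3 (by simp [h5, h7, h9]) (x := e t)
    ((MulEquiv.orderOf_eq e t).trans ht)
  rw [← hmap] at hco
  have hlt2 := (Subgroup.map_lt_map_iff_of_injective (f := e.toMonoidHom) e.injective).2 hlt
  exact hKtop (Subgroup.map_injective e.injective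
    ((hco.2 _ hlt2).trans (Subgroup.map_top_of_surjective e.toMonoidHom e.surjective).symm))

end Cfsg.Agent.GW
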