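import Cfsg.Agent.Lib.GW.NoFixedSylow
import Cfsg.Agent.S0508

/-!
# Gorenstein-Walter, Part I: no fixed points gives `PSL_2 (q)`

`|G|_p` divides `|oCore t|` for all primes of the latter, so the core is TI with normaliser `Cent t`,
and the theorem of Brauer, Suzuki and Wall applies.
-/

set_option autoImplicit false
set_option linter.style.haveILetI false
set_option linter.unusedSectionVars false

namespace Cfsg.Agent.GW

open Subgroup
open BSW (sq_of_order inv_of_order ne_one_of_order order_of_sq mem_cent)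
open BSW.DihedralTI (Gens)
open scoped MatrixGroups

universe u

variable {G : Type u} [Group G] [Finite G] {S : Sylow 2 G} {t : G}

namespace Hyp

/-- The normaliser of a nontrivial subgroup of the core lies in the centraliser of the involution. -/
theorem normalizer_le_cent (hyp : Hyp S t) (nf : NoFixed G) {Y : Subgroup G} (hY : Y ≤ oCore t)
    (hY1 : Y ≠ ⊥) : normalizer (Y : Set G) ≤ Cent t := by
  have ht := hyp.orderT
  obtain ⟨e, he, he1⟩ := (bot_or_exists_ne_one Y).resolve_left hY1
  have heo : Odd (orderOf e) := ((hyp.mem_oCore_iff ht).1 (hY he)).2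
  set L := centralizer (Y : Set G)
  set W := core L
  obtain ⟨hmem, hconj⟩ := hyp.core_spec (L := L) (hyp.no_pair_centralizer nf he he1 heo)
  have hOW : oCore t ≤ W := fun y hy => hmem y
    (mem_centralizer_iff.2 fun z hz => (hyp.oCore_comm nf ht (hY hz) hy).eq) ((hyp.mem_oCore_iff ht).1 hy).2
  have hNW : normalizer (Y : Set G) ≤ normalizer (W : Set G) :=
    (Coprime.le_normalizer_centralizer le_rfl).trans
      (Components.normalizer_le_normalizer_map_of_characteristic L (Cfsg.oddCore L))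
  have htY : Cent t ≤ normalizer (Y : Set G) := by
    have h : ∀ g ∈ Cent t, ∀ y ∈ Y, g * y * g⁻¹ ∈ Y := fun g hg y hy => zpowers_le.2 hy
      ((mem_normalizer_iff.1 (hyp.cent_le_normalizer_zpowers nf ht (hY hy) hg) y).1 (mem_zpowers y))
    exact fun g hg => mem_normalizer_iff.2 fun y =>
      ⟨h g hg y, fun hy => by simpa [mul_assoc] using h _ (inv_mem hg) _ hy⟩
  obtain ⟨s, h⟩ := hyp.exists_pair ht
  have hVW : h.four ≤ normalizer (W : Set G) := h.four_le_cent.trans (htY.trans hNW)
  haveI : Fact (Nat.Prime 2) := ⟨Nat.prime_two⟩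
  obtain ⟨k, hk⟩ := h.isPGroup.exists_card_eq
  have hWeq : oCore t = W := Coprime.eq_of_forall_invariant_pgroup_le hVW
    (hk ▸ (Nat.coprime_two_left.2 (odd_core L)).pow_left k) (Or.inr (Cfsg.Agent.S0205.result (odd_core L))) hOW
    fun p P hp hP hPW hVP => by
      haveI := Fact.mk hp
      by_cases hd : p ∣ Nat.card (oCore t)
      · obtain ⟨Q, hPQ, hQ⟩ := Hyp.exists_invariant_ge (p := p) (odd_core L) h.isPGroup hVW hPW hP hVP
        obtain ⟨Q₁, hppQ, hQ₁⟩ := Hyp.exists_invariant_ge (p := p) (U := pp p t) (odd_core L) h.isPGroup hVW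
          (fun y hy => hOW ((hyp.mem_pp nf ht).1 hy).1) (PCore.isPGroup_pCore.map _)
          (h.four_le_cent.trans ((Hyp.cent_le_normalizer t).trans
            (Components.normalizer_le_normalizer_map_of_characteristic (oCore t) (Cfsg.pCore p (oCore t)))))
        rw [hyp.eq_of_invariant_sylow nf h (odd_core L) hVW Q₁ Q hQ₁ hQ] at hppQ
        obtain ⟨R⟩ : Nonempty (Sylow p (oCore t)) := inferInstance
        set Q' := (Q : Subgroup W).map W.subtype
        set R' := (R : Subgroup (oCore t)).map (oCore t).subtype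
        have hRQ : R' ≤ Q' := fun y hy => hppQ ((hyp.mem_pp nf ht).2
          ⟨map_subtype_le _ hy, pow_prime_of_pGroup (R.2.map _) hy⟩)
        obtain ⟨j, hj⟩ := (Q.2.map W.subtype).exists_card_eq
        have hle : Nat.card Q' ≤ Nat.card R' := by
          rw [show Nat.card R' = _ from card_map_of_injective (oCore t).subtype_injective, R.card_eq_multiplicity, hj]
          exact Nat.pow_le_pow_right hp.pos ((hp.pow_dvd_iff_le_factorization Nat.card_pos.ne').1
            (hj ▸ hyp.card_dvd_oCore nf hd (Q.2.map W.subtype)))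
        exact hPQ.trans ((Subgroup.eq_of_le_of_card_ge hRQ hle).ge.trans (map_subtype_le _))
      · intro y hy
        have hyo : Odd (orderOf y) := (odd_core L).of_dvd_nat (orderOf_dvd_natCard _ (hPW hy))
        have hinv : ∀ v ∈ h.four, orderOf v = 2 → v * y * v⁻¹ = y⁻¹ := fun v hv hv2 =>
          inverts_of_fixfree hv2 (hVP hv) (fun z hz hzv => eq_one_of_pow_prime
            (p := p) (K := oCore v) (by rwa [hyp.card_oCore_eq hv2 ht])
            ((hyp.mem_oCore_iff hv2).2 ⟨mem_cent.2 hzv.eq,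
              (odd_core L).of_dvd_nat (orderOf_dvd_natCard _ (hPW hz))⟩)
            (pow_prime_of_pGroup hP hz)) hy
        have h1 := hinv t h.left_mem h.ha
        have h2 := hinv s h.right_mem h.hb
        have h3 := hinv _ (h.four.mul_mem h.left_mem h.right_mem) h.order_mul
        rw [show t * s * y * (t * s)⁻¹ = t * (s * y * s⁻¹) * t⁻¹ by group, h2, ← conj_inv, h1, inv_inv] at h3
        have hy2 : y ^ 2 = 1 := by rw [pow_two]; nth_rw 1 [h3]; exact inv_mul_cancel y
        rw [orderOf_eq_one_iff.1 (Nat.eq_one_of_dvd_coprimes (Nat.coprime_two_right.2 hyo) dvd_rfl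
          (orderOf_dvd_of_pow_eq_one hy2))]
        exact one_mem _
  intro g hg
  obtain ⟨m, hm, hmt⟩ := hconj t (g * t * g⁻¹)
    (mem_centralizer_iff.2 fun y hy => mem_cent.1 (oCore_le_cent t (hY hy)))
    (mem_centralizer_iff.2 fun y hy => by
      have h1 := mem_cent.1 (oCore_le_cent t (hY ((mem_normalizer_iff''.1 hg y).1 hy)))
      calc y * (g * t * g⁻¹) = g * (g⁻¹ * y * g * t) * g⁻¹ := by group
        _ = g * t * g⁻¹ * y := by rw [h1]; group)
    ht ((MulEquiv.orderOf_eq (MulAut.conj g) t).trans ht)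
  have h2 : m⁻¹ * g ∈ Cent t := mem_cent.2 (by
    calc m⁻¹ * g * t = m⁻¹ * (g * t * g⁻¹) * g := by group
      _ = t * (m⁻¹ * g) := by rw [← hmt]; group)
  simpa using mul_mem (oCore_le_cent t (hWeq.ge hm)) h2

/-- **Gorenstein-Walter, Part I.** -/
theorem psl_of_noFixed (hyp : Hyp S t) (nf : NoFixed G) :
    ∃ (F : Type) (_ : Field F) (_ : Fintype F), Odd (Fintype.card F) ∧
      Nonempty (G ≃* Matrix.ProjectiveSpecialLinearGroup (Fin 2) F) := by
  haveI := hyp.simple
  have ht := hyp.orderT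
  obtain ⟨n, hn, hdih⟩ := hyp.dihedral
  obtain ⟨g⟩ := hyp.exists_gens
  have hrefl : ∀ (i : ℤ) {y : G}, y ∈ oCore t → g.σ ^ i * g.τ * y * (g.σ ^ i * g.τ)⁻¹ = y⁻¹ := fun i y hy =>
    hyp.inverts nf ⟨ht, refl_order g i, (hyp.centralS _ (mul_mem (zpow_mem g.hσ i) g.hτ)).symm,
      (refl_ne g i).symm⟩ hy
  have hrot : ∀ i : ℤ, g.σ ^ i ∈ centralizer (oCore t : Set G) := fun i => by
    refine mem_centralizer_iff.2 fun y hy => ?_
    have hiS : g.σ ^ i ∈ (S : Subgroup G) := zpow_mem g.hσ i
    by_cases h2 : g.σ ^ i * g.σ ^ i = 1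
    · by_cases h1 : g.σ ^ i = 1
      · rw [h1]; simp
      · rw [eq_of_invol_zpowers (zpow_mem (mem_zpowers g.σ) i) g.htσ (order_of_sq h2 h1) ht]
        exact mem_cent.1 (oCore_le_cent t hy)
    · exact (hyp.commute_of_sq_ne_one nf ht (hyp.sylow_le_cent hiS) (pow_prime_of_pGroup S.2 hiS) h2 hy).eq.symm
  refine Cfsg.Agent.S0508.result S n hn hdih t ht hyp.memS hyp.centralS (oCore t) rfl (fun hO => ?_) ?_
    (fun Y hY hY1 => hyp.normalizer_le_cent nf hY hY1)
  · obtain ⟨y, hy, hy1⟩ := (bot_or_exists_ne_one (oCore t)).resolve_left hO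
    have hyo : Odd (orderOf y) := ((hyp.mem_oCore_iff ht).1 hy).2
    have heq : (S : Subgroup G) ⊓ centralizer (oCore t : Set G) = zpowers g.σ := by
      refine le_antisymm (fun x hx => ?_) (zpowers_le.2 (mem_inf.2 ⟨g.hσ, by simpa using hrot 1⟩))
      obtain ⟨hxS, hxC⟩ := mem_inf.1 hx
      obtain ⟨i, hi | hi⟩ := g.hform x hxS
      · exact hi ▸ zpow_mem (mem_zpowers g.σ) i
      · exfalso
        have h1 := hrefl i hy
        rw [← hi, ← mem_centralizer_iff.1 hxC y hy, mul_inv_cancel_right] at h1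
        exact hy1 (orderOf_eq_one_iff.1 (Nat.eq_one_of_dvd_coprimes (Nat.coprime_two_right.2 hyo) dvd_rfl
          (orderOf_dvd_of_pow_eq_one (show y ^ 2 = 1 by rw [pow_two]; nth_rw 1 [h1]; exact inv_mul_cancel y))))
    rw [heq]
    refine ⟨inferInstance, ?_⟩
    have h1 := ((zpowers g.σ).subgroupOf (S : Subgroup G)).index_mul_card
    rw [Nat.card_congr (subgroupOfEquivOfLe (zpowers_le.2 g.hσ)).toEquiv, Nat.card_zpowers, g.hord,
      g.hcard] at h1
    exact Nat.eq_of_mul_eq_mul_right (by rw [g.hn]; positivity) h1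
  · intro s hs hsO y hy
    obtain ⟨i, hi | hi⟩ := g.hform s hs
    · exact absurd (hi ▸ hrot i) hsO
    · rw [hi]; exact hrefl i hy

end Hyp

end Cfsg.Agent.GW
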