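import Cfsg.Agent.Lib.GW.NoFixedDichotomy
import Cfsg.Agent.S0217
import Cfsg.Agent.S1225
import Cfsg.Agent.Lib.BaumannBlock.Trace

/-!
# The p-part of a group with dihedral Sylow 2-subgroups, fixed points excluded

The configuration `Full` is impossible: the signaliser functor `theta` gives a strongly embedded
subgroup, and transitivity on its involutions puts a p-element in too many conjugates.
So `|G|_p` divides `|oCore t|` whenever `p` divides `|oCore t|`.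
-/

set_option autoImplicit false
set_option linter.style.haveILetI false
set_option linter.unusedSectionVars false

namespace Cfsg.Agent.GW

open Subgroup
open BSW (sq_of_order inv_of_order ne_one_of_order order_of_sq mem_cent)
open scoped Pointwise

universe u

variable {G : Type u} [Group G] [Finite G] {S : Sylow 2 G} {t : G} {p : ℕ}

/-- The signaliser `O_{p'}(O(C(a)))`. -/
noncomputable def theta (p : ℕ) (a : G) : Subgroup G := rad p (core (Cent a))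

theorem map_theta (g a : G) :
    (theta p a).map (MulAut.conj g).toMonoidHom = theta p (g * a * g⁻¹) := by
  rw [theta, theta, map_rad]
  congr 1
  show (rad 2 (Cent a)).map _ = rad 2 (Cent (g * a * g⁻¹))
  rw [map_rad]
  congr 1
  ext x
  constructor
  · rintro ⟨z, hz, rfl⟩
    refine mem_cent.2 ?_
    show g * z * g⁻¹ * (g * a * g⁻¹) = g * a * g⁻¹ * (g * z * g⁻¹)
    rw [conj_mul, conj_mul, mem_cent.1 hz]
  · intro hx
    refine ⟨g⁻¹ * x * g, mem_cent.2 ?_, by simp [mul_assoc]⟩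
    have h := mem_cent.1 hx
    calc g⁻¹ * x * g * a = g⁻¹ * (x * (g * a * g⁻¹)) * g := by group
      _ = a * (g⁻¹ * x * g) := by rw [h]; group

theorem not_isCyclic_of_exp [Fact p.Prime] {B : Subgroup G} (hexp : ∀ b ∈ B, b ^ p = 1)
    (h : p < Nat.card B) : ¬ IsCyclic B := fun hc => by
  obtain ⟨g, hg⟩ := IsCyclic.exists_generator (α := B)
  have h1 : Nat.card B = orderOf g := (orderOf_eq_card_of_forall_mem_zpowers hg).symm
  have h2 : orderOf g ≤ p := Nat.le_of_dvd (Fact.out : p.Prime).pos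
    (orderOf_dvd_of_pow_eq_one (Subtype.ext (hexp g g.2)))
  omega

namespace Wc

variable [Fact p.Prime] {A : Subgroup G}

theorem le_core (w : Wc p A) (hyp : Hyp S t) (nf : NoFixed G) (hp : p ≠ 2) {a : G} (ha : a ∈ A)
    (ha1 : a ≠ 1) : A ≤ core (Cent a) := fun z hz =>
  (hyp.core_spec (hyp.no_pair_cent nf ha1 (w.odd hp ha))).1 z (mem_cent.2 (w.comm z hz a ha)) (w.odd hp hz)

theorem exists_rep (w : Wc p A) {W : Subgroup G} (hA : A ≤ W) {v : W ⧸ Cfsg.pPrimeCore p W}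
    (hv : v ∈ Cfsg.pCore p (W ⧸ Cfsg.pPrimeCore p W)) :
    ∃ q : W, QuotientGroup.mk' (Cfsg.pPrimeCore p W) q = v ∧ (∃ k, (q : G) ^ p ^ k = 1) ∧
      (q : G) ∈ normalizer (A : Set G) := by
  obtain ⟨Q, hQ⟩ := (w.isPGroup.comap_subtype : IsPGroup p (A.subgroupOf W)).exists_le_sylow
  have h1 := PCore.pCore_le_sylow (Q.mapSurjective (QuotientGroup.mk'_surjective _)) hv
  rw [Sylow.coe_mapSurjective] at h1
  obtain ⟨q, hq, rfl⟩ := h1
  exact ⟨q, rfl, pow_prime_of_pGroup (Q.2.map W.subtype) ⟨q, hq, rfl⟩,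
    w.le_normalizer (Q.2.map W.subtype) (fun z hz => ⟨⟨z, hA hz⟩, hQ hz, rfl⟩) ⟨q, hq, rfl⟩⟩

theorem pCore_le_normalizer_image (w : Wc p A) {W : Subgroup G} (hA : A ≤ W) :
    Cfsg.pCore p (W ⧸ Cfsg.pPrimeCore p W) ≤
      normalizer (((A.subgroupOf W).map (QuotientGroup.mk' (Cfsg.pPrimeCore p W)) : Subgroup _) : Set _) := by
  intro v hv
  obtain ⟨q, rfl, -, hqA⟩ := w.exists_rep hA hv
  refine (Subgroup.le_normalizer_map (QuotientGroup.mk' (Cfsg.pPrimeCore p W))) ⟨q, ?_, rfl⟩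
  exact mem_normalizer_iff.2 fun z => mem_normalizer_iff.1 hqA z

theorem image_le_pCore (w : Wc p A) (hp : p ≠ 2) {W : Subgroup G} (hodd : Odd (Nat.card W)) (hA : A ≤ W) :
    (A.subgroupOf W).map (QuotientGroup.mk' (Cfsg.pPrimeCore p W)) ≤
      Cfsg.pCore p (W ⧸ Cfsg.pPrimeCore p W) := by
  haveI := Cfsg.Agent.S0205.result hodd
  refine OddOrder.le_pCore_of_abelian (OddOrder.odd_quotient hodd _) hp PCore.pPrimeCore_quotient_self_eq_bot
    _ PCore.isPGroup_pCore inf_le_left _ ⟨⟨?_⟩⟩ (w.pCore_le_normalizer_image hA)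
  rintro ⟨_, x, hx, rfl⟩ ⟨_, y, hy, rfl⟩
  refine Subtype.ext ?_
  show QuotientGroup.mk' _ x * QuotientGroup.mk' _ y = QuotientGroup.mk' _ y * QuotientGroup.mk' _ x
  rw [← map_mul, ← map_mul, show x * y = y * x from Subtype.ext (w.comm x hx y hy)]

theorem le_rad2 (w : Wc p A) (hp : p ≠ 2) {W : Subgroup G} (hodd : Odd (Nat.card W)) (hA : A ≤ W) :
    A ≤ rad2 p W := fun z hz =>
  (mem_rad2 (hA hz)).2 (w.image_le_pCore hp hodd hA ⟨⟨z, hA hz⟩, hz, rfl⟩)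

theorem theta_mem_conj (hyp : Hyp S t) (nf : NoFixed G) (hp : p ≠ 2) (w : Wc p A) {a g : G} (ha : a ∈ A)
    (ha1 : a ≠ 1) (hg : g ∈ Cent a) (hgo : Odd (orderOf g)) {x : G} (hx : x ∈ theta p a) :
    g * x * g⁻¹ ∈ theta p a :=
  (mem_normalizer_iff.1 (normalizer_le_rad (core (Cent a)) ((Subgroup.le_normalizer : core (Cent a) ≤ _)
    ((hyp.core_spec (hyp.no_pair_cent nf ha1 (w.odd hp ha))).1 g hg hgo))) x).1 hx

/-- Balance. -/
theorem balance (w : Wc p A) (hyp : Hyp S t) (nf : NoFixed G) (hp : p ≠ 2) {a b : G} (ha : a ∈ A)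
    (ha1 : a ≠ 1) (hb : b ∈ A) (hb1 : b ≠ 1) : theta p a ⊓ Cent b ≤ theta p b := by
  intro x hx
  obtain ⟨hxa, hxb⟩ := mem_inf.1 hx
  have hxo : Odd (orderOf x) :=
    (odd_core (Cent a)).of_dvd_nat (orderOf_dvd_natCard _ (rad_le _ hxa))
  set W := core (Cent b)
  have hodd : Odd (Nat.card W) := odd_core (Cent b)
  haveI := Cfsg.Agent.S0205.result hodd
  have hxW : x ∈ W := (hyp.core_spec (hyp.no_pair_cent nf hb1 (w.odd hp hb))).1 x hxb hxo
  have hA : A ≤ W := w.le_core hyp nf hp hb hb1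
  set π := QuotientGroup.mk' (Cfsg.pPrimeCore p W)
  set P := Cfsg.pCore p (W ⧸ Cfsg.pPrimeCore p W)
  set Ab := (A.subgroupOf W).map π
  -- an element of `theta a` with image in `P` has trivial image
  have key : ∀ z : W, (z : G) ∈ theta p a → π z ∈ P → π z = 1 := fun z hz hzP => by
    obtain ⟨k, hk⟩ := pow_prime_of_pGroup PCore.isPGroup_pCore hzP
    refine orderOf_eq_one_iff.1 (Nat.eq_one_of_dvd_coprimes (((Fact.out : p.Prime).coprime_iff_not_dvd.2
      (not_dvd_card_rad (core (Cent a)))).pow_left k) (orderOf_dvd_of_pow_eq_one hk) ?_)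
    refine (orderOf_map_dvd π z).trans ?_
    rw [← Subgroup.orderOf_coe]
    exact orderOf_dvd_natCard _ hz
  have hcomm : ∀ z : W, (z : G) ∈ Cent a → π z ∈ P → Commute (π ⟨x, hxW⟩) (π z) := fun z hz hzP => by
    have hzo : Odd (orderOf (z : G)) := hodd.of_dvd_nat (orderOf_dvd_natCard _ z.2)
    have h1 : π (⟨x, hxW⟩ * z * ⟨x, hxW⟩⁻¹ * z⁻¹) = 1 := by
      refine key _ ?_ ?_
      · push_cast
        rw [mul_assoc x, mul_assoc x]
        exact mul_mem hxa (w.theta_mem_conj hyp nf hp ha ha1 hz hzo (inv_mem hxa))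
      · simp only [map_mul, map_inv]
        exact mul_mem ((PCore.pCore_normal (p := p)).conj_mem _ hzP _) (inv_mem hzP)
    simp only [map_mul, map_inv] at h1
    exact mul_inv_eq_iff_eq_mul.1 (mul_inv_eq_one.1 h1)
  have hAP : Ab ≤ P := w.image_le_pCore hp hodd hA
  set P₀ := P ⊓ centralizer (Ab : Set (W ⧸ Cfsg.pPrimeCore p W))
  have hA0 : Ab ≤ P₀ := le_inf hAP fun _ ⟨y, hy, e⟩ => mem_centralizer_iff.2 fun _ ⟨z, hz, e'⟩ => by
    rw [← e, ← e', ← map_mul, ← map_mul, show z * y = y * z from Subtype.ext (w.comm z hz y hy)]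
  have hx0 : ∀ v ∈ P₀, π ⟨x, hxW⟩ * v = v * π ⟨x, hxW⟩ := by
    intro v hv
    obtain ⟨hvP, hvA⟩ := mem_inf.1 hv
    obtain ⟨q, rfl, hqp, hqN⟩ := w.exists_rep hA hvP
    refine (hcomm q (mem_cent.2 ?_) hvP).eq
    -- `q` centralises `A`
    have hz : (q : G) * a * (q : G)⁻¹ * a⁻¹ ∈ A := mul_mem ((mem_normalizer_iff.1 hqN a).1 ha) (inv_mem ha)
    have h1 : π (q * ⟨a, hA ha⟩ * q⁻¹ * (⟨a, hA ha⟩ : W)⁻¹) = 1 := by
      have h2 := mem_centralizer_iff.1 hvA (π ⟨a, hA ha⟩) ⟨_, ha, rfl⟩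
      simp only [map_mul, map_inv]
      rw [← h2, mul_inv_cancel_right, mul_inv_cancel]
    have h3 : (q : G) * a * (q : G)⁻¹ * a⁻¹ = 1 :=
      eq_one_of_pow_prime (not_dvd_card_rad W) ⟨_, (QuotientGroup.eq_one_iff _).1 h1, by simp⟩
        (pow_prime_of_pGroup w.isPGroup hz)
    exact mul_inv_eq_iff_eq_mul.1 (mul_inv_eq_one.1 h3)
  have hxcop : (orderOf (π ⟨x, hxW⟩)).Coprime p := by
    refine Nat.Coprime.coprime_dvd_left ?_ ((Fact.out : p.Prime).coprime_iff_not_dvd.2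
      (not_dvd_card_rad (core (Cent a)))).symm
    refine (orderOf_map_dvd π _).trans ?_
    rw [Subgroup.orderOf_mk]
    exact orderOf_dvd_natCard _ hxa
  have hxP : π ⟨x, hxW⟩ ∈ P := OddOrder.centralizer_pCore_le PCore.pPrimeCore_quotient_self_eq_bot
    (mem_centralizer_iff.2 fun v hv => (fix_of_fix_cent PCore.isPGroup_pCore
      (Coprime.le_normalizer_inf_of_le Subgroup.le_normalizer
        (Coprime.le_normalizer_centralizer (w.pCore_le_normalizer_image hA)))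
      (fun z hz => hA0.trans' le_rfl |> fun hle => mem_inf.2 ⟨(mem_inf.1 hz).1,
        centralizer_le (SetLike.coe_subset_coe.2 hle) (mem_inf.1 hz).2⟩)
      (fun z hz => (PCore.pCore_normal (p := p)).conj_mem _ hz _) hx0 hxcop hv).symm)
  exact (mem_rad hxW).2 ((QuotientGroup.eq_one_iff _).1 (key ⟨x, hxW⟩ hxa hxP))

/-- `Cent a` is `theta a` times a part of `N`. -/
theorem cent_le (w : Wc p A) (hyp : Hyp S t) (nf : NoFixed G) (hp : p ≠ 2) {a g : G} (ha : a ∈ A)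
    (ha1 : a ≠ 1) (hg : g ∈ Cent a) : ∃ o ∈ theta p a, o * g ∈ normalizer (A : Set G) := by
  have hA : A ≤ core (Cent a) := w.le_core hyp nf hp ha ha1
  obtain ⟨Q, hQ⟩ := (w.isPGroup.comap_subtype : IsPGroup p (A.subgroupOf (core (Cent a)))).exists_le_sylow
  obtain ⟨o, ho, hog⟩ := frattini_rad2 Q (le_normalizer_core (Cent a) hg)
  exact ⟨o, ho, w.normalizer_le ((Q.2.map (core (Cent a)).subtype).to_le inf_le_left)
    (le_inf (fun z hz => ⟨⟨z, hA hz⟩, hQ hz, rfl⟩) (w.le_rad2 hp (odd_core _) hA)) hog⟩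

end Wc

namespace Full

variable [Fact p.Prime] {P : Sylow p G} {A : Subgroup G} {T : Sylow 2 G} {c : G}

theorem elim (F : Full p P A T c) (nf : NoFixed G) (hp : p ≠ 2) : False := by
  classical
  haveI : Fact (Nat.Prime 2) := ⟨Nat.prime_two⟩
  have hyp := F.hyp
  have w := F.wc
  haveI := hyp.simple
  set N := normalizer (A : Set G)
  set K : Subgroup G := ⨆ a : {a : G // a ∈ A ∧ a ≠ 1}, theta p a with hK
  obtain ⟨hKp, hKcent⟩ := Cfsg.Agent.S0217.result A w.comm w.exp F.rank (theta p)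
    (fun a ha ha1 => (rad_le _).trans (core_le _))
    (fun a ha ha1 => not_dvd_card_rad _)
    (fun a ha ha1 b hb x hx => w.theta_mem_conj hyp nf hp ha ha1 (mem_cent.2 (w.comm b hb a ha)) (w.odd hp hb) hx)
    (fun a ha ha1 => Cfsg.Agent.S0205.result ((odd_core (Cent a)).of_dvd_nat (card_dvd_of_le (rad_le _))))
    (fun a ha ha1 b hb hb1 => w.balance hyp nf hp ha ha1 hb hb1)
  have hKp : ¬ p ∣ Nat.card K := hKp
  have hNK : N ≤ normalizer (K : Set G) := by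
    have hle : ∀ n ∈ N, ∀ x ∈ K, n * x * n⁻¹ ∈ K := fun n hn x hx => by
      have h1 : K.map (MulAut.conj n).toMonoidHom ≤ K := by
        rw [hK, Subgroup.map_iSup, iSup_le_iff]
        intro a
        rw [map_theta]
        exact le_iSup (fun b : {a : G // a ∈ A ∧ a ≠ 1} => theta p (b : G))
          ⟨n * a.1 * n⁻¹, (mem_normalizer_iff.1 hn a.1).1 a.2.1, fun h => a.2.2 (conj_eq_one_iff.1 h)⟩
      exact h1 ⟨x, hx, rfl⟩
    exact fun n hn => mem_normalizer_iff.2 fun x =>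
      ⟨hle n hn x, fun hx => by simpa [mul_assoc] using hle _ (inv_mem hn) _ hx⟩
  have hAN : A ≤ N := Subgroup.le_normalizer
  have hcN : c ∈ N := F.Tle hyp.memS
  haveI := w.isMulCommutative
  obtain ⟨kA, hkA⟩ := w.isPGroup.exists_card_eq
  have hAnc : ¬ IsCyclic A := not_isCyclic_of_exp w.exp (lt_of_lt_of_le
    (lt_self_pow₀ (Fact.out : p.Prime).one_lt (by norm_num)) F.rank)
  have hKodd : Odd (Nat.card K) := by
    have hcop : (Nat.card A).Coprime (Nat.card K) :=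
      hkA ▸ ((Fact.out : p.Prime).coprime_iff_not_dvd.2 hKp).pow_left kA
    obtain ⟨R, hR⟩ := Coprime.exists_invariant_sylow (hAN.trans hNK) hcop
      (Or.inl (Cfsg.Agent.S0205.result (hkA ▸ ((Fact.out : p.Prime).odd_of_ne_two hp).pow))) 2
    set R' := (R : Subgroup K).map K.subtype
    have hbot : (⊥ : Subgroup G) = R' := Coprime.eq_of_forall_centralizer_le hAnc hR
      (hcop.coprime_dvd_right (card_dvd_of_le (map_subtype_le _))) bot_le fun a ha ha1 y hy => by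
        have h1 : y ∈ theta p a := (hKcent a ha ha1).le ⟨map_subtype_le _ hy.1, hy.2⟩
        exact Subgroup.mem_bot.2 (eq_one_of_pow_prime (p := 2)
          (fun hd => Nat.not_even_iff_odd.2 (odd_core (Cent a)) (even_iff_two_dvd.2
            (hd.trans (card_dvd_of_le (rad_le (core (Cent a)))))))
          h1 (pow_prime_of_pGroup (R.2.map _) hy.1))
    have hR1 : Nat.card (R : Subgroup K) = 1 := by
      rw [← card_map_of_injective (K := (R : Subgroup K)) K.subtype_injective]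
      exact Subgroup.card_eq_one.2 hbot.symm
    rw [R.card_eq_multiplicity, Nat.pow_eq_one] at hR1
    exact Nat.not_even_iff_odd.1 fun he => by
      have := (Nat.prime_two.dvd_iff_one_le_factorization Nat.card_pos.ne').1 (even_iff_two_dvd.1 he)
      omega
  set H := K ⊔ N with hHdef
  have hHmem : ∀ x ∈ H, ∃ κ ∈ K, ∃ n ∈ N, κ * n = x := fun x hx => by
    rwa [← SetLike.mem_coe, coe_mul_of_right_le_normalizer_left K N hNK] at hx
  have hKH : K ≤ H := le_sup_left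
  have hNH : N ≤ H := le_sup_right
  have hPH : (P : Subgroup G) ≤ H := F.Ple.trans hNH
  have hHK : H ≤ normalizer (K : Set G) := sup_le Subgroup.le_normalizer hNK
  have hHtop : H ≠ ⊤ := by
    intro htop
    haveI : K.Normal := normalizer_eq_top_iff.1 (top_le_iff.1 (htop ▸ hHK))
    rcases Normal.eq_bot_or_eq_top (H := K) inferInstance with hb | ht
    · rw [hHdef, hb, bot_sup_eq] at htop
      exact w.normalizer_ne_top hyp htop
    · rw [ht, Subgroup.card_top] at hKodd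
      exact Nat.not_even_iff_odd.2 hKodd (even_iff_two_dvd.2 (hyp.orderT ▸ orderOf_dvd_natCard c))
  have hCa : ∀ a ∈ A, a ≠ 1 → Cent a ≤ H := fun a ha ha1 g hg => by
    obtain ⟨o, ho, hog⟩ := w.cent_le hyp nf hp ha ha1 hg
    have hoK : o ∈ K := le_iSup (fun b : {a : G // a ∈ A ∧ a ≠ 1} => theta p (b : G)) ⟨a, ha, ha1⟩ ho
    simpa using mul_mem (inv_mem (hKH hoK)) (hNH hog)
  have hCc : Cent c ≤ H := by
    obtain ⟨e, he, he1, hec⟩ := F.fixes
    refine (hyp.cent_le_sup hyp.orderT hyp).trans (sup_le ?_ (F.Tle.trans hNH))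
    intro z hz
    exact hCa e he he1 (mem_cent.2 (hyp.oCore_comm nf hyp.orderT hz
      ((hyp.mem_oCore_iff hyp.orderT).2 ⟨mem_cent.2 hec.eq, w.odd hp he⟩)).eq)
  have oneH : ∀ i ∈ H, orderOf i = 2 → ∃ h ∈ H, h * i * h⁻¹ = c := fun i hi hi2 => by
    obtain ⟨h, hh, hhi⟩ := exists_conj_mem T (F.Tle.trans hNH) hi ⟨1, by rw [pow_one, ← hi2, pow_orderOf_eq_one]⟩
    obtain ⟨n, hn, hni⟩ := F.oneClass _ (F.Tle hhi) ((MulEquiv.orderOf_eq (MulAut.conj h) i).trans hi2)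
    exact ⟨n * h, mul_mem (hNH hn) hh, by rw [← hni]; group⟩
  have hCi : ∀ i ∈ H, orderOf i = 2 → Cent i ≤ H := fun i hi hi2 g hg => by
    obtain ⟨h, hh, hhi⟩ := oneH i hi hi2
    have h1 : h * g * h⁻¹ ∈ Cent c := mem_cent.2 (by rw [← hhi, conj_mul, conj_mul, mem_cent.1 hg])
    simpa [mul_assoc] using mul_mem (mul_mem (inv_mem hh) (hCc h1)) hh
  set KA := K ⊔ A with hKAdef
  have hHKA : H ≤ normalizer (KA : Set G) := sup_le (le_sup_left.trans Subgroup.le_normalizer) fun n hn =>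
    mem_normalizer_iff_map_conj_eq.2 (by
      rw [hKAdef, Subgroup.map_sup, mem_normalizer_iff_map_conj_eq.1 (hNK hn),
        mem_normalizer_iff_map_conj_eq.1 hn])
  have hKAmem : ∀ x ∈ KA, ∃ κ ∈ K, ∃ α ∈ A, κ * α = x := fun x hx => by
    rwa [← SetLike.mem_coe, coe_mul_of_right_le_normalizer_left K A (hAN.trans hNK)] at hx
  have hKA_N : ∀ x ∈ KA, x ∈ N → ∀ β ∈ A, x * β = β * x := by
    intro x hx hxN β hβ
    obtain ⟨κ, hκ, α, hα, rfl⟩ := hKAmem x hx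
    have hκN : κ ∈ N := by simpa using mul_mem hxN (inv_mem (hAN hα))
    have h1 : κ * β * κ⁻¹ * β⁻¹ ∈ A := mul_mem ((mem_normalizer_iff.1 hκN β).1 hβ) (inv_mem hβ)
    have h2 : κ * β * κ⁻¹ * β⁻¹ ∈ K := by
      rw [mul_assoc κ, mul_assoc κ]
      exact mul_mem hκ ((mem_normalizer_iff.1 (hNK (hAN hβ)) κ⁻¹).1 (inv_mem hκ))
    have h3 := eq_one_of_pow_prime hKp h2 (pow_prime_of_pGroup w.isPGroup h1)
    rw [mul_assoc κ α, w.comm α hα β hβ, ← mul_assoc, mul_inv_eq_iff_eq_mul.1 (mul_inv_eq_one.1 h3), mul_assoc]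
  have wcA : ∀ α ∈ A, α ≠ 1 → ∀ g : G, g * α * g⁻¹ ∈ H → g ∈ H := by
    intro α hα hα1 g hg
    obtain ⟨k, hk⟩ := pow_prime_of_pGroup w.isPGroup hα
    have hk' : (g * α * g⁻¹) ^ p ^ k = 1 := by rw [conj_pow, hk, mul_one, mul_inv_cancel]
    obtain ⟨h, hh, hhg⟩ := exists_conj_mem P hPH hg ⟨k, hk'⟩
    obtain ⟨n, hn, hne⟩ := w.fus α _ (hAN hα) (F.Ple hhg) ⟨k, hk⟩ (isConj_iff.2 ⟨h * g, by group⟩)
    have h1 : n⁻¹ * h * g ∈ Cent α := mem_cent.2 (by
      calc n⁻¹ * h * g * α = n⁻¹ * (h * (g * α * g⁻¹) * h⁻¹) * h * g := by group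
        _ = α * (n⁻¹ * h * g) := by rw [← hne]; group)
    simpa [mul_assoc] using mul_mem (mul_mem (inv_mem hh) (hNH hn)) (hCa α hα hα1 h1)
  have wcKA : ∀ b ∈ KA, (∃ k, b ^ p ^ k = 1) → b ≠ 1 → ∀ g : G, g * b * g⁻¹ ∈ H → g ∈ H := by
    intro b hb hbp hb1 g hg
    obtain ⟨h, hh, hhb⟩ := exists_conj_mem P hPH (sup_le hKH (hAN.trans hNH) hb) hbp
    obtain ⟨κ, hκ, α, hα, e⟩ := hKAmem _ ((mem_normalizer_iff.1 (hHKA hh) b).1 hb)
    have hκP : κ ∈ (P : Subgroup G) := by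
      have h2 := mul_mem hhb (inv_mem (F.leP hα))
      rwa [← e, mul_inv_cancel_right] at h2
    rw [eq_one_of_pow_prime hKp hκ (pow_prime_of_pGroup P.2 hκP), one_mul] at e
    have h1 := wcA α hα (fun h0 => hb1 (conj_eq_one_iff.1 (e ▸ h0 :))) (g * h⁻¹) (by
      rw [e, show g * h⁻¹ * (h * b * h⁻¹) * (g * h⁻¹)⁻¹ = g * b * g⁻¹ by group]; exact hg)
    simpa using mul_mem h1 hh
  have hSE : Cfsg.IsStronglyEmbedded H := by
    refine ⟨hHtop, even_iff_two_dvd.2 (hyp.orderT ▸ Subgroup.orderOf_dvd_natCard H (hNH hcN)),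
      fun g hg => Nat.not_even_iff_odd.1 fun he => hg ?_⟩
    obtain ⟨i, hi⟩ := exists_prime_orderOf_dvd_card' (G := (H ⊓ H.map (MulAut.conj g).toMonoidHom : Subgroup G))
      2 (even_iff_two_dvd.1 he)
    obtain ⟨hiH, j, hj, hji⟩ := mem_inf.1 i.2
    rw [← Subgroup.orderOf_coe] at hi
    have hji : g * j * g⁻¹ = (i : G) := hji
    have hj2 : orderOf j = 2 := by rw [← hi, ← hji]; exact (MulEquiv.orderOf_eq (MulAut.conj g) j).symm
    obtain ⟨h₁, hh₁, e₁⟩ := oneH _ hiH hi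
    obtain ⟨h₂, hh₂, e₂⟩ := oneH _ hj hj2
    have hC : h₁ * g * h₂⁻¹ ∈ Cent c := mem_cent.2 (by
      calc h₁ * g * h₂⁻¹ * c = h₁ * (g * j * g⁻¹) * g * h₂⁻¹ := by rw [← e₂]; group
        _ = c * (h₁ * g * h₂⁻¹) := by rw [hji, ← e₁]; group)
    simpa [mul_assoc] using mul_mem (mul_mem (inv_mem hh₁) (hCc hC)) hh₂
  obtain ⟨u, hu, huH⟩ : ∃ u : G, orderOf u = 2 ∧ u ∉ H := by
    obtain ⟨g, hg⟩ : ∃ g : G, g ∉ H := by
      by_contra h; push Not at h; exact hHtop (eq_top_iff.2 fun g _ => h g)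
    refine ⟨g * c * g⁻¹, (MulEquiv.orderOf_eq (MulAut.conj g) c).trans hyp.orderT, fun hgc => hg ?_⟩
    obtain ⟨h, hh, e⟩ := oneH _ hgc ((MulEquiv.orderOf_eq (MulAut.conj g) c).trans hyp.orderT)
    have hC : h * g ∈ Cent c := mem_cent.2 (by
      calc h * g * c = h * (g * c * g⁻¹) * h⁻¹ * (h * g) := by group
        _ = c * (h * g) := by rw [e])
    simpa using mul_mem (inv_mem hh) (hCc hC)
  let G₀ : Subgroup G :=
    { carrier := {h | h ∈ H ∧ h * c * h⁻¹ * c⁻¹ ∈ KA}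
      one_mem' := ⟨one_mem _, by simp⟩
      mul_mem' := fun {g h} hg hh => ⟨mul_mem hg.1 hh.1, by
        rw [show g * h * c * (g * h)⁻¹ * c⁻¹ = g * (h * c * h⁻¹ * c⁻¹) * g⁻¹ * (g * c * g⁻¹ * c⁻¹) by group]
        exact mul_mem ((mem_normalizer_iff.1 (hHKA hg.1) _).1 hh.2) hg.2⟩
      inv_mem' := fun {g} hg => ⟨inv_mem hg.1, by
        rw [show g⁻¹ * c * g⁻¹⁻¹ * c⁻¹ = g⁻¹ * (g * c * g⁻¹ * c⁻¹)⁻¹ * g⁻¹⁻¹ by group]
        exact (mem_normalizer_iff.1 (hHKA (inv_mem hg.1)) _).1 (inv_mem hg.2)⟩ }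
  have hKAG₀ : KA ≤ G₀ := fun x hx => ⟨sup_le hKH (hAN.trans hNH) hx, by
    rw [mul_assoc x, mul_assoc x]
    exact mul_mem hx ((mem_normalizer_iff.1 (hHKA (hNH hcN)) _).1 (inv_mem hx))⟩
  set D := H ⊓ H.map (MulAut.conj u).toMonoidHom
  set C₀ := (Cent c).subgroupOf G₀ with hC₀
  have hcov : ∀ g : G₀, ∃ d ∈ D.subgroupOf G₀, d⁻¹ * g ∈ C₀ := by
    rintro ⟨g, hg⟩
    obtain ⟨⟨d, hd, hdc⟩, -⟩ := Cfsg.Agent.S1225.result H hSE u hu huH c (g * c * g⁻¹) hyp.orderT (hNH hcN)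
      ((MulEquiv.orderOf_eq (MulAut.conj g) c).trans hyp.orderT)
      (mul_mem (mul_mem hg.1 (hNH hcN)) (inv_mem hg.1))
    have hdG : d ∈ G₀ := ⟨(mem_inf.1 hd).1, by rw [hdc]; exact hg.2⟩
    refine ⟨⟨d, hdG⟩, hd, ?_⟩
    show d⁻¹ * g ∈ Cent c
    refine mem_cent.2 ?_
    calc d⁻¹ * g * c = d⁻¹ * (g * c * g⁻¹) * g := by group
      _ = c * (d⁻¹ * g) := by rw [← hdc]; group
  have hpidx : p ∣ C₀.index := by
    by_contra hnd
    obtain ⟨R⟩ : Nonempty (Sylow p C₀) := inferInstance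
    have hidx : ¬ p ∣ ((R : Subgroup C₀).map C₀.subtype).index := by
      rw [Subgroup.index_map_subtype]
      exact fun h => ((Fact.out : p.Prime).dvd_mul.1 h).elim R.not_dvd_index hnd
    obtain ⟨Q, hQ⟩ := (w.isPGroup.comap_subtype : IsPGroup p (A.subgroupOf G₀)).exists_le_sylow
    obtain ⟨g, hg⟩ := MulAction.exists_smul_eq G₀ Q ((R.2.map C₀.subtype).toSylow hidx)
    set i := (g : G)⁻¹ * c * g with hi
    have hiA : ∀ β ∈ A, i * β = β * i := fun β hβ => by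
      have h1 : g * ⟨β, hKAG₀ (mem_sup_right hβ)⟩ * g⁻¹ ∈ (R : Subgroup C₀).map C₀.subtype := by
        have h2 := Subgroup.smul_mem_pointwise_smul (⟨β, hKAG₀ (mem_sup_right hβ)⟩ : G₀) (MulAut.conj g)
          (Q : Subgroup G₀) (hQ hβ)
        rw [show MulAut.conj g • (Q : Subgroup G₀) = ((g • Q : Sylow p G₀) : Subgroup G₀) from rfl, hg] at h2
        exact h2
      obtain ⟨r, -, hr⟩ := h1
      have h3 : (g : G) * β * (g : G)⁻¹ ∈ Cent c := by
        have := mem_subgroupOf.1 r.2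
        rwa [show ((r : G₀) : G) = (g : G) * β * (g : G)⁻¹ from congrArg Subtype.val hr] at this
      calc i * β = (g : G)⁻¹ * (c * ((g : G) * β * (g : G)⁻¹)) * g := by rw [hi]; group
        _ = (g : G)⁻¹ * ((g : G) * β * (g : G)⁻¹ * c) * g := by rw [mem_cent.1 h3]
        _ = β * i := by rw [hi]; group
    have hiN : i ∈ N := mem_normalizer_iff.2 fun β => ⟨fun hβ => by rwa [hiA β hβ, mul_inv_cancel_right],
      fun hβ => by
        have := hiA _ hβ
        rw [show i * β * i⁻¹ * i = i * β by group] at this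
        exact mul_left_cancel this ▸ hβ⟩
    have hx : i * c⁻¹ ∈ KA := by
      have := (inv_mem g.2).2
      rwa [inv_inv] at this
    obtain ⟨e, he, hec⟩ := F.moves
    refine hec (show e * c = c * e from ?_)
    have h4 := hKA_N _ hx (mul_mem hiN (inv_mem hcN)) e he
    calc e * c = (e * (i * c⁻¹)⁻¹) * i := by group
      _ = ((i * c⁻¹)⁻¹ * e) * i := by rw [((show Commute (i * c⁻¹) e from h4).inv_left).eq]
      _ = (i * c⁻¹)⁻¹ * (i * e) := by rw [hiA e he]; group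
      _ = c * e := by group
  obtain ⟨y₀, hy₀⟩ := exists_prime_orderOf_dvd_card' (G := D.subgroupOf G₀) p
    (hpidx.trans (index_dvd_of_cover C₀ _ hcov))
  have hyo : orderOf ((y₀ : G₀) : G) = p := by rw [Subgroup.orderOf_coe, Subgroup.orderOf_coe, hy₀]
  obtain ⟨hyH, z, hz, hzy⟩ := mem_inf.1 (show ((y₀ : G₀) : G) ∈ D from y₀.2)
  set y₁ : G := ((y₀ : G₀) : G) with hy₁
  have hy₁p : y₁ ^ p = 1 := by rw [← hyo, pow_orderOf_eq_one]
  -- conjugate into `N` by an element of `K`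
  obtain ⟨k, hk, hkN⟩ : ∃ k ∈ K, k * y₁ * k⁻¹ ∈ N := by
    obtain ⟨h, hh, hhy⟩ := exists_conj_mem P hPH hyH ⟨1, by rw [pow_one]; exact hy₁p⟩
    obtain ⟨κ, hκ, n, hn, rfl⟩ := hHmem h hh
    refine ⟨n⁻¹ * κ * n, by simpa using (mem_normalizer_iff.1 (hNK (inv_mem hn)) κ).1 hκ, ?_⟩
    have := mul_mem (mul_mem (inv_mem hn) (F.Ple hhy)) hn
    convert this using 1
    group
  set y := k * y₁ * k⁻¹ with hy
  set u' := k * u * k⁻¹ with hu'
  have hu'H : u' ∉ H := fun h => huH (by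
    simpa [hu', mul_assoc] using mul_mem (mul_mem (inv_mem (hKH hk)) h) (hKH hk))
  have huy : u' * y * u'⁻¹ ∈ H := by
    have hz' : u * y₁ * u⁻¹ = z := by
      rw [show y₁ = u * z * u⁻¹ from hzy.symm,
        show u * (u * z * u⁻¹) * u⁻¹ = u * u * z * (u * u)⁻¹ by group, sq_of_order hu]
      simp
    rw [show u' * y * u'⁻¹ = k * (u * y₁ * u⁻¹) * k⁻¹ by rw [hu', hy]; group, hz']
    exact mul_mem (mul_mem (hKH hk) hz) (inv_mem (hKH hk))
  have hyG : y ∈ G₀ :=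
    mul_mem (mul_mem (hKAG₀ (mem_sup_left hk)) (y₀ : G₀).2) (inv_mem (hKAG₀ (mem_sup_left hk)))
  have hyp' : y ^ p = 1 := by rw [hy, conj_pow, hy₁p, mul_one, mul_inv_cancel]
  have hy1 : y ≠ 1 := fun h => by
    rw [show y₁ = 1 from conj_eq_one_iff.1 h, orderOf_one] at hyo
    exact (Fact.out : p.Prime).ne_one hyo.symm
  have hyodd : Odd (orderOf y) := odd_of_pow hp ⟨1, by rwa [pow_one]⟩
  -- `y` commutes with the action of `c` on `A`
  have hact : ∀ α ∈ A, y * (c * α * c⁻¹) * y⁻¹ = c * (y * α * y⁻¹) * c⁻¹ := by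
    intro α hα
    set x := y * c * y⁻¹ * c⁻¹ with hx
    have h1 := hKA_N x hyG.2 (mul_mem (mul_mem (mul_mem hkN hcN) (inv_mem hkN)) (inv_mem hcN))
      (c * (y * α * y⁻¹) * c⁻¹) ((mem_normalizer_iff.1 hcN _).1 ((mem_normalizer_iff.1 hkN α).1 hα))
    calc y * (c * α * c⁻¹) * y⁻¹ = x * (c * (y * α * y⁻¹) * c⁻¹) * x⁻¹ := by rw [hx]; group
      _ = c * (y * α * y⁻¹) * c⁻¹ := by rw [h1, mul_inv_cancel_right]
  have hyz : IsPGroup p (zpowers y) := IsPGroup.of_card (n := 1) (by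
    rw [Nat.card_zpowers, pow_one]
    exact orderOf_eq_prime hyp' hy1)
  have fixed : ∀ U : Subgroup G, U ≤ A → U ≠ ⊥ →
      (∀ α ∈ U, y * α * y⁻¹ ∈ U) → ∃ α ∈ U, α ≠ 1 ∧ Commute α y := by
    intro U hU hU1 hyU
    have hyn : y ∈ normalizer (U : Set G) := mem_normalizer_iff_map_conj_eq.2
      (Subgroup.eq_of_le_of_card_ge (by rintro _ ⟨α, hα, rfl⟩; exact hyU α hα)
        (card_map_of_injective (MulAut.conj y).injective).ge)
    obtain ⟨α, hα, hα1, hαc⟩ := BaumannBlock.exists_fixed_of_pGroup (w.isPGroup.to_le hU) hU1 hyz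
      (zpowers_le.2 hyn)
    exact ⟨α, hα, hα1, (mem_centralizer_iff.1 hαc y (mem_zpowers y)).symm⟩
  obtain ⟨e₁, he₁, he₁1, he₁c⟩ := F.fixes
  obtain ⟨b₁, hb₁, hb₁1, hb₁y⟩ := fixed (A ⊓ Cent c) inf_le_left
    (fun h => he₁1 (Subgroup.mem_bot.1 (h.le (mem_inf.2 ⟨he₁, mem_cent.2 he₁c.eq⟩)))) (fun α hα => by
      obtain ⟨hαA, hαc⟩ := mem_inf.1 hα
      refine mem_inf.2 ⟨(mem_normalizer_iff.1 hkN α).1 hαA, mem_cent.2 ?_⟩
      have h := hact α hαA
      rw [← mem_cent.1 hαc, mul_inv_cancel_right] at h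
      exact (mul_inv_eq_iff_eq_mul.1 h.symm).symm)
  let M : Subgroup G :=
    { carrier := {α | α ∈ A ∧ c * α * c⁻¹ = α⁻¹}
      one_mem' := ⟨one_mem _, by simp⟩
      mul_mem' := fun {a b} ha hb => ⟨mul_mem ha.1 hb.1, by
        rw [← conj_mul, ha.2, hb.2, ← mul_inv_rev, w.comm b hb.1 a ha.1]⟩
      inv_mem' := fun {a} ha => ⟨inv_mem ha.1, by rw [← conj_inv, ha.2]⟩ }
  have hMne : M ≠ ⊥ := by
    obtain ⟨e, he, hec⟩ := F.moves
    intro hbot
    have h1 : c * e * c⁻¹ ∈ A := (mem_normalizer_iff.1 hcN e).1 he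
    have h2 : c * e * c⁻¹ * e⁻¹ ∈ M := ⟨mul_mem h1 (inv_mem he), by
      rw [show c * (c * e * c⁻¹ * e⁻¹) * c⁻¹ = c * c * e * (c * c)⁻¹ * (c * e * c⁻¹)⁻¹ by group,
        sq_of_order hyp.orderT, mul_inv_rev, inv_inv]
      simp⟩
    rw [hbot, Subgroup.mem_bot] at h2
    exact hec ((mul_inv_eq_iff_eq_mul.1 (mul_inv_eq_one.1 h2)).symm)
  obtain ⟨b₂, hb₂, hb₂1, hb₂y⟩ := fixed M (fun α hα => hα.1) hMne fun α hα =>
    ⟨(mem_normalizer_iff.1 hkN α).1 hα.1, by rw [← hact α hα.1, hα.2]; exact conj_inv.symm⟩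
  set B := zpowers b₁ ⊔ zpowers b₂
  have hBA : B ≤ A := sup_le (zpowers_le.2 (mem_inf.1 hb₁).1) (zpowers_le.2 hb₂.1)
  have hBy : B ≤ Cent y := sup_le (zpowers_le.2 (mem_cent.2 hb₁y.eq)) (zpowers_le.2 (mem_cent.2 hb₂y.eq))
  haveI : IsMulCommutative B := ⟨⟨fun a b => Subtype.ext (w.comm a (hBA a.2) b (hBA b.2))⟩⟩
  have hBnc : ¬ IsCyclic B := by
    refine not_isCyclic_of_exp (fun b hb => w.exp b (hBA hb)) (lt_of_le_of_ne ?_ fun hc => ?_)
    · rw [← orderOf_eq_prime (w.exp b₁ (mem_inf.1 hb₁).1) hb₁1]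
      exact Nat.le_of_dvd Nat.card_pos (Subgroup.orderOf_dvd_natCard B (mem_sup_left (mem_zpowers _)))
    · have hB1 : zpowers b₁ = B := Subgroup.eq_of_le_of_card_ge le_sup_left (by
        rw [← hc, Nat.card_zpowers, orderOf_eq_prime (w.exp b₁ (mem_inf.1 hb₁).1) hb₁1])
      obtain ⟨j, hj⟩ := mem_zpowers_iff.1 (hB1.ge (mem_sup_right (mem_zpowers b₂)))
      have hcb : Commute c b₂ := hj ▸ (show Commute c b₁ from (mem_cent.1 (mem_inf.1 hb₁).2).symm).zpow_right j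
      have h1 := hb₂.2
      rw [hcb.eq, mul_inv_cancel_right] at h1
      have h2 : b₂ ^ 2 = 1 := by rw [pow_two]; nth_rw 2 [h1]; exact mul_inv_cancel b₂
      exact hb₂1 (orderOf_eq_one_iff.1 (Nat.eq_one_of_dvd_coprimes (Nat.coprime_two_right.2 (w.odd hp hb₂.1))
        dvd_rfl (orderOf_dvd_of_pow_eq_one h2)))
  -- `Cent y ≤ H`
  have hCy : Cent y ≤ H := by
    set W := core (Cent y)
    have hWodd : Odd (Nat.card W) := odd_core (Cent y)
    haveI := Cfsg.Agent.S0205.result hWodd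
    have hBW : B ≤ W := fun b hb =>
      (hyp.core_spec (hyp.no_pair_cent nf hy1 hyodd)).1 b (hBy hb) (w.odd hp (hBA hb))
    obtain ⟨Q, hQ⟩ := ((w.isPGroup.to_le hBA).comap_subtype : IsPGroup p (B.subgroupOf W)).exists_le_sylow
    set Q' := (Q : Subgroup W).map W.subtype
    have hBQ : B ≤ Q' := fun b hb => ⟨⟨b, hBW hb⟩, hQ hb, rfl⟩
    have hBH : B ≤ H := hBA.trans (hAN.trans hNH)
    have hb₁B : b₁ ∈ B := mem_sup_left (mem_zpowers _)
    have hQH : Q' ≤ H := by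
      rw [← subgroupOf_eq_top]
      by_contra hne
      obtain ⟨g, hgN, hgU⟩ := SetLike.exists_of_lt (PGroup.lt_normalizer (Q.2.map W.subtype) hne)
      refine hgU (mem_subgroupOf.2 (wcA b₁ (hBA hb₁B) hb₁1 g ?_))
      exact (mem_normalizer_iff.1 hgN ⟨b₁, hBQ hb₁B⟩).1 (mem_subgroupOf.2 (hBH hb₁B))
    set O := rad p W
    obtain ⟨kB, hkB⟩ := (w.isPGroup.to_le hBA).exists_card_eq
    have hOH : O ≤ H := by
      have := Coprime.eq_of_forall_centralizer_le (A := B) (K := O) (S := O ⊓ H) hBnc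
        ((hBW.trans Subgroup.le_normalizer).trans (normalizer_le_rad W))
        (hkB ▸ ((Fact.out : p.Prime).coprime_iff_not_dvd.2 (not_dvd_card_rad W)).pow_left kB) inf_le_left
        fun b hb hb1 => inf_le_inf_left O (hCa b (hBA hb) hb1)
      exact this.ge.trans inf_le_right
    set Q2 := Q' ⊓ rad2 p W
    obtain ⟨b, hbQ, hbKA, hb1⟩ : ∃ b ∈ Q2, b ∈ KA ∧ b ≠ 1 := by
      by_contra hno
      push Not at hno
      refine hb₁1 (hno b₁ (mem_inf.2 ⟨hBQ hb₁B, (mem_rad2 (hBW hb₁B)).2 ?_⟩) (mem_sup_right (hBA hb₁B)))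
      refine OddOrder.centralizer_pCore_le PCore.pPrimeCore_quotient_self_eq_bot
        (mem_centralizer_iff.2 fun v hv => ?_)
      have h1 := PCore.pCore_le_sylow (Q.mapSurjective (QuotientGroup.mk'_surjective _)) hv
      rw [Sylow.coe_mapSurjective] at h1
      obtain ⟨q, hq, rfl⟩ := h1
      have hqQ : (q : G) ∈ Q' := ⟨q, hq, rfl⟩
      have hqR : (q : G) ∈ rad2 p W := (mem_rad2 q.2).2 hv
      have h2 : b₁ * q * b₁⁻¹ * (q : G)⁻¹ = 1 := hno _ (mem_inf.2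
        ⟨mul_mem (mul_mem (mul_mem (hBQ hb₁B) hqQ) (inv_mem (hBQ hb₁B))) (inv_mem hqQ),
          mul_mem ((mem_normalizer_iff.1 (normalizer_le_rad2 W (Subgroup.le_normalizer (hBW hb₁B))) q).1 hqR)
            (inv_mem hqR)⟩) (by
        rw [mul_assoc b₁, mul_assoc b₁]
        exact mul_mem (mem_sup_right (hBA hb₁B)) ((mem_normalizer_iff.1 (hHKA (hQH hqQ)) _).1
          (inv_mem (mem_sup_right (hBA hb₁B)))))
      have h3 : (⟨b₁, hBW hb₁B⟩ : W) * q = q * ⟨b₁, hBW hb₁B⟩ :=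
        Subtype.ext (mul_inv_eq_iff_eq_mul.1 (mul_inv_eq_one.1 h2))
      exact ((map_mul (QuotientGroup.mk' (Cfsg.pPrimeCore p W)) _ _).symm.trans
        ((congrArg _ h3).trans (map_mul _ _ _))).symm
    intro g hg
    obtain ⟨o, ho, hog⟩ := frattini_rad2 Q (le_normalizer_core (Cent y) hg)
    have hb' : o * g * b * (o * g)⁻¹ ∈ Q2 := (mem_normalizer_iff.1 hog b).1 hbQ
    have h1 : o * g ∈ H := wcKA b hbKA (pow_prime_of_pGroup (Q.2.map W.subtype) (mem_inf.1 hbQ).1) hb1 _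
      (hQH (mem_inf.1 hb').1)
    simpa using mul_mem (inv_mem (hOH ho)) h1
  obtain ⟨h, hh, hhy⟩ := exists_conj_mem P hPH huy
    ⟨1, by rw [pow_one, conj_pow, hyp', mul_one, mul_inv_cancel]⟩
  obtain ⟨n, hn, hne⟩ := w.fus y _ hkN (F.Ple hhy) ⟨1, by rwa [pow_one]⟩ (isConj_iff.2 ⟨h * u', by group⟩)
  have h1 : n⁻¹ * h * u' ∈ Cent y := mem_cent.2 (by
    calc n⁻¹ * h * u' * y = n⁻¹ * (h * (u' * y * u'⁻¹) * h⁻¹) * h * u' := by group
      _ = y * (n⁻¹ * h * u') := by rw [← hne]; group)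
  exact hu'H (by simpa [mul_assoc] using mul_mem (mul_mem (inv_mem hh) (hNH hn)) (hCy h1))

end Full

/-- With fixed points excluded, `|G|_p` divides `|oCore t|` for every prime `p` dividing `|oCore t|`. -/
theorem Hyp.card_dvd_oCore (hyp : Hyp S t) (nf : NoFixed G) [Fact p.Prime] (hd : p ∣ Nat.card (oCore t))
    {Q : Subgroup G} (hQ : IsPGroup p Q) : Nat.card Q ∣ Nat.card (oCore t) := by
  rcases hyp.dichotomy nf hd with h | ⟨P, A, T, c, F⟩
  · exact h Q hQ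
  · refine (F.elim nf ?_).elim
    rintro rfl
    exact (Nat.not_even_iff_odd.2 (hyp.odd_oCore t)) (even_iff_two_dvd.2 hd)

end Cfsg.Agent.GW
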