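import Cfsg.Agent.Lib.PSL2.Basic
import Mathlib.Algebra.QuadraticAlgebra.Basic

/-!
# Two tori of outer involutions of `PSL₂(q)` generate

`SL₂(F)` is written as pairs `(A, B)` over `F[√c]` with determinant `N A - N B`.  A subgroup containing
the centraliser of `√c` and the projective centraliser of an anticommuting matrix of nonsquare
determinant contains more than a fifth of the elements.
-/

set_option autoImplicit false
set_option linter.unusedSectionVars false
set_option linter.style.haveILetI false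

namespace Cfsg.Agent.GW.OuterGen

open Matrix QuadraticAlgebra
open scoped MatrixGroups

variable {F : Type*} [Field F]

/-- The norm one elements. -/
def circ (e : F) : Subgroup (QuadraticAlgebra F e 0)ˣ :=
  (Units.map (QuadraticAlgebra.norm : QuadraticAlgebra F e 0 →* F)).ker

theorem mem_circ {e : F} {u : (QuadraticAlgebra F e 0)ˣ} :
    u ∈ circ e ↔ QuadraticAlgebra.norm (u : QuadraticAlgebra F e 0) = 1 := by
  simp [circ, MonoidHom.mem_ker, Units.ext_iff]

theorem norm_eq {e : F} (z : QuadraticAlgebra F e 0) :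
    QuadraticAlgebra.norm z = z.re * z.re - e * z.im * z.im := by
  rw [QuadraticAlgebra.norm_def]; ring

instance (e : F) [Finite F] : Finite (QuadraticAlgebra F e 0) :=
  Finite.of_equiv (F × F) (QuadraticAlgebra.equivProd e 0).symm

theorem mul_star_self {e : F} (z : QuadraticAlgebra F e 0) :
    z * star z = ⟨QuadraticAlgebra.norm z, 0⟩ := by
  ext <;> simp [norm_eq] <;> ring

/-- The unit of a norm one element. -/
def circMk {e : F} (z : QuadraticAlgebra F e 0) (hz : QuadraticAlgebra.norm z = 1) : circ e :=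
  ⟨⟨z, star z, by rw [mul_star_self, hz]; rfl, by rw [mul_comm, mul_star_self, hz]; rfl⟩, mem_circ.2 hz⟩

theorem circ_norm {e : F} (u : circ e) :
    QuadraticAlgebra.norm ((u : (QuadraticAlgebra F e 0)ˣ) : QuadraticAlgebra F e 0) = 1 := mem_circ.1 u.2

theorem circ_star {e : F} (u : circ e) :
    star ((u : (QuadraticAlgebra F e 0)ˣ) : QuadraticAlgebra F e 0) =
      (((u⁻¹ : circ e) : (QuadraticAlgebra F e 0)ˣ) : QuadraticAlgebra F e 0) := by
  have h := mul_star_self ((u : (QuadraticAlgebra F e 0)ˣ) : QuadraticAlgebra F e 0)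
  rw [circ_norm] at h
  rw [Subgroup.coe_inv]
  exact (Units.inv_eq_of_mul_eq_one_right (h.trans rfl)).symm

section Circle

variable [Fintype F] {e : F}

theorem card_circ_ge (h2 : (2 : F) ≠ 0) (he : ¬ IsSquare (-e)) :
    Fintype.card F ≤ Nat.card (circ e) + 1 := by
  classical
  have he0 : e ≠ 0 := fun h => he (by rw [h, neg_zero]; exact IsSquare.zero)
  let f : Option {l : F // 1 - e * l ^ 2 ≠ 0} → circ e := fun o =>
    o.elim (circMk ⟨-1, 0⟩ (by rw [norm_eq]; simp)) fun l =>
      circMk ⟨(1 + e * l.1 ^ 2) / (1 - e * l.1 ^ 2), 2 * l.1 / (1 - e * l.1 ^ 2)⟩ (by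
        rw [norm_eq]
        have hl := l.2
        field_simp
        ring)
  have hsum : ∀ l : {l : F // 1 - e * l ^ 2 ≠ 0},
      ((f (some l) : (QuadraticAlgebra F e 0)ˣ) : QuadraticAlgebra F e 0).re + 1 = 2 / (1 - e * l.1 ^ 2) := by
    intro l
    show (1 + e * l.1 ^ 2) / (1 - e * l.1 ^ 2) + 1 = _
    have hl := l.2
    field_simp
    ring
  have hinj : Function.Injective f := by
    intro o o' h
    have hre := congrArg (fun u : circ e => ((u : (QuadraticAlgebra F e 0)ˣ) : QuadraticAlgebra F e 0).re + 1) h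
    have him := congrArg (fun u : circ e => ((u : (QuadraticAlgebra F e 0)ˣ) : QuadraticAlgebra F e 0).im) h
    rcases o with _ | l <;> rcases o' with _ | l'
    · rfl
    · exfalso
      simp only [hsum] at hre
      exact div_ne_zero h2 l'.2 (hre.symm.trans (show (-1 : F) + 1 = 0 by ring))
    · exfalso
      simp only [hsum] at hre
      exact div_ne_zero h2 l.2 (hre.trans (show (-1 : F) + 1 = 0 by ring))
    · simp only [hsum] at hre
      change 2 * l.1 / (1 - e * l.1 ^ 2) = 2 * l'.1 / (1 - e * l'.1 ^ 2) at him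
      rw [mul_div_right_comm, mul_div_right_comm, ← hre] at him
      exact congrArg some (Subtype.ext (mul_left_cancel₀ (div_ne_zero h2 l.2) him))
  have h1 := Nat.card_le_card_of_injective f hinj
  rw [Finite.card_option, Nat.card_eq_fintype_card, Fintype.card_subtype_compl] at h1
  have h3 : Fintype.card {l : F // 1 - e * l ^ 2 = 0} ≤ 2 := by
    rw [Fintype.card_subtype]
    by_cases hne : ∃ l₀ : F, 1 - e * l₀ ^ 2 = 0
    · obtain ⟨l₀, hl₀⟩ := hne
      refine (Finset.card_le_card (t := {l₀, -l₀}) fun l hl => ?_).trans Finset.card_le_two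
      have hl' : 1 - e * l ^ 2 = 0 := (Finset.mem_filter.1 hl).2
      have hz : (l - l₀) * (l + l₀) = 0 := by
        have : e * ((l - l₀) * (l + l₀)) = 0 := by linear_combination hl₀ - hl'
        exact (mul_eq_zero.1 this).resolve_left he0
      rcases mul_eq_zero.1 hz with h | h
      · simp [sub_eq_zero.1 h]
      · simp [eq_neg_of_add_eq_zero_left h]
    · push Not at hne
      simp [Finset.filter_false_of_mem fun l _ => hne l]
  omega

theorem circ_facts (h2 : (2 : F) ≠ 0) (he : ¬ IsSquare (-e)) :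
    Nat.card (circ e) % 4 = 2 ∧
      ∀ u : circ e, ∃ w : circ e,
        ((u : (QuadraticAlgebra F e 0)ˣ) : QuadraticAlgebra F e 0) =
            ((w : (QuadraticAlgebra F e 0)ˣ) : QuadraticAlgebra F e 0) * (w : (QuadraticAlgebra F e 0)ˣ) ∨
          ((u : (QuadraticAlgebra F e 0)ˣ) : QuadraticAlgebra F e 0) =
            -(((w : (QuadraticAlgebra F e 0)ˣ) : QuadraticAlgebra F e 0) * (w : (QuadraticAlgebra F e 0)ˣ)) := by
  classical
  let sq : circ e →* circ e := powMonoidHom 2
  let z : circ e := circMk ⟨-1, 0⟩ (by rw [norm_eq]; simp)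
  have hz : ∀ u : circ e, u = z ↔
      ((u : (QuadraticAlgebra F e 0)ˣ) : QuadraticAlgebra F e 0) = ⟨-1, 0⟩ := fun u =>
    ⟨fun h => by rw [h]; rfl, fun h => Subtype.ext (Units.ext h)⟩
  have hne : z ≠ 1 := fun h => by
    have h' : (-1 : F) = 1 :=
      congrArg (fun u : circ e => ((u : (QuadraticAlgebra F e 0)ˣ) : QuadraticAlgebra F e 0).re) h
    exact h2 (by linear_combination -h')
  have hker : ∀ u : circ e, u * u = 1 → u = 1 ∨ u = z := by
    intro u hu
    have hs := circ_star u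
    rw [inv_eq_of_mul_eq_one_right hu] at hs
    rcases hu' : ((u : (QuadraticAlgebra F e 0)ˣ) : QuadraticAlgebra F e 0) with ⟨x, y⟩
    have hn := circ_norm u
    rw [hu'] at hs hn
    have hy : y = 0 := by
      have := congrArg QuadraticAlgebra.im hs
      simp at this
      exact (mul_eq_zero.1 (show (2 : F) * y = 0 by linear_combination -this)).resolve_left h2
    subst hy
    rw [norm_eq] at hn
    simp at hn
    rcases mul_self_eq_one_iff.1 hn with rfl | rfl
    · exact Or.inl (Subtype.ext (Units.ext hu'))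
    · exact Or.inr ((hz u).2 hu')
  have hnsq : ∀ u : circ e, u * u ≠ z := by
    intro u hu
    rcases hu' : ((u : (QuadraticAlgebra F e 0)ˣ) : QuadraticAlgebra F e 0) with ⟨x, y⟩
    have hn := circ_norm u
    have h := (hz _).1 hu
    rw [Subgroup.coe_mul, Units.val_mul, hu'] at h
    rw [hu', norm_eq] at hn
    have h' := congrArg QuadraticAlgebra.re h
    simp at h' hn
    have hx : x = 0 := by
      have : (2 : F) * (x * x) = 0 := by linear_combination h' + hn
      exact mul_self_eq_zero.1 ((mul_eq_zero.1 this).resolve_left h2)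
    subst hx
    refine he ⟨1 / y, ?_⟩
    have hy : y ≠ 0 := fun hy => by subst hy; simp at hn
    field_simp
    linear_combination hn
  have hkc : Nat.card sq.ker = 2 := by
    refine le_antisymm ?_ ?_
    · refine (Nat.card_le_card_of_injective (fun u : sq.ker => decide (u.1 = 1)) ?_).trans (by simp)
      intro u v h
      have hu := hker u.1 (by rw [← pow_two]; exact u.2)
      have hv := hker v.1 (by rw [← pow_two]; exact v.2)
      apply Subtype.ext
      rcases hu with hu | hu <;> rcases hv with hv | hv <;> simp [hu, hv, hne] at h ⊢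
    · have hzk : z ∈ sq.ker := by
        rw [MonoidHom.mem_ker]
        show z ^ 2 = 1
        rw [pow_two]
        exact Subtype.ext (Units.ext (show (⟨-1, 0⟩ : QuadraticAlgebra F e 0) * ⟨-1, 0⟩ = 1 by ext <;> simp))
      haveI : Nontrivial sq.ker := ⟨⟨z, hzk⟩, 1, fun h => hne (congrArg Subtype.val h)⟩
      exact Finite.one_lt_card
  have hidx : sq.range.index = 2 := by
    have h1 := sq.range.index_mul_card
    have h3 := sq.ker.card_eq_card_quotient_mul_card_subgroup
    rw [Nat.card_congr (QuotientGroup.quotientKerEquivRange sq).toEquiv, hkc] at h3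
    have h4 : 0 < Nat.card sq.range := Nat.card_pos
    nlinarith
  have hodd : ¬ 2 ∣ Nat.card sq.range := fun hd => by
    obtain ⟨w', hw⟩ := exists_prime_orderOf_dvd_card' (p := 2) hd
    rw [← Subgroup.orderOf_coe] at hw
    obtain ⟨u, hu⟩ := w'.2
    generalize (w' : circ e) = w at hu hw
    rcases hker w (by rw [← pow_two, ← hw]; exact pow_orderOf_eq_one w) with h | h
    · rw [h, orderOf_one] at hw; omega
    · exact hnsq u (by rw [← pow_two]; exact hu.trans h)
  refine ⟨?_, fun u => ?_⟩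
  · rw [← sq.range.index_mul_card, hidx]; omega
  · by_cases hu : u ∈ sq.range
    · obtain ⟨w, hw⟩ := hu
      refine ⟨w, Or.inl ?_⟩
      rw [← hw, show sq w = w * w from pow_two w]
      rfl
    · have hzR : z ∉ sq.range := fun ⟨w, hw⟩ => hnsq w (by rw [← pow_two]; exact hw)
      obtain ⟨w, hw⟩ := (Subgroup.mul_mem_iff_of_index_two hidx).2 (iff_of_false hzR hu)
      refine ⟨w, Or.inr ?_⟩
      have h : ((w : (QuadraticAlgebra F e 0)ˣ) : QuadraticAlgebra F e 0) * (w : (QuadraticAlgebra F e 0)ˣ) =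
          ⟨-1, 0⟩ * ((u : (QuadraticAlgebra F e 0)ˣ) : QuadraticAlgebra F e 0) := by
        have := congrArg (fun v : circ e => ((v : (QuadraticAlgebra F e 0)ˣ) : QuadraticAlgebra F e 0)) hw
        rw [show sq w = w * w from pow_two w] at this
        exact this
      rw [h]
      ext <;> simp

end Circle

variable {c : F}

/-- The matrix of `A + B j` with `j = diag (1, -1)`. -/
def mat (A B : QuadraticAlgebra F c 0) : Matrix (Fin 2) (Fin 2) F :=
  !![A.re + B.re, c * (A.im - B.im); A.im + B.im, A.re - B.re]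

theorem mat_mul (A B A' B' : QuadraticAlgebra F c 0) :
    mat A B * mat A' B' = mat (A * A' + B * star B') (A * B' + B * star A') := by
  ext i j
  fin_cases i <;> fin_cases j <;> simp [mat, Matrix.mul_apply, Fin.sum_univ_two] <;> ring

theorem det_mat (A B : QuadraticAlgebra F c 0) :
    (mat A B).det = QuadraticAlgebra.norm A - QuadraticAlgebra.norm B := by
  simp [mat, Matrix.det_fin_two, norm_eq]; ring

theorem mat_inj (h2 : (2 : F) ≠ 0) (hc : c ≠ 0) {A B A' B' : QuadraticAlgebra F c 0}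
    (h : mat A B = mat A' B') : A = A' ∧ B = B' := by
  have e00 := congrFun (congrFun h 0) 0
  have e01 := congrFun (congrFun h 0) 1
  have e10 := congrFun (congrFun h 1) 0
  have e11 := congrFun (congrFun h 1) 1
  simp [mat] at e00 e01 e10 e11
  have e01' := e01.resolve_right hc
  refine ⟨QuadraticAlgebra.ext ?_ ?_, QuadraticAlgebra.ext ?_ ?_⟩ <;> refine mul_left_cancel₀ h2 ?_
  · linear_combination e00 + e11
  · linear_combination e01' + e10
  · linear_combination e00 - e11
  · linear_combination e10 - e01'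

theorem mat_neg (A B : QuadraticAlgebra F c 0) : -mat A B = mat (-A) (-B) := by
  ext i j
  fin_cases i <;> fin_cases j <;> simp [mat] <;> ring

/-- The element of `SL₂` with coordinates `(A, B)`. -/
def sl (A B : QuadraticAlgebra F c 0) (h : QuadraticAlgebra.norm A - QuadraticAlgebra.norm B = 1) :
    SL(2, F) := ⟨mat A B, by rw [det_mat, h]⟩

/-- `√c` as a matrix. -/
abbrev gmat (c : F) : Matrix (Fin 2) (Fin 2) F := mat (⟨0, 1⟩ : QuadraticAlgebra F c 0) 0

section Gen

variable [Fintype F]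

theorem exists_sol {d : F} (h2 : (2 : F) ≠ 0) (hd : d ≠ 0) (n : F) :
    ∃ z : QuadraticAlgebra F d 0, QuadraticAlgebra.norm z = n := by
  classical
  have hodd : Fintype.card F % 2 = 1 := FiniteField.odd_card_of_char_ne_two fun h => h2 <| by
    haveI : CharP F 2 := (ringChar.eq_iff.1 h)
    exact_mod_cast CharP.cast_eq_zero F 2
  obtain ⟨a, b, h⟩ := FiniteField.exists_root_sum_quadratic
    (f := Polynomial.C 1 * Polynomial.X ^ 2 + Polynomial.C 0 * Polynomial.X + Polynomial.C (-n))
    (g := Polynomial.C (-d) * Polynomial.X ^ 2 + Polynomial.C 0 * Polynomial.X + Polynomial.C 0)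
    (Polynomial.degree_quadratic one_ne_zero) (Polynomial.degree_quadratic (neg_ne_zero.2 hd)) hodd
  refine ⟨⟨a, b⟩, ?_⟩
  simp at h
  rw [norm_eq]
  linear_combination h

theorem card_le_four_mul {d n : F} (hd : d ≠ 0) (hn : n ≠ 0) (z : QuadraticAlgebra F d 0)
    (hz : QuadraticAlgebra.norm z = n) [DecidableEq F] [Fintype (circ d)] :
    Nat.card (circ d) ≤ 4 * (Finset.univ.image fun t : circ d =>
      (z * ((t : (QuadraticAlgebra F d 0)ˣ) : QuadraticAlgebra F d 0)).re ^ 2).card := by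
  classical
  rw [Nat.card_eq_fintype_card, ← Finset.card_univ]
  refine Finset.card_le_mul_card_image _ 4 fun r hr => ?_
  obtain ⟨t₀, -, ht₀⟩ := Finset.mem_image.1 hr
  set w : circ d → QuadraticAlgebra F d 0 := fun t =>
    z * ((t : (QuadraticAlgebra F d 0)ˣ) : QuadraticAlgebra F d 0) with hw
  have hinj : Function.Injective w := fun s t h => by
    have hu : IsUnit z := QuadraticAlgebra.isUnit_iff_norm_isUnit.2 (hz ▸ isUnit_iff_ne_zero.2 hn)
    exact Subtype.ext (Units.ext (hu.mul_left_cancel h))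
  refine (Finset.card_le_card_of_injOn (t := (Finset.univ : Finset (Bool × Bool)))
    (fun t => (decide ((w t).re = (w t₀).re), decide ((w t).im = (w t₀).im)))
    (fun _ _ => Finset.mem_coe.2 (Finset.mem_univ _)) ?_).trans (by simp)
  intro s hs t ht hst
  apply hinj
  have key : ∀ u : circ d, (w u).re ^ 2 = r →
      ((w u).re = (w t₀).re ∨ (w u).re = -(w t₀).re) ∧ ((w u).im = (w t₀).im ∨ (w u).im = -(w t₀).im) := by
    intro u hu
    have hn : ∀ v : circ d, QuadraticAlgebra.norm (w v) = n := fun v => by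
      show QuadraticAlgebra.norm (z * _) = n
      rw [map_mul, hz, circ_norm, mul_one]
    refine ⟨sq_eq_sq_iff_eq_or_eq_neg.1 (hu.trans ht₀.symm), sq_eq_sq_iff_eq_or_eq_neg.1 ?_⟩
    have h1 := (hn u).trans (hn t₀).symm
    rw [norm_eq, norm_eq] at h1
    apply mul_left_cancel₀ hd
    linear_combination (hu.trans ht₀.symm) - h1
  have h1 := key s (Finset.mem_filter.1 hs).2
  have h2 := key t (Finset.mem_filter.1 ht).2
  simp only [Prod.mk.injEq, decide_eq_decide] at hst
  refine QuadraticAlgebra.ext ?_ ?_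
  · by_cases h : (w s).re = (w t₀).re
    · rw [h, hst.1.1 h]
    · rw [h1.1.resolve_left h, h2.1.resolve_left fun h' => h (hst.1.2 h')]
  · by_cases h : (w s).im = (w t₀).im
    · rw [h, hst.2.1 h]
    · rw [h1.2.resolve_left h, h2.2.resolve_left fun h' => h (hst.2.2 h')]

/-- Membership of the element with coordinates `(A, B)`. -/
def Good (M : Subgroup SL(2, F)) (A B : QuadraticAlgebra F c 0) : Prop :=
  ∃ h : QuadraticAlgebra.norm A - QuadraticAlgebra.norm B = 1, sl A B h ∈ M

theorem torus_mem {M : Subgroup SL(2, F)}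
    (hg : ∀ x : SL(2, F), gmat c * x.1 = x.1 * gmat c → x ∈ M) (u : circ c) :
    sl ((u : (QuadraticAlgebra F c 0)ˣ) : QuadraticAlgebra F c 0) 0
      (by rw [circ_norm, QuadraticAlgebra.norm_zero, sub_zero]) ∈ M := hg _ (by
    show gmat c * mat _ 0 = mat _ 0 * gmat c
    rw [mat_mul, mat_mul]
    simp [mul_comm])

theorem orbit (h2 : (2 : F) ≠ 0) (hc : ¬ IsSquare (-c)) {M : Subgroup SL(2, F)}
    (hg : ∀ x : SL(2, F), gmat c * x.1 = x.1 * gmat c → x ∈ M) (A B : QuadraticAlgebra F c 0)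
    (hp : Good M A B) (hm : Good M A (-B)) (U U' : circ c) :
    Good M (A * ((U : (QuadraticAlgebra F c 0)ˣ) : QuadraticAlgebra F c 0))
      (B * ((U' : (QuadraticAlgebra F c 0)ˣ) : QuadraticAlgebra F c 0)) := by
  obtain ⟨-, hsq⟩ := circ_facts h2 hc
  have hT := torus_mem hg
  obtain ⟨w, hw⟩ := hsq (U * U'⁻¹)
  have hgo : ∀ B', Good M A B' →
      B' * ((U * w⁻¹ * w⁻¹ : circ c) : (QuadraticAlgebra F c 0)ˣ) =
        B * ((U' : (QuadraticAlgebra F c 0)ˣ) : QuadraticAlgebra F c 0) →
      Good M (A * ((U : (QuadraticAlgebra F c 0)ˣ) : QuadraticAlgebra F c 0))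
        (B * ((U' : (QuadraticAlgebra F c 0)ˣ) : QuadraticAlgebra F c 0)) := by
    rintro B' ⟨h, hB'⟩ he
    have hh' := M.mul_mem (M.mul_mem (hT (U * w⁻¹)) hB') (hT w)
    obtain ⟨y, hy, e⟩ : ∃ y ∈ M, (y : Matrix (Fin 2) (Fin 2) F) =
        mat (A * ((U : (QuadraticAlgebra F c 0)ˣ) : QuadraticAlgebra F c 0))
          (B * ((U' : (QuadraticAlgebra F c 0)ˣ) : QuadraticAlgebra F c 0)) := by
      refine ⟨_, hh', ?_⟩
      rw [Matrix.SpecialLinearGroup.coe_mul, Matrix.SpecialLinearGroup.coe_mul]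
      show mat _ 0 * mat A B' * mat _ 0 = _
      rw [mat_mul, mat_mul, ← he]
      have hws := circ_star w
      congr 1
      · simp only [Subgroup.coe_mul, Units.val_mul, Subgroup.coe_inv, zero_mul, mul_zero, star_zero, add_zero]
        linear_combination (A * ((U : (QuadraticAlgebra F c 0)ˣ) : QuadraticAlgebra F c 0)) *
          Units.inv_mul (w : (QuadraticAlgebra F c 0)ˣ)
      · simp only [Subgroup.coe_mul, Units.val_mul, zero_mul, mul_zero, add_zero, zero_add, hws]
        ring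
    refine ⟨?_, ?_⟩
    · rw [← det_mat, ← e, Matrix.SpecialLinearGroup.det_coe]
    · convert hy using 1
      exact Subtype.ext e.symm
  have key : ∀ s : QuadraticAlgebra F c 0,
      ((U * U'⁻¹ : circ c) : (QuadraticAlgebra F c 0)ˣ) =
        s * (((w : (QuadraticAlgebra F c 0)ˣ) : QuadraticAlgebra F c 0) * (w : (QuadraticAlgebra F c 0)ˣ)) →
      ((U * w⁻¹ * w⁻¹ : circ c) : (QuadraticAlgebra F c 0)ˣ) =
        s * ((U' : (QuadraticAlgebra F c 0)ˣ) : QuadraticAlgebra F c 0) := by
    intro s hs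
    simp only [Subgroup.coe_mul, Units.val_mul, Subgroup.coe_inv] at hs ⊢
    have e1 := Units.inv_mul (w : (QuadraticAlgebra F c 0)ˣ)
    have e2 := Units.inv_mul (U' : (QuadraticAlgebra F c 0)ˣ)
    set X := ((U : (QuadraticAlgebra F c 0)ˣ) : QuadraticAlgebra F c 0)
    set Y := ((U' : (QuadraticAlgebra F c 0)ˣ) : QuadraticAlgebra F c 0)
    set Y' := (((U' : (QuadraticAlgebra F c 0)ˣ)⁻¹ : (QuadraticAlgebra F c 0)ˣ) : QuadraticAlgebra F c 0)
    set W := ((w : (QuadraticAlgebra F c 0)ˣ) : QuadraticAlgebra F c 0)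
    set W' := (((w : (QuadraticAlgebra F c 0)ˣ)⁻¹ : (QuadraticAlgebra F c 0)ˣ) : QuadraticAlgebra F c 0)
    linear_combination Y * W' * W' * hs - X * W' * W' * e2 + s * Y * (W' * W + 1) * e1
  rcases hw with hw | hw
  · exact hgo B hp (by rw [key 1 (by rw [one_mul]; exact hw), one_mul])
  · exact hgo (-B) hm (by rw [key (-1) (by rw [neg_one_mul]; exact hw)]; ring)

theorem fam_one {H : QuadraticAlgebra F c 0} {M : Subgroup SL(2, F)}
    (hh : ∀ x : SL(2, F), (mat 0 H * x.1 = x.1 * mat 0 H ∨ mat 0 H * x.1 = -(x.1 * mat 0 H)) → x ∈ M)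
    (p k : F) (h : p * p - QuadraticAlgebra.norm H * k * k = 1) : Good M ⟨p, 0⟩ (⟨k, 0⟩ * H) := by
  have hn : QuadraticAlgebra.norm (⟨p, 0⟩ : QuadraticAlgebra F c 0) -
      QuadraticAlgebra.norm (⟨k, 0⟩ * H) = 1 := by
    rw [map_mul, norm_eq, norm_eq]; simp; linear_combination h
  refine ⟨hn, hh _ (Or.inl ?_)⟩
  show mat 0 H * mat _ _ = mat _ _ * mat 0 H
  rw [mat_mul, mat_mul]
  congr 1 <;> ext <;> simp <;> ring

theorem fam_two {H : QuadraticAlgebra F c 0} {M : Subgroup SL(2, F)}
    (hh : ∀ x : SL(2, F), (mat 0 H * x.1 = x.1 * mat 0 H ∨ mat 0 H * x.1 = -(x.1 * mat 0 H)) → x ∈ M)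
    (m l : F) (h : -c * (m * m) + c * QuadraticAlgebra.norm H * (l * l) = 1) :
    Good M ⟨0, m⟩ (⟨0, l⟩ * H) := by
  have hn : QuadraticAlgebra.norm (⟨0, m⟩ : QuadraticAlgebra F c 0) -
      QuadraticAlgebra.norm (⟨0, l⟩ * H) = 1 := by
    rw [map_mul, norm_eq, norm_eq]; simp; linear_combination h
  refine ⟨hn, hh _ (Or.inr ?_)⟩
  show mat 0 H * mat _ _ = -(mat _ _ * mat 0 H)
  rw [mat_mul, mat_mul, mat_neg]
  congr 1 <;> ext <;> simp <;> ring

/-- **Generation**: more than a fifth of `SL₂(F)`. -/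
theorem card_lt_five_mul (h2 : (2 : F) ≠ 0) (hq : 3 < Fintype.card F) (hc : ¬ IsSquare (-c))
    {H : QuadraticAlgebra F c 0} (hd : ¬ IsSquare (-(QuadraticAlgebra.norm H))) (M : Subgroup SL(2, F))
    (hg : ∀ x : SL(2, F), gmat c * x.1 = x.1 * gmat c → x ∈ M)
    (hh : ∀ x : SL(2, F), (mat 0 H * x.1 = x.1 * mat 0 H ∨ mat 0 H * x.1 = -(x.1 * mat 0 H)) → x ∈ M) :
    Nat.card SL(2, F) < 5 * Nat.card M := by
  classical
  set d := QuadraticAlgebra.norm H with hdd
  have hc0 : c ≠ 0 := fun h => hc (by rw [h, neg_zero]; exact IsSquare.zero)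
  have hd0 : d ≠ 0 := fun h => hd (by rw [h, neg_zero]; exact IsSquare.zero)
  obtain ⟨hkc, hsq⟩ := circ_facts h2 hc
  obtain ⟨hkd, -⟩ := circ_facts h2 hd
  have hqc := card_circ_ge h2 hc
  have hqd := card_circ_ge h2 hd
  haveI : Fintype (circ c) := Fintype.ofFinite _
  haveI : Fintype (circ d) := Fintype.ofFinite _
  have fam1 := fam_one hh
  have fam2 := fam_two hh
  -- the norms they reach
  obtain ⟨P, hP⟩ := exists_sol h2 hd0 (-1 / c)
  let S₁ : Finset F := (Finset.univ.image fun t : circ d =>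
    ((1 : QuadraticAlgebra F d 0) * ((t : (QuadraticAlgebra F d 0)ˣ) : QuadraticAlgebra F d 0)).re ^ 2).erase 1
  let R₂ : Finset F := (Finset.univ.image fun t : circ d =>
    (P * ((t : (QuadraticAlgebra F d 0)ˣ) : QuadraticAlgebra F d 0)).re ^ 2)
  let S₂ : Finset F := (R₂.erase 0).image fun r => -c * r
  let S : Finset F := S₁ ∪ S₂
  have hrep : ∀ n ∈ S, ∃ A B : QuadraticAlgebra F c 0, QuadraticAlgebra.norm A = n ∧ n ≠ 0 ∧ n ≠ 1 ∧ Good M A B ∧ Good M A (-B) := by
    intro n hn
    rcases Finset.mem_union.1 hn with hn | hn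
    · obtain ⟨hn1, hn'⟩ := Finset.mem_erase.1 hn
      obtain ⟨t, -, rfl⟩ := Finset.mem_image.1 hn'
      have ht := circ_norm t
      rw [one_mul] at hn1 ⊢
      set z := ((t : (QuadraticAlgebra F d 0)ˣ) : QuadraticAlgebra F d 0)
      rw [norm_eq] at ht
      refine ⟨⟨z.re, 0⟩, ⟨z.im, 0⟩ * H, by rw [norm_eq]; simp [pow_two], ?_, hn1,
        fam1 _ _ ht, ?_⟩
      · intro h0
        have hre : z.re = 0 := pow_eq_zero_iff two_ne_zero |>.1 h0
        refine hd ⟨1 / z.im, ?_⟩
        have him : z.im ≠ 0 := fun h => by simp [hre, h] at ht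
        field_simp
        rw [hre] at ht
        linear_combination ht
      · rw [show -((⟨z.im, 0⟩ : QuadraticAlgebra F c 0) * H) = ⟨-z.im, 0⟩ * H by
          ext <;> simp <;> ring]
        exact fam1 _ _ (by linear_combination ht)
    · obtain ⟨r, hr, rfl⟩ := Finset.mem_image.1 hn
      obtain ⟨hr0, hr'⟩ := Finset.mem_erase.1 hr
      obtain ⟨t, -, rfl⟩ := Finset.mem_image.1 hr'
      have ht : QuadraticAlgebra.norm (P * ((t : (QuadraticAlgebra F d 0)ˣ) : QuadraticAlgebra F d 0))
          = -1 / c := by rw [map_mul, hP, circ_norm, mul_one]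
      set z := P * ((t : (QuadraticAlgebra F d 0)ˣ) : QuadraticAlgebra F d 0)
      rw [norm_eq, eq_div_iff hc0] at ht
      refine ⟨⟨0, z.re⟩, ⟨0, z.im⟩ * H, by rw [norm_eq]; simp; ring, ?_, ?_,
        fam2 _ _ (by linear_combination -ht), ?_⟩
      · exact mul_ne_zero (neg_ne_zero.2 hc0) hr0
      · intro h1
        refine hc ⟨1 / z.re, ?_⟩
        have hre : z.re ≠ 0 := fun h => hr0 (by rw [h]; ring)
        field_simp
        linear_combination h1
      · rw [show -((⟨0, z.im⟩ : QuadraticAlgebra F c 0) * H) = ⟨0, -z.im⟩ * H by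
          ext <;> simp <;> ring]
        exact fam2 _ _ (by linear_combination -ht)
  choose! A B hA hn0 hn1 hp hm using hrep
  -- the injection
  let Φ : (S × circ c) × circ c → M := fun x => ⟨sl _ _ (orbit h2 hc hg _ _ (hp _ x.1.1.2) (hm _ x.1.1.2) x.1.2 x.2).1,
    (orbit h2 hc hg _ _ (hp _ x.1.1.2) (hm _ x.1.1.2) x.1.2 x.2).2⟩
  have hinj : Function.Injective Φ := by
    rintro ⟨⟨n, U⟩, V⟩ ⟨⟨n', U'⟩, V'⟩ h
    obtain ⟨eA, eB⟩ := mat_inj h2 hc0 (congrArg (fun x : M => ((x : SL(2, F)) : Matrix (Fin 2) (Fin 2) F)) h)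
    dsimp only at eA eB
    have hnn : n = n' := by
      have := congrArg QuadraticAlgebra.norm eA
      rw [map_mul, map_mul, hA _ n.2, hA _ n'.2, circ_norm, circ_norm, mul_one, mul_one] at this
      exact Subtype.ext this
    subst hnn
    have hAu : IsUnit (A (n : F)) :=
      QuadraticAlgebra.isUnit_iff_norm_isUnit.2 (isUnit_iff_ne_zero.2 (by rw [hA _ n.2]; exact hn0 _ n.2))
    have hBu : IsUnit (B (n : F)) := by
      refine QuadraticAlgebra.isUnit_iff_norm_isUnit.2 (isUnit_iff_ne_zero.2 fun h0 => hn1 _ n.2 ?_)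
      obtain ⟨h, -⟩ := hp _ n.2
      rw [h0, hA _ n.2, sub_zero] at h
      exact h
    obtain rfl : U = U' := Subtype.ext (Units.ext (hAu.mul_left_cancel eA))
    obtain rfl : V = V' := Subtype.ext (Units.ext (hBu.mul_left_cancel eB))
    rfl
  have hM := Nat.card_le_card_of_injective Φ hinj
  rw [Nat.card_prod, Nat.card_prod, Nat.card_eq_fintype_card (α := S), Fintype.card_coe] at hM
  -- arithmetic
  have h1' := card_le_four_mul (F := F) hd0 one_ne_zero (1 : QuadraticAlgebra F d 0) QuadraticAlgebra.norm_one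
  have h2' := card_le_four_mul (F := F) hd0 (div_ne_zero (neg_ne_zero.2 one_ne_zero) hc0) P hP
  have hS1 := Finset.pred_card_le_card_erase (a := (1 : F)) (s := Finset.univ.image fun t : circ d =>
    ((1 : QuadraticAlgebra F d 0) * ((t : (QuadraticAlgebra F d 0)ˣ) : QuadraticAlgebra F d 0)).re ^ 2)
  have hS2 : R₂.card ≤ S₂.card + 1 := by
    rw [Finset.card_image_of_injective _ (mul_right_injective₀ (neg_ne_zero.2 hc0))]
    have := Finset.pred_card_le_card_erase (a := (0 : F)) (s := R₂)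
    omega
  have hdisj : Disjoint S₁ S₂ := by
    rw [Finset.disjoint_left]
    intro n h₁ h₂
    obtain ⟨t, -, rfl⟩ := Finset.mem_image.1 (Finset.mem_erase.1 h₁).2
    obtain ⟨r, hr, he⟩ := Finset.mem_image.1 h₂
    obtain ⟨hr0, hr'⟩ := Finset.mem_erase.1 hr
    obtain ⟨s, -, rfl⟩ := Finset.mem_image.1 hr'
    refine hc ⟨((1 : QuadraticAlgebra F d 0) * ((t : (QuadraticAlgebra F d 0)ˣ) : QuadraticAlgebra F d 0)).re /
      (P * ((s : (QuadraticAlgebra F d 0)ˣ) : QuadraticAlgebra F d 0)).re, ?_⟩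
    have hre : (P * ((s : (QuadraticAlgebra F d 0)ˣ) : QuadraticAlgebra F d 0)).re ≠ 0 :=
      fun h => hr0 (by rw [h]; ring)
    field_simp
    linear_combination he
  have hS : S.card = S₁.card + S₂.card := Finset.card_union_of_disjoint hdisj
  rw [GL.card_SL2]
  set q := Fintype.card F
  have hq5 : 5 ≤ q := by
    by_contra h
    obtain hq4 : q = 4 := by omega
    have := FiniteField.odd_card_of_char_ne_two (F := F) fun h => h2 <| by
      haveI : CharP F 2 := (ringChar.eq_iff.1 h)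
      exact_mod_cast CharP.cast_eq_zero F 2
    omega
  set a := Nat.card (circ c)
  set b := Nat.card (circ d)
  obtain ⟨i, hi⟩ : ∃ i, b = 4 * i + 2 := ⟨b / 4, by omega⟩
  obtain ⟨j, hj⟩ : ∃ j, a = 4 * j + 2 := ⟨a / 4, by omega⟩
  have hSi : 2 * i ≤ S.card := by
    change b ≤ 4 * _ at h1'
    change b ≤ 4 * R₂.card at h2'
    change _ ≤ S₁.card at hS1
    omega
  have hk : ∃ k, 1 ≤ k ∧ k ≤ i ∧ k ≤ j ∧ q ≤ 4 * k + 3 := ⟨min i j, by omega, by omega, by omega, by omega⟩
  obtain ⟨k, hk1, hki, hkj, hkq⟩ := hk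
  have hlow : 2 * k * (4 * k + 2) * (4 * k + 2) ≤ Nat.card M := by
    refine le_trans ?_ hM
    exact Nat.mul_le_mul (Nat.mul_le_mul (by omega) (by omega)) (by omega)
  have hup : q * (q ^ 2 - 1) ≤ (4 * k + 2) * (4 * k + 3) * (4 * k + 4) := by
    rw [show q ^ 2 - 1 = (q - 1) * (q + 1) by rw [mul_comm, ← Nat.sq_sub_sq, one_pow]]
    calc q * ((q - 1) * (q + 1)) = (q - 1) * q * (q + 1) := by ring
      _ ≤ (4 * k + 2) * (4 * k + 3) * (4 * k + 4) :=
        Nat.mul_le_mul (Nat.mul_le_mul (by omega) hkq) (by omega)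
  have h3 : (4 * k + 3) * (4 * k + 4) < 10 * k * (4 * k + 2) := by nlinarith
  calc q * (q ^ 2 - 1) ≤ (4 * k + 2) * ((4 * k + 3) * (4 * k + 4)) := by rw [← mul_assoc]; exact hup
    _ < (4 * k + 2) * (10 * k * (4 * k + 2)) := Nat.mul_lt_mul_of_pos_left h3 (by omega)
    _ = 5 * (2 * k * (4 * k + 2) * (4 * k + 2)) := by ring
    _ ≤ 5 * Nat.card M := Nat.mul_le_mul_left 5 hlow

end Gen

end Cfsg.Agent.GW.OuterGen
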