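import Cfsg.Agent.Lib.GW.Assembly
import Cfsg.Agent.Lib.GW.CompCent
import Cfsg.Agent.Lib.GW.OuterGen
import Cfsg.Agent.Lib.LocalBalance.PSLField
import Cfsg.Agent.Lib.LocalBalance.PSLGraph
import Cfsg.Agent.Lib.Field.Fixed
import Cfsg.Agent.S2119

/-!
# Two commuting involutory automorphisms with small fixed groups

If two distinct commuting involutory automorphisms of `PSL₂(q)` or `A₇` both fix no four-group, then the group is
`PSL₂(q)` and it is generated by the two fixed groups.  With the theorem of Gorenstein and Walter this gives the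
lemma on four-groups acting on a simple group with dihedral Sylow 2-subgroups (S1916).
-/

set_option autoImplicit false
set_option linter.unusedSectionVars false
set_option linter.style.haveILetI false

namespace Cfsg.Agent.GW.OuterPair

open Matrix Subgroup QuadraticAlgebra
open scoped MatrixGroups
open Cfsg.Agent.AutPSL

universe u

/-- The fixed subgroup of an automorphism. -/
def fix {X : Type*} [Group X] (α : MulAut X) : Subgroup X :=
  MonoidHom.eqLocus (α : X ≃* X).toMonoidHom (MonoidHom.id X)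

theorem mem_fix {X : Type*} [Group X] {α : MulAut X} {x : X} : x ∈ fix α ↔ α x = x := Iff.rfl

/-- No four-group inside. -/
def NoFour {X : Type*} [Group X] (H : Subgroup X) : Prop :=
  ∀ x ∈ H, ∀ y ∈ H, orderOf x = 2 → orderOf y = 2 → x * y = y * x → x = y

theorem fix_congr {X Y : Type*} [Group X] [Group Y] (e : X ≃* Y) (α : MulAut X) :
    fix (MulAut.congr e α) = (fix α).map e.toMonoidHom := by
  ext y
  rw [Subgroup.mem_map_equiv, mem_fix, mem_fix]
  show e (α (e.symm y)) = y ↔ _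
  rw [← e.eq_symm_apply]

theorem noFour_congr {X Y : Type*} [Group X] [Group Y] (e : X ≃* Y) {α : MulAut X} (h : NoFour (fix α)) :
    NoFour (fix (MulAut.congr e α)) := by
  rw [fix_congr]
  rintro _ ⟨x, hx, rfl⟩ _ ⟨y, hy, rfl⟩ hox hoy hxy
  exact congrArg e (h x hx y hy (by rwa [MulEquiv.coe_toMonoidHom, e.orderOf_eq] at hox)
    (by rwa [MulEquiv.coe_toMonoidHom, e.orderOf_eq] at hoy) (e.injective (by simpa using hxy)))

/-- The conclusion about a pair. -/
def PairProp (X : Type*) [Group X] : Prop :=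
  ∀ α β : MulAut X, α * α = 1 → β * β = 1 → α * β = β * α → α ≠ β → NoFour (fix α) → NoFour (fix β) →
    fix α ⊔ fix β = ⊤

theorem PairProp.of_equiv {X Y : Type*} [Group X] [Group Y] (e : X ≃* Y) (h : PairProp Y) : PairProp X := by
  intro α β ha hb hab hne hα hβ
  have h' := h (MulAut.congr e α) (MulAut.congr e β) (by rw [← map_mul, ha, map_one])
    (by rw [← map_mul, hb, map_one]) (by rw [← map_mul, hab, map_mul]) (fun he => hne ((MulAut.congr e).injective he))
    (noFour_congr e hα) (noFour_congr e hβ)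
  rw [fix_congr, fix_congr, ← Subgroup.map_sup] at h'
  refine Subgroup.map_injective e.injective (?_ : Subgroup.map e.toMonoidHom _ = Subgroup.map e.toMonoidHom _)
  rw [h', Subgroup.map_top_of_surjective e.toMonoidHom e.surjective]

theorem noFour_of_cyclic {X : Type*} [Group X] [Finite X] (H : Subgroup X)
    (h : ∀ R : Sylow 2 H, IsCyclic R) : NoFour H := by
  haveI : Fact (Nat.Prime 2) := ⟨Nat.prime_two⟩
  intro x hx y hy hox hoy hxy
  have key : ∀ z : H, orderOf z = 2 → IsPGroup 2 (zpowers z) := fun z hz =>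
    IsPGroup.of_card (n := 1) (by rw [Nat.card_zpowers, hz, pow_one])
  let x' : H := ⟨x, hx⟩
  let y' : H := ⟨y, hy⟩
  have hx' : orderOf x' = 2 := by rwa [Subgroup.orderOf_mk]
  have hy' : orderOf y' = 2 := by rwa [Subgroup.orderOf_mk]
  have hcm : Commute x' y' := Subtype.ext hxy
  have hc : zpowers x' ≤ Subgroup.normalizer (zpowers y' : Set H) := by
    intro z hz
    obtain ⟨j, rfl⟩ := mem_zpowers_iff.1 hz
    rw [Subgroup.mem_normalizer_iff]
    intro w
    constructor
    · intro hw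
      obtain ⟨k, rfl⟩ := mem_zpowers_iff.1 hw
      rw [(hcm.zpow_zpow j k).eq, mul_inv_cancel_right]
      exact zpow_mem (mem_zpowers _) _
    · intro hw
      obtain ⟨k, hk⟩ := mem_zpowers_iff.1 hw
      have he : w = y' ^ k := by
        have h1 : (x' ^ j)⁻¹ * (x' ^ j * w * (x' ^ j)⁻¹) * x' ^ j = w := by group
        rw [← hk] at h1
        rw [← h1, mul_assoc, ← (hcm.zpow_zpow j k).eq, inv_mul_cancel_left]
      exact he ▸ zpow_mem (mem_zpowers _) _
  obtain ⟨P, hP⟩ := ((key x' hx').to_sup_of_normal_right' (key y' hy') hc).exists_le_sylow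
  obtain ⟨σ, hσ⟩ := (h P).exists_generator
  have hmem : ∀ z : H, z ∈ (P : Subgroup H) → z ∈ zpowers (σ : H) := fun z hz => by
    obtain ⟨k, hk⟩ := mem_zpowers_iff.1 (hσ ⟨z, hz⟩)
    exact mem_zpowers_iff.2 ⟨k, by rw [← Subgroup.coe_zpow, hk]⟩
  exact congrArg Subtype.val (GW.eq_of_invol_zpowers (hmem x' (hP (mem_sup_left (mem_zpowers _))))
    (hmem y' (hP (mem_sup_right (mem_zpowers _)))) hx' hy')

/-! ### Degree seven -/

/-- A permutation of seven letters of square one commutes with two even involutions that commute. -/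
theorem perm_seven (π : Equiv.Perm (Fin 7)) (h : π * π = 1) :
    ∃ v w : Equiv.Perm (Fin 7), v * v = 1 ∧ w * w = 1 ∧ v ≠ 1 ∧ w ≠ 1 ∧ v ≠ w ∧ v * w = w * v ∧
      Equiv.Perm.sign v = 1 ∧ Equiv.Perm.sign w = 1 ∧ π * v = v * π ∧ π * w = w * π := by
  classical
  suffices key : ∃ π₀ : Equiv.Perm (Fin 7), IsConj π π₀ ∧ ∃ v w : Equiv.Perm (Fin 7), v * v = 1 ∧ w * w = 1 ∧
      v ≠ 1 ∧ w ≠ 1 ∧ v ≠ w ∧ v * w = w * v ∧ Equiv.Perm.sign v = 1 ∧ Equiv.Perm.sign w = 1 ∧
      π₀ * v = v * π₀ ∧ π₀ * w = w * π₀ by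
    obtain ⟨π₀, hconj, v, w, hv, hw, hv1, hw1, hvw, hc, sv, sw, cv, cw⟩ := key
    obtain ⟨τ, hτ⟩ := isConj_iff.1 hconj
    let f : Equiv.Perm (Fin 7) ≃* Equiv.Perm (Fin 7) := MulAut.conj τ⁻¹
    have hf : f π₀ = π := by
      show τ⁻¹ * π₀ * τ⁻¹⁻¹ = π
      rw [← hτ]; group
    have hs : ∀ u, Equiv.Perm.sign (f u) = Equiv.Perm.sign u := fun u => by
      show Equiv.Perm.sign (τ⁻¹ * u * τ⁻¹⁻¹) = _
      simp
      rw [mul_comm, ← mul_assoc, Int.units_mul_self, one_mul]
    refine ⟨f v, f w, ?_, ?_, ?_, ?_, f.injective.ne hvw, ?_, (hs v).trans sv, (hs w).trans sw, ?_, ?_⟩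
    · rw [← map_mul, hv, map_one]
    · rw [← map_mul, hw, map_one]
    · exact fun e => hv1 (f.map_eq_one_iff.1 e)
    · exact fun e => hw1 (f.map_eq_one_iff.1 e)
    · rw [← map_mul, hc, map_mul]
    · rw [← hf, ← map_mul, cv, map_mul]
    · rw [← hf, ← map_mul, cw, map_mul]
  have hall : ∀ k ∈ π.cycleType, k = 2 := fun k hk => by
    have h1 : k ∣ orderOf π := (Equiv.Perm.lcm_cycleType π) ▸ Multiset.dvd_lcm hk
    have h2 : k ∣ 2 := h1.trans (orderOf_dvd_of_pow_eq_one (by rw [pow_two, h]))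
    exact le_antisymm (Nat.le_of_dvd two_pos h2) (Equiv.Perm.two_le_of_mem_cycleType hk)
  have hrep := Multiset.eq_replicate_card.2 hall
  have hle : 2 * Multiset.card π.cycleType ≤ 7 := by
    have h1 := Equiv.Perm.sum_cycleType π
    rw [hrep, Multiset.sum_replicate, smul_eq_mul, mul_comm] at h1
    rw [h1]
    exact (Finset.card_le_univ _).trans (by simp)
  have hswap : ∀ a b : Fin 7, a ≠ b → (Equiv.swap a b).cycleType = {2} := fun a b hab => by
    rw [(Equiv.Perm.swap_isSwap_iff.2 hab).isCycle.cycleType, Equiv.Perm.card_support_swap hab]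
  have hcases : ∀ n, Multiset.card π.cycleType = n → ∀ π₀ : Equiv.Perm (Fin 7),
      π₀.cycleType = Multiset.replicate n 2 → IsConj π π₀ := fun n hn π₀ h₀ =>
    Equiv.Perm.isConj_iff_cycleType_eq.2 (by rw [hrep, hn, h₀])
  obtain ⟨n, hn⟩ : ∃ n, Multiset.card π.cycleType = n := ⟨_, rfl⟩
  rw [hn] at hle
  have hn3 : n ≤ 3 := by omega
  interval_cases n
  · exact ⟨1, hcases 0 hn 1 (by simp), Equiv.swap 0 1 * Equiv.swap 2 3, Equiv.swap 0 2 * Equiv.swap 1 3,
      by decide, by decide, by decide, by decide, by decide, by decide, by decide, by decide, by decide, by decide⟩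
  · exact ⟨Equiv.swap 0 1, hcases 1 hn _ (by rw [hswap _ _ (by decide)]; rfl),
      Equiv.swap 2 3 * Equiv.swap 4 5, Equiv.swap 2 4 * Equiv.swap 3 5,
      by decide, by decide, by decide, by decide, by decide, by decide, by decide, by decide, by decide, by decide⟩
  · exact ⟨Equiv.swap 0 1 * Equiv.swap 2 3, hcases 2 hn _ (by
        rw [Equiv.Perm.Disjoint.cycleType_mul (by intro x; revert x; decide), hswap _ _ (by decide),
          hswap _ _ (by decide)]; rfl),
      Equiv.swap 0 1 * Equiv.swap 2 3, Equiv.swap 0 2 * Equiv.swap 1 3,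
      by decide, by decide, by decide, by decide, by decide, by decide, by decide, by decide, by decide, by decide⟩
  · exact ⟨Equiv.swap 0 1 * Equiv.swap 2 3 * Equiv.swap 4 5, hcases 3 hn _ (by
        rw [Equiv.Perm.Disjoint.cycleType_mul (by intro x; revert x; decide),
          Equiv.Perm.Disjoint.cycleType_mul (by intro x; revert x; decide), hswap _ _ (by decide),
          hswap _ _ (by decide), hswap _ _ (by decide)]; rfl),
      Equiv.swap 0 1 * Equiv.swap 2 3, Equiv.swap 2 3 * Equiv.swap 4 5,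
      by decide, by decide, by decide, by decide, by decide, by decide, by decide, by decide, by decide, by decide⟩

/-- Involutory automorphisms of `A₇` fix a four-group. -/
theorem not_noFour_seven (α : MulAut (alternatingGroup (Fin 7))) (h : α * α = 1) : ¬ NoFour (fix α) := by
  intro hN
  have hb := Cfsg.Agent.S2119.result 7 (by omega) (by omega)
  obtain ⟨π, rfl⟩ := hb.2 α
  rw [← map_mul, ← map_one MulAut.conjNormal] at h
  obtain ⟨v, w, hv, hw, hv1, hw1, hvw, hc, sv, sw, cv, cw⟩ := perm_seven π (hb.1 h)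
  have hfix : ∀ (u : Equiv.Perm (Fin 7)) (hu : Equiv.Perm.sign u = 1), π * u = u * π →
      (⟨u, Equiv.Perm.mem_alternatingGroup.2 hu⟩ : alternatingGroup (Fin 7)) ∈
        fix (MulAut.conjNormal π : MulAut (alternatingGroup (Fin 7))) := fun u hu e => by
    rw [mem_fix]
    refine Subtype.ext ?_
    rw [MulAut.conjNormal_apply]
    show π * u * π⁻¹ = u
    rw [e, mul_inv_cancel_right]
  exact hvw (congrArg Subtype.val (hN _ (hfix v sv cv) _ (hfix w sw cw)
    (by rw [Subgroup.orderOf_mk]; exact orderOf_eq_prime (by rw [pow_two, hv]) hv1)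
    (by rw [Subgroup.orderOf_mk]; exact orderOf_eq_prime (by rw [pow_two, hw]) hw1) (Subtype.ext hc)))

theorem pairProp_seven : PairProp (alternatingGroup (Fin 7)) :=
  fun α _ ha _ _ _ hα _ => absurd hα (not_noFour_seven α ha)

/-! ### `PSL₂` -/

section PSL

variable {F : Type*} [Field F] [Fintype F]

local notation "L₂" => Matrix.ProjectiveSpecialLinearGroup (Fin 2) F

theorem mem_fix_conjP (g : GL (Fin 2) F) (s : SL(2, F))
    (h : g.val * s.1 = s.1 * g.val ∨ g.val * s.1 = -(s.1 * g.val)) :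
    (PSL2.mk s : L₂) ∈ fix (conjP g : MulAut L₂) := by
  rw [mem_fix]
  refine PSL2.mk_eq_mk.2 (h.imp (fun h => Subtype.ext ?_) (fun h => Subtype.ext ?_))
  · show g.val * s.1 * (g⁻¹ : GL (Fin 2) F).val = s.1
    rw [h, Matrix.mul_assoc, Units.mul_inv, Matrix.mul_one]
  · show g.val * s.1 * (g⁻¹ : GL (Fin 2) F).val = -s.1
    rw [h, Matrix.neg_mul, Matrix.mul_assoc, Units.mul_inv, Matrix.mul_one]

theorem two_witness (h2 : (2 : F) ≠ 0) {α : MulAut L₂} {x y : SL(2, F)} (hx : (PSL2.mk x : L₂) ∈ fix α)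
    (hy : (PSL2.mk y : L₂) ∈ fix α) (hx2 : x * x = -1) (hy2 : y * y = -1) (hxy : x * y = -(y * x))
    (hne : x ≠ y) (hne' : x ≠ -y) : ¬ NoFour (fix α) := by
  intro hN
  have ho : ∀ z : SL(2, F), z * z = -1 → orderOf (PSL2.mk z : L₂) = 2 := fun z hz => by
    refine orderOf_eq_prime (by rw [← map_pow, pow_two, hz, PSL2.mk_neg_one]) fun h1 => ?_
    rcases PSL2.mk_eq_one.1 h1 with rfl | rfl
    · exact PSL2.neg_one_ne_one h2 (by rw [← hz, one_mul])
    · exact PSL2.neg_one_ne_one h2 (by rw [← hz, neg_mul_neg, one_mul])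
  have := hN _ hx _ hy (ho x hx2) (ho y hy2)
    (by rw [← map_mul, hxy, PSL2.mk_neg, map_mul])
  rcases PSL2.mk_eq_mk.1 this with h | h
  · exact hne h
  · exact hne' h

theorem not_noFour_fieldP (h2 : (2 : F) ≠ 0) (σ : F ≃+* F) : ¬ NoFour (fix (fieldP σ : MulAut L₂)) := by
  haveI : Fintype (FieldExt.fixedField σ) := Fintype.ofFinite _
  have h2' : (2 : FieldExt.fixedField σ) ≠ 0 := fun h => h2 (congrArg Subtype.val h)
  obtain ⟨z, hz⟩ := OuterGen.exists_sol (F := FieldExt.fixedField σ) (d := -1) h2' (by simp) (-1)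
  set a : F := (z.re : F)
  set b : F := (z.im : F)
  have hab : a * a + b * b = -1 := by
    have h1 := congrArg Subtype.val hz
    rw [OuterGen.norm_eq] at h1
    push_cast at h1
    linear_combination h1
  have ha : σ a = a := FieldExt.mem_fixedField.1 z.re.2
  have hb : σ b = b := FieldExt.mem_fixedField.1 z.im.2
  let y : SL(2, F) := ⟨!![a, b; b, -a], by rw [Matrix.det_fin_two_of]; linear_combination -hab⟩
  let x : SL(2, F) := ⟨!![0, 1; -1, 0], by simp [Matrix.det_fin_two_of]⟩
  have hfix : ∀ s : SL(2, F), (∀ i j, σ (s.1 i j) = s.1 i j) →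
      (PSL2.mk s : L₂) ∈ fix (fieldP σ : MulAut L₂) := fun s hs =>
    congrArg PSL2.mk (Subtype.ext (Matrix.ext fun i j => hs i j) : fieldSL σ s = s)
  refine two_witness h2 (hfix x ?_) (hfix y ?_) ?_ ?_ ?_ ?_ ?_
  · intro i j; fin_cases i <;> fin_cases j <;> simp [x]
  · intro i j; fin_cases i <;> fin_cases j <;> simp [y, ha, hb]
  · refine Subtype.ext ?_
    show x.1 * x.1 = -1
    ext i j
    fin_cases i <;> fin_cases j <;> simp [x, Matrix.mul_apply]
  · refine Subtype.ext ?_
    show y.1 * y.1 = -1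
    ext i j
    fin_cases i <;> fin_cases j <;> simp [y, Matrix.mul_apply] <;> first | ring1 | linear_combination hab
  · refine Subtype.ext ?_
    show x.1 * y.1 = -(y.1 * x.1)
    ext i j
    fin_cases i <;> fin_cases j <;> simp [x, y, Matrix.mul_apply]
  · intro h
    have h00 := congrArg (fun s : SL(2, F) => s.1 0 0) h
    have h01 := congrArg (fun s : SL(2, F) => s.1 0 1) h
    have h10 := congrArg (fun s : SL(2, F) => s.1 1 0) h
    simp [x, y] at h00 h01 h10
    exact h2 (by linear_combination h01 - h10)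
  · intro h
    have h' : x.1 = -y.1 := congrArg Subtype.val h
    have h01 := congrFun (congrFun h' 0) 1
    have h10 := congrFun (congrFun h' 1) 0
    simp [x, y] at h01 h10
    exact h2 (by linear_combination h01 + h10)

/-- An involutory automorphism without fixed four-group is given by a matrix of trace zero. -/
theorem invol_form (h2 : (2 : F) ≠ 0) {α : MulAut L₂} (ha : α * α = 1) (hN : NoFour (fix α)) :
    ∃ g : GL (Fin 2) F, α = conjP g ∧ g.val 0 0 + g.val 1 1 = 0 := by
  obtain ⟨g, σ, γ, hγ, rfl⟩ := exists_decomposition (m := 1) le_rfl α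
  obtain ⟨g', hg'⟩ : ∃ g' : GL (Fin 2) F, (conjP g * fieldP σ * γ : MulAut L₂) = conjP g' * fieldP σ := by
    rcases hγ with rfl | rfl
    · exact ⟨g, mul_one _⟩
    · obtain ⟨g₀, h₀⟩ := LocalBalance.invP_inner (F := F)
      exact ⟨g * g₀, by rw [mul_assoc, ← invP_mul_fieldP, h₀, map_mul, mul_assoc]⟩
  rw [hg'] at ha hN ⊢
  have hp := conjP_mul_fieldP_pow (m := 1) σ g' 2
  rw [pow_two, ha] at hp
  obtain ⟨hσ2, z, hz⟩ := LocalBalance.eq_one_semilinear le_rfl hp.symm
  by_cases hσ : σ = 1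
  swap
  · exfalso
    have ho : orderOf σ = 2 := orderOf_eq_prime hσ2 hσ
    obtain ⟨k, hk⟩ := lang_field (m := 1) le_rfl σ ho g' (by rw [pow_two]; exact ha)
    rw [hk] at hN
    refine not_noFour_fieldP h2 σ ?_
    have := noFour_congr ((conjP k : MulAut L₂)⁻¹) hN
    convert this using 2
    refine MulEquiv.ext fun w => ?_
    show fieldP σ w = (conjP k : MulAut L₂)⁻¹ ((conjP k * fieldP σ * (conjP k)⁻¹ : MulAut L₂)
      (((conjP k : MulAut L₂)⁻¹).symm w))
    simp [MulAut.mul_apply]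
  subst hσ
  rw [fieldP_one, mul_one] at hN ⊢
  refine ⟨g', rfl, ?_⟩
  rw [FieldExt.twistNorm_succ, FieldExt.twistNorm_succ, FieldExt.twistNorm_zero, map_one, mul_one,
    FieldExt.glMap_one] at hz
  have hm : g'.val * g'.val = (z : F) • (1 : Matrix (Fin 2) (Fin 2) F) := by
    rw [← LocalBalance.scal_smul, ← hz, Units.val_mul]
  by_contra htr
  have e00 := congrFun (congrFun hm 0) 0
  have e01 := congrFun (congrFun hm 0) 1
  have e10 := congrFun (congrFun hm 1) 0
  have e11 := congrFun (congrFun hm 1) 1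
  simp [Matrix.mul_apply] at e00 e01 e10 e11
  have h01 : g'.val 0 1 = 0 := (mul_eq_zero.1
    (show g'.val 0 1 * (g'.val 0 0 + g'.val 1 1) = 0 by linear_combination e01)).resolve_right htr
  have h10 : g'.val 1 0 = 0 := (mul_eq_zero.1
    (show g'.val 1 0 * (g'.val 0 0 + g'.val 1 1) = 0 by linear_combination e10)).resolve_right htr
  rw [h01, zero_mul, add_zero] at e00
  rw [h01, mul_zero, zero_add] at e11
  have hd : g'.val 0 0 = g'.val 1 1 := by
    rcases mul_self_eq_mul_self_iff.1 (e00.trans e11.symm) with h | h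
    · exact h
    · exact absurd (by rw [h, neg_add_cancel]) htr
  have hne : g'.val 0 0 ≠ 0 := fun h0 => z.ne_zero (by rw [← e00, h0, mul_zero])
  have hsc : g' = Matrix.GeneralLinearGroup.scalar (Fin 2) (Units.mk0 _ hne) := Units.ext <| by
    rw [LocalBalance.scal_smul]
    ext i j
    fin_cases i <;> fin_cases j <;> simp [h01, h10, ← hd]
  rw [hsc, conjP_scalar, ← fieldP_one] at hN
  exact not_noFour_fieldP h2 1 hN

/-- Its determinant is not a square, after moving it to `√c`. -/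
theorem not_isSquare_of_gmat (h2 : (2 : F) ≠ 0) {c : F} {g : GL (Fin 2) F} (hg : g.val = OuterGen.gmat c)
    (hN : NoFour (fix (conjP g : MulAut L₂))) : ¬ IsSquare (-c) := by
  rintro ⟨w, hw⟩
  have hdet : g.val.det ≠ 0 := ((Matrix.isUnit_iff_isUnit_det _).1 g.isUnit).ne_zero
  have hc : c ≠ 0 := fun h => hdet (by rw [hg, OuterGen.det_mat, OuterGen.norm_eq, OuterGen.norm_eq, h]; simp)
  have hw0 : w ≠ 0 := fun h => hc (by rw [h, mul_zero] at hw; exact neg_eq_zero.1 hw)
  obtain ⟨B, hB⟩ := OuterGen.exists_sol (F := F) (d := c) h2 hc (-1)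
  let A : QuadraticAlgebra F c 0 := ⟨0, 1 / w⟩
  have hA : QuadraticAlgebra.norm A = 1 := by
    rw [OuterGen.norm_eq]
    simp only [A]
    field_simp
    linear_combination hw
  let x : SL(2, F) := OuterGen.sl A 0 (by rw [hA, QuadraticAlgebra.norm_zero, sub_zero])
  let y : SL(2, F) := OuterGen.sl 0 B (by rw [hB, QuadraticAlgebra.norm_zero]; ring)
  refine two_witness h2 (mem_fix_conjP g x (Or.inl ?_)) (mem_fix_conjP g y (Or.inr ?_)) ?_ ?_ ?_ ?_ ?_ hN
  · show g.val * OuterGen.mat A 0 = OuterGen.mat A 0 * g.val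
    rw [hg, OuterGen.gmat, OuterGen.mat_mul, OuterGen.mat_mul]
    simp [mul_comm]
  · show g.val * OuterGen.mat 0 B = -(OuterGen.mat 0 B * g.val)
    rw [hg, OuterGen.gmat, OuterGen.mat_mul, OuterGen.mat_mul, OuterGen.mat_neg]
    congr 1 <;> ext <;> simp <;> ring
  · refine Subtype.ext ?_
    show OuterGen.mat A 0 * OuterGen.mat A 0 = -1
    rw [OuterGen.mat_mul]
    ext i j
    fin_cases i <;> fin_cases j <;> simp [OuterGen.mat, A] <;> field_simp <;> linear_combination -hw
  · refine Subtype.ext ?_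
    show OuterGen.mat 0 B * OuterGen.mat 0 B = -1
    rw [OuterGen.norm_eq] at hB
    rw [OuterGen.mat_mul]
    ext i j
    fin_cases i <;> fin_cases j <;> simp [OuterGen.mat, -mul_eq_zero] <;>
      first | ring1 | linear_combination hB
  · refine Subtype.ext ?_
    show OuterGen.mat A 0 * OuterGen.mat 0 B = -(OuterGen.mat 0 B * OuterGen.mat A 0)
    rw [OuterGen.mat_mul, OuterGen.mat_mul, OuterGen.mat_neg]
    congr 1 <;> ext <;> simp [A] <;> ring
  · intro h
    obtain ⟨h1, -⟩ := OuterGen.mat_inj h2 hc (congrArg Subtype.val h : OuterGen.mat A 0 = OuterGen.mat 0 B)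
    exact one_div_ne_zero hw0 (congrArg QuadraticAlgebra.im h1)
  · intro h
    have h' : OuterGen.mat A 0 = -OuterGen.mat 0 B := congrArg Subtype.val h
    rw [OuterGen.mat_neg] at h'
    obtain ⟨h1, -⟩ := OuterGen.mat_inj h2 hc h'
    rw [neg_zero] at h1
    exact one_div_ne_zero hw0 (congrArg QuadraticAlgebra.im h1)

/-- A trace zero nonscalar matrix is conjugate to `√c`. -/
theorem exists_conj_gmat (h2 : (2 : F) ≠ 0) (g : GL (Fin 2) F) (htr : g.val 0 0 + g.val 1 1 = 0) :
    ∃ (c : F) (k : GL (Fin 2) F), c = -g.val.det ∧ (k⁻¹ * g * k).val = OuterGen.gmat c := by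
  set a := g.val 0 0
  set b := g.val 0 1
  set e := g.val 1 0
  set d := g.val 1 1
  have hd : d = -a := eq_neg_of_add_eq_zero_right htr
  have hdet : g.val.det ≠ 0 := ((Matrix.isUnit_iff_isUnit_det _).1 g.isUnit).ne_zero
  rw [Matrix.det_fin_two] at hdet
  obtain ⟨x₀, x₁, hx⟩ : ∃ x₀ x₁ : F, x₀ * (e * x₀ + d * x₁) - x₁ * (a * x₀ + b * x₁) ≠ 0 := by
    by_cases he : e = 0
    · by_cases hb : b = 0
      · refine ⟨1, 1, fun h => hdet ?_⟩
        rw [he, hb, hd] at h
        have ha : a = 0 := (mul_eq_zero.1 (show (2 : F) * a = 0 by linear_combination -h)).resolve_left h2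
        show a * d - b * e = 0
        rw [hd, ha, hb]; ring
      · exact ⟨0, 1, by simpa using hb⟩
    · exact ⟨1, 0, by simpa using he⟩
  let k : GL (Fin 2) F := Matrix.GeneralLinearGroup.mkOfDetNeZero
    !![x₀, a * x₀ + b * x₁; x₁, e * x₀ + d * x₁] (by rw [Matrix.det_fin_two_of]; intro h; exact hx (by linear_combination h))
  refine ⟨-g.val.det, k, rfl, ?_⟩
  have hk : g.val * k.val = k.val * OuterGen.gmat (-g.val.det) := by
    show g.val * !![x₀, a * x₀ + b * x₁; x₁, e * x₀ + d * x₁] = !![x₀, a * x₀ + b * x₁; x₁, e * x₀ + d * x₁] * _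
    ext i j
    rw [Matrix.det_fin_two]
    have hd' : g.val 1 1 = -g.val 0 0 := hd
    fin_cases i <;> fin_cases j <;> simp [Matrix.mul_apply, Fin.sum_univ_two, OuterGen.mat, a, b, e, d, hd'] <;> ring
  rw [Units.val_mul, Units.val_mul, mul_assoc, hk, ← mul_assoc, Units.inv_mul, one_mul]

theorem index_five_le {X : Type*} [Group X] [Finite X] [IsSimpleGroup X] (hX : 24 < Nat.card X)
    (H : Subgroup X) (h : H.index < 5) : H = ⊤ := by
  by_contra hH
  have hcore : H.normalCore = ⊥ := (H.normalCore_normal.eq_bot_or_eq_top).resolve_right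
    fun ht => hH (top_le_iff.1 (ht ▸ H.normalCore_le))
  have hinj : Function.Injective (MulAction.toPermHom X (X ⧸ H)) :=
    (MonoidHom.ker_eq_bot_iff _).1 (H.normalCore_eq_ker ▸ hcore)
  have h1 := Nat.card_le_card_of_injective _ hinj
  rw [Nat.card_perm] at h1
  have h2 : Nat.factorial (Nat.card (X ⧸ H)) ≤ Nat.factorial 4 := Nat.factorial_le (by
    have : Nat.card (X ⧸ H) = H.index := rfl
    omega)
  simp [Nat.factorial] at h2
  omega

/-- The two fixed groups generate `PSL₂(q)`. -/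
theorem pairProp_psl (hq : 3 < Fintype.card F) (hodd : Odd (Fintype.card F)) : PairProp L₂ := by
  classical
  have h2 : (2 : F) ≠ 0 := PSL2.odd_card_iff.1 hodd
  suffices key : ∀ (α β : MulAut L₂) (c : F) (g : GL (Fin 2) F), α = conjP g → g.val = OuterGen.gmat c →
      β * β = 1 → α * β = β * α → α ≠ β → NoFour (fix α) → NoFour (fix β) → fix α ⊔ fix β = ⊤ by
    intro α β ha hb hab hne hα hβ
    obtain ⟨g, rfl, htr⟩ := invol_form h2 ha hα
    obtain ⟨c, k, -, hk⟩ := exists_conj_gmat h2 g htr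
    set e : MulAut L₂ := (conjP k)⁻¹
    have he : MulAut.congr (e : L₂ ≃* L₂) (conjP g : MulAut L₂) = conjP (k⁻¹ * g * k) := by
      rw [map_mul, map_mul, map_inv]
      exact MulEquiv.ext fun w => rfl
    have h' := key _ (MulAut.congr (e : L₂ ≃* L₂) β) c _ he hk (by rw [← map_mul, hb, map_one])
      (by rw [← map_mul, hab, map_mul]) (fun h => hne ((MulAut.congr (e : L₂ ≃* L₂)).injective h))
      (noFour_congr _ hα) (noFour_congr _ hβ)
    rw [fix_congr, fix_congr, ← Subgroup.map_sup] at h'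
    refine Subgroup.map_injective (e : L₂ ≃* L₂).injective
      (?_ : Subgroup.map (e : L₂ ≃* L₂).toMonoidHom _ = Subgroup.map (e : L₂ ≃* L₂).toMonoidHom _)
    rw [h', Subgroup.map_top_of_surjective (e : L₂ ≃* L₂).toMonoidHom (e : L₂ ≃* L₂).surjective]
  rintro α β c g rfl hg hb hab hne hα hβ
  have hc := not_isSquare_of_gmat h2 hg hα
  have hc0 : c ≠ 0 := fun h => hc (by rw [h, neg_zero]; exact IsSquare.zero)
  obtain ⟨h, rfl, htr⟩ := invol_form h2 hb hβ
  have hdsq : ¬ IsSquare h.val.det := by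
    obtain ⟨c', k, hc', hk⟩ := exists_conj_gmat h2 h htr
    have hN := noFour_congr (((conjP k : MulAut L₂)⁻¹ : MulAut L₂) : L₂ ≃* L₂) hβ
    rw [show MulAut.congr (((conjP k : MulAut L₂)⁻¹ : MulAut L₂) : L₂ ≃* L₂) (conjP h : MulAut L₂) =
      conjP (k⁻¹ * h * k) by rw [map_mul, map_mul, map_inv]; exact MulEquiv.ext fun w => rfl] at hN
    have := not_isSquare_of_gmat h2 hk hN
    rwa [hc', neg_neg] at this
  -- the second matrix anticommutes with the first
  have hH : ∃ H : QuadraticAlgebra F c 0, h.val = OuterGen.mat 0 H := by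
    rw [← map_mul, ← map_mul] at hab
    obtain ⟨u, hu⟩ := (conjP_eq_conjP_iff (m := 1) le_rfl _ _).1 hab
    have hm : g.val * h.val = (u : F) • (h.val * g.val) := by
      rw [← Units.val_mul, hu, Units.val_mul, LocalBalance.scal_smul, mul_smul_comm, mul_one, Units.val_mul]
    rw [hg] at hm
    have e00 := congrFun (congrFun hm 0) 0
    have e01 := congrFun (congrFun hm 0) 1
    have e10 := congrFun (congrFun hm 1) 0
    simp [OuterGen.mat, Matrix.mul_apply, Fin.sum_univ_two] at e00 e01 e10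
    have hd : h.val 1 1 = -h.val 0 0 := eq_neg_of_add_eq_zero_right htr
    rw [hd] at e01 e10
    have key : h.val 0 1 = -(c * h.val 1 0) := by
      by_cases h00 : h.val 0 0 = 0
      · have hdet : h.val.det ≠ 0 := ((Matrix.isUnit_iff_isUnit_det _).1 h.isUnit).ne_zero
        rw [Matrix.det_fin_two, hd, h00] at hdet
        have h10 : h.val 1 0 ≠ 0 := fun h => hdet (by rw [h]; ring)
        by_contra hne'
        refine hne ?_
        have hb0 : h.val 0 1 ≠ 0 := fun hb => hne' (by
          have : c * h.val 1 0 = 0 := by rw [e00, hb]; ring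
          rw [hb, this, neg_zero])
        have h11 : h.val 0 1 * h.val 0 1 = (c * h.val 1 0) * (c * h.val 1 0) := by
          have e11 := congrFun (congrFun hm 1) 1
          simp [OuterGen.mat, Matrix.mul_apply, Fin.sum_univ_two] at e11
          linear_combination h.val 0 1 * e11 - c * h.val 1 0 * e00
        have hb' : h.val 0 1 = c * h.val 1 0 := (mul_self_eq_mul_self_iff.1 h11).resolve_right hne'
        refine ((conjP_eq_conjP_iff (m := 1) le_rfl _ _).2 ⟨Units.mk0 _ h10, Units.ext ?_⟩).symm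
        rw [Units.val_mul, LocalBalance.scal_smul, hg]
        ext i j
        fin_cases i <;> fin_cases j <;> simp [OuterGen.mat, h00, hd, hb'] <;> ring
      · have hu1 : (u : F) = -1 := mul_left_cancel₀ h00 (by linear_combination e10)
        rw [hu1] at e00
        linear_combination e00
    refine ⟨⟨h.val 0 0, h.val 1 0⟩, ?_⟩
    ext i j
    fin_cases i <;> fin_cases j <;> simp [OuterGen.mat, key, hd]
  obtain ⟨H, hH⟩ := hH
  rw [hH, OuterGen.det_mat, QuadraticAlgebra.norm_zero, zero_sub] at hdsq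
  have hlt := OuterGen.card_lt_five_mul h2 hq hc hdsq
    ((fix (conjP g : MulAut L₂) ⊔ fix (conjP h : MulAut L₂)).comap PSL2.mk)
    (fun x hx => mem_sup_left (mem_fix_conjP g x (Or.inl (by rw [hg]; exact hx))))
    (fun x hx => mem_sup_right (mem_fix_conjP h x (by rw [hH]; exact hx)))
  rw [← Subgroup.card_mul_index ((fix (conjP g : MulAut L₂) ⊔ fix (conjP h : MulAut L₂)).comap PSL2.mk),
    Subgroup.index_comap_of_surjective _ PSL2.mk_surjective, mul_comm] at hlt
  haveI : IsSimpleGroup L₂ := PSL2.psl_isSimpleGroup (by omega)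
  refine index_five_le ?_ _ (Nat.lt_of_mul_lt_mul_right hlt)
  have h12 := PSL2.two_mul_card_PSL (F := F) h2
  obtain ⟨j, hj⟩ := hodd
  have h5 : 5 ≤ Fintype.card F := by omega
  have h25 : 25 ≤ Fintype.card F ^ 2 := by nlinarith
  have : 5 * 24 ≤ Fintype.card F * (Fintype.card F ^ 2 - 1) := Nat.mul_le_mul h5 (by omega)
  omega

end PSL

theorem pairProp_of_isKnown {X : Type u} [Group X] (h : GW.IsKnown X) : PairProp X := by
  rcases h with ⟨F, iF, iF', hodd, hq, ⟨e⟩⟩ | ⟨⟨e⟩⟩
  · exact PairProp.of_equiv e (pairProp_psl hq hodd)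
  · exact PairProp.of_equiv e pairProp_seven

/-- **S1916**, given the case with fixed points of the theorem of Gorenstein and Walter. -/
theorem product_centralizes {G : Type u} [Group G] [Finite G] (h2 : GW.PartTwo.{u}) (L : Subgroup G)
    (hL : IsSimpleGroup L) (hLn : ¬ IsMulCommutative L)
    (hD : ∀ P : Sylow 2 L, ∃ n : ℕ, Nonempty (↥(P : Subgroup L) ≃* DihedralGroup n))
    (a b : G) (ha : orderOf a = 2) (hb : orderOf b = 2) (hc : a * b = b * a)
    (haL : a ∈ Subgroup.normalizer (L : Set G)) (hbL : b ∈ Subgroup.normalizer (L : Set G))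
    (hCa : ∀ R : Sylow 2 ↥(L ⊓ Subgroup.centralizer ({a} : Set G)), IsCyclic R)
    (hCb : ∀ R : Sylow 2 ↥(L ⊓ Subgroup.centralizer ({b} : Set G)), IsCyclic R)
    (hgen : ¬ L ≤ Subgroup.closure ({a, b} : Set G) ⊔ (L ⊓ Subgroup.centralizer ({a} : Set G)) ⊔
      (L ⊓ Subgroup.centralizer ({b} : Set G))) :
    a * b ∈ Subgroup.centralizer (L : Set G) := by
  haveI := hL
  haveI : Fact (Nat.Prime 2) := ⟨Nat.prime_two⟩
  have hdih : GW.DihedralTwo L := fun P => by
    obtain ⟨n, ⟨e⟩⟩ := hD P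
    refine ⟨n, ?_, ⟨e⟩⟩
    have hcard : Nat.card (P : Subgroup L) = 2 * n := by
      rw [Nat.card_congr e.toEquiv, DihedralGroup.nat_card]
    have hpos : 0 < Nat.card (P : Subgroup L) := Nat.card_pos
    by_contra hn
    obtain rfl : n = 1 := by omega
    refine GW.not_complement_of_simple hLn ?_
      (GW.hasNormalPComplement_of_cyclic_two P (isCyclic_of_prime_card (p := 2) (by omega)))
    exact (show (2 : ℕ) ∣ Nat.card (P : Subgroup L) by omega).trans (Subgroup.card_subgroup_dvd_card _)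
  have hP := pairProp_of_isKnown (GW.isKnown_of_simple h2 L hL hdih)
  set φ := Subgroup.normalizerMonoidHom L
  have hφ : ∀ (g : G) (hg : g ∈ Subgroup.normalizer (L : Set G)) (x : L),
      ((φ ⟨g, hg⟩ x : L) : G) = g * x * g⁻¹ := fun _ _ _ => rfl
  have hsq : ∀ g : G, orderOf g = 2 → g * g = 1 := fun g hg => by
    rw [← pow_two, ← hg, pow_orderOf_eq_one]
  by_cases heq : φ ⟨a, haL⟩ = φ ⟨b, hbL⟩
  · rw [Subgroup.mem_centralizer_iff]
    intro x hx
    have h1 : a * x * a⁻¹ = b * x * b⁻¹ := by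
      rw [← hφ a haL ⟨x, hx⟩, heq]; rfl
    have h3 : a * b * x * (a * b)⁻¹ = x := by
      rw [show a * b * x * (a * b)⁻¹ = a * (b * x * b⁻¹) * a⁻¹ by group, ← h1,
        show a * (a * x * a⁻¹) * a⁻¹ = a * a * x * (a * a)⁻¹ by group, hsq a ha]
      group
    exact (mul_inv_eq_iff_eq_mul.1 h3).symm
  exfalso
  have hnf : ∀ (g : G) (hg : g ∈ Subgroup.normalizer (L : Set G)),
      (∀ R : Sylow 2 ↥(L ⊓ Subgroup.centralizer ({g} : Set G)), IsCyclic R) →
      NoFour (fix (φ ⟨g, hg⟩)) ∧ (fix (φ ⟨g, hg⟩)).map L.subtype ≤ L ⊓ Subgroup.centralizer ({g} : Set G) := by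
    intro g hg hR
    have hle : (fix (φ ⟨g, hg⟩)).map L.subtype ≤ L ⊓ Subgroup.centralizer ({g} : Set G) := by
      rintro _ ⟨x, hx, rfl⟩
      refine ⟨x.2, Subgroup.mem_centralizer_singleton_iff.2 ?_⟩
      have h1 : g * (x : G) * g⁻¹ = x := (hφ g hg x).symm.trans (congrArg Subtype.val (mem_fix.1 hx))
      exact (mul_inv_eq_iff_eq_mul.1 h1).symm
    refine ⟨fun x hx y hy hox hoy hxy => Subtype.ext ?_, hle⟩
    exact noFour_of_cyclic _ hR _ (hle (Subgroup.mem_map_of_mem _ hx)) _ (hle (Subgroup.mem_map_of_mem _ hy))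
      (by rw [Subgroup.coe_subtype, Subgroup.orderOf_coe]; exact hox)
      (by simpa using hoy) (congrArg Subtype.val hxy)
  obtain ⟨hNa, hla⟩ := hnf a haL hCa
  obtain ⟨hNb, hlb⟩ := hnf b hbL hCb
  have htop := hP _ _
    (by rw [← map_mul, show (⟨a, haL⟩ * ⟨a, haL⟩ : Subgroup.normalizer (L : Set G)) = 1 from Subtype.ext (hsq a ha),
      map_one])
    (by rw [← map_mul, show (⟨b, hbL⟩ * ⟨b, hbL⟩ : Subgroup.normalizer (L : Set G)) = 1 from Subtype.ext (hsq b hb),
      map_one])
    (by rw [← map_mul, ← map_mul, show (⟨a, haL⟩ * ⟨b, hbL⟩ : Subgroup.normalizer (L : Set G)) = ⟨b, hbL⟩ * ⟨a, haL⟩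
      from Subtype.ext hc])
    heq hNa hNb
  refine hgen ?_
  calc L = (⊤ : Subgroup L).map L.subtype := by rw [← MonoidHom.range_eq_map, Subgroup.range_subtype]
    _ = (fix (φ ⟨a, haL⟩)).map L.subtype ⊔ (fix (φ ⟨b, hbL⟩)).map L.subtype := by rw [← htop, Subgroup.map_sup]
    _ ≤ _ := sup_le_sup (hla.trans le_sup_right) hlb

end Cfsg.Agent.GW.OuterPair
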