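import Cfsg.Agent.Lib.DihedralBlock.Setting

/-!
# The element of order three on a four group

In the setting of `DihedralBlock.Data σ τ M₀` with `J = σ ^ M₀` and a reflection `q = σ ^ j * τ`, the four
group `{1, J, q, J q}` has a 3-cycle `r = s s'` (`s = σ ^ (M₀/2)`, `s'` a conjugate of `s` fixing `q`).
If `s` centralises `D_q = V ∩ C(q)` (possibly modulo an invariant subgroup `F`) then so does `r`.
-/

set_option autoImplicit false
set_option linter.style.haveILetI false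
set_option linter.unusedSectionVars false

namespace Cfsg.Agent.GW.RhoInvariant

universe u

variable {G : Type u} [Group G] [Finite G] {σ τ : G} {M₀ : ℕ} (d : DihedralBlock.Data σ τ M₀) {j : ℕ}
include d

theorem commute_refl : Commute (σ ^ M₀) (σ ^ j * τ) := (d.commute_J_pow j).mul_right d.commute_J_t

theorem refl_inv (i : ℕ) : σ ^ j * τ * σ ^ i = (σ ^ i)⁻¹ * (σ ^ j * τ) := by
  rw [mul_assoc, d.t_mul_pow, ← mul_assoc, ← mul_assoc,
    ((Commute.pow_pow_self σ j i).inv_right).eq]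

theorem refl_sq : σ ^ j * τ * (σ ^ j * τ) = 1 := by
  rw [← mul_assoc, refl_inv d j, mul_assoc, mul_assoc, d.tsq, mul_one, inv_mul_cancel]

theorem eq_of_sq {i : ℕ} (h : σ ^ i * σ ^ i = 1) : σ ^ i = 1 ∨ σ ^ i = σ ^ M₀ := by
  rw [← pow_add, ← two_mul, ← orderOf_dvd_iff_pow_eq_one, d.hord] at h
  obtain ⟨e, he⟩ := Nat.dvd_of_mul_dvd_mul_left (by norm_num) h
  rcases Nat.even_or_odd e with ⟨f, hf⟩ | ⟨f, hf⟩
  · exact Or.inl (by rw [he, hf, show M₀ * (f + f) = 2 * M₀ * f by ring, pow_mul, d.sigma_pow_two_mul, one_pow])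
  · exact Or.inr (by rw [he, hf, show M₀ * (2 * f + 1) = 2 * M₀ * f + M₀ by ring, pow_add, pow_mul,
      d.sigma_pow_two_mul, one_pow, one_mul])

theorem half_sq : σ ^ (M₀ / 2) * σ ^ (M₀ / 2) = σ ^ M₀ := by
  obtain ⟨m, hm⟩ := d.hM
  rw [← pow_add]; congr 1; omega

/-- Conjugation by `σ ^ (M₀/2)` multiplies reflections by `J`. -/
theorem half_conj (i : ℕ) : σ ^ (M₀ / 2) * (σ ^ i * τ) * (σ ^ (M₀ / 2))⁻¹ = σ ^ M₀ * (σ ^ i * τ) := by
  rw [mul_inv_eq_iff_eq_mul, mul_assoc (σ ^ M₀), refl_inv d (M₀ / 2), ← mul_assoc (σ ^ M₀)]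
  congr 1
  rw [← half_sq d, mul_assoc, mul_inv_cancel, mul_one]

/-- An element commuting with `J` and `q` is an element of `D_q` times one of the four group. -/
theorem decomp_four {c : G} (hJ : Commute (σ ^ M₀) c) (hq : Commute (σ ^ j * τ) c) :
    ∃ v ∈ d.V, Commute (σ ^ j * τ) v ∧ ∃ w, (w = 1 ∨ w = σ ^ M₀ ∨ w = σ ^ j * τ ∨ w = σ ^ M₀ * (σ ^ j * τ)) ∧
      c = v * w := by
  set q := σ ^ j * τ with hqdef
  have hqinv : q⁻¹ = q := inv_eq_of_mul_eq_one_right (refl_sq d)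
  obtain ⟨v, hv, i, hc⟩ := d.decomp c hJ
  have hqv : q * v * q⁻¹ ∈ d.V := d.normV q (commute_refl d) v hv
  rcases hc with rfl | rfl
  · -- rotation
    obtain ⟨k, hk⟩ : ∃ k, q * σ ^ i * q⁻¹ = σ ^ k := by
      refine ⟨i * (2 * M₀ - 1), ?_⟩
      rw [refl_inv d i, mul_inv_cancel_right, pow_mul]
      refine inv_eq_of_mul_eq_one_left ?_
      rw [← pow_succ, Nat.sub_add_cancel (by have := d.hM0; omega), ← pow_mul, mul_comm, pow_mul,
        d.sigma_pow_two_mul, one_pow]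
    have h : q * v * q⁻¹ * σ ^ k = v * σ ^ i := by
      rw [← hk, conj_mul, hq.eq, mul_inv_cancel_right]
    obtain ⟨h1, h2⟩ := d.mul_pow_inj hqv hv h
    rw [← hk, refl_inv d i, mul_inv_cancel_right] at h2
    refine ⟨v, hv, mul_inv_eq_iff_eq_mul.1 h1, σ ^ i, ?_, rfl⟩
    rcases eq_of_sq d (mul_eq_one_iff_eq_inv.2 h2.symm) with e | e
    · exact Or.inl e
    · exact Or.inr (Or.inl e)
  · -- reflection: multiply by `q`
    have hcq : Commute q (v * (σ ^ i * τ) * q) := hq.mul_right (Commute.refl q)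
    obtain ⟨k, hk⟩ : ∃ k, σ ^ i * τ * q = σ ^ k := by
      refine ⟨i + (2 * M₀ - 1) * j, ?_⟩
      rw [hqdef, pow_add, ← mul_assoc, mul_assoc (σ ^ i), d.t_mul_pow, mul_assoc, mul_assoc,
        d.tsq, mul_one, mul_comm (2 * M₀ - 1), pow_mul]
      congr 1
      refine inv_eq_of_mul_eq_one_left ?_
      rw [← pow_succ, Nat.sub_add_cancel (by have := d.hM0; omega), ← pow_mul, mul_comm, pow_mul,
        d.sigma_pow_two_mul, one_pow]
    rw [mul_assoc v, hk] at hcq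
    obtain ⟨k', hk'⟩ : ∃ k', q * σ ^ k * q⁻¹ = σ ^ k' := by
      refine ⟨k * (2 * M₀ - 1), ?_⟩
      rw [refl_inv d k, mul_inv_cancel_right, pow_mul]
      refine inv_eq_of_mul_eq_one_left ?_
      rw [← pow_succ, Nat.sub_add_cancel (by have := d.hM0; omega), ← pow_mul, mul_comm, pow_mul,
        d.sigma_pow_two_mul, one_pow]
    have h : q * v * q⁻¹ * σ ^ k' = v * σ ^ k := by
      rw [← hk', conj_mul, hcq.eq, mul_inv_cancel_right]
    obtain ⟨h1, h2⟩ := d.mul_pow_inj hqv hv h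
    rw [← hk', refl_inv d k, mul_inv_cancel_right] at h2
    have hy : σ ^ i * τ = σ ^ k * q := by rw [← hk, mul_assoc, refl_sq d, mul_one]
    refine ⟨v, hv, mul_inv_eq_iff_eq_mul.1 h1, σ ^ i * τ, ?_, rfl⟩
    rcases eq_of_sq d (mul_eq_one_iff_eq_inv.2 h2.symm) with e | e <;> rw [hy, e]
    · exact Or.inr (Or.inr (Or.inl (one_mul q)))
    · exact Or.inr (Or.inr (Or.inr rfl))

/-- A conjugate of `σ ^ (M₀/2)` centralising `q` and exchanging `J` and `J q`. -/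
theorem exists_swap : ∃ s' : G, s' * (σ ^ j * τ) * s'⁻¹ = σ ^ j * τ ∧
    s' * σ ^ M₀ * s'⁻¹ = σ ^ M₀ * (σ ^ j * τ) ∧ s' * s' = σ ^ j * τ := by
  set q := σ ^ j * τ with hqdef
  set J := σ ^ M₀ with hJdef
  have hqJ : q ≠ J := fun h => d.mul_pow_ne d.V.one_mem d.V.one_mem M₀ j (by rw [one_mul, one_mul]; exact h.symm)
  have hqo : orderOf q = 2 := by
    refine orderOf_eq_prime (by rw [pow_two]; exact refl_sq d) fun h => ?_
    exact d.mul_pow_ne d.V.one_mem d.V.one_mem 0 j (by rw [one_mul, one_mul, pow_zero]; exact h.symm)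
  obtain ⟨g, hg⟩ := isConj_iff.1 (d.conjAll q hqo)
  set x := g⁻¹ * J * g with hx
  have hxJ : Commute J x := by
    have h : q * J = J * q := (commute_refl d).symm
    calc J * x = g⁻¹ * ((g * J * g⁻¹) * J) * g := by rw [hx]; group
      _ = g⁻¹ * (J * (g * J * g⁻¹)) * g := by rw [hg, h]
      _ = x * J := by rw [hx]; group
  have hx2 : x * x = 1 := by
    rw [hx, show g⁻¹ * J * g * (g⁻¹ * J * g) = g⁻¹ * (J * J) * g by group, d.J_sq]; group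
  obtain ⟨v, hv, i, hc⟩ := d.decomp x hxJ
  obtain ⟨y, hxy, hy⟩ : ∃ y, x = v * y ∧ ((∃ k, y = σ ^ k) ∨ y = σ ^ i * τ) := by
    rcases hc with h | h
    · exact ⟨_, h, Or.inl ⟨i, rfl⟩⟩
    · exact ⟨_, h, Or.inr rfl⟩
  have hyJ : Commute J y := by
    rcases hy with ⟨k, rfl⟩ | rfl
    · exact d.commute_J_pow k
    · exact commute_refl d
  have hyv : y * v * y⁻¹ ∈ d.V := d.normV y hyJ v hv
  have h1 : v * (y * v * y⁻¹) * (y * y) = 1 := by
    rw [← hx2, hxy]; group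
  have hy2 : y * y = 1 := by
    rcases hy with ⟨k, rfl⟩ | rfl
    · rw [← pow_add] at h1 ⊢
      refine d.pow_mem_V ?_
      rw [eq_inv_of_mul_eq_one_right h1]
      exact inv_mem (mul_mem hv hyv)
    · exact refl_sq d
  rw [hy2, mul_one] at h1
  obtain ⟨l, hl⟩ := d.odd_of_mem hv
  set w := v ^ (l + 1) with hw
  have hw2 : w * w = v := by
    rw [hw, ← pow_add, show l + 1 + (l + 1) = orderOf v + 1 by omega, pow_succ, pow_orderOf_eq_one, one_mul]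
  have hwJ : Commute J w := (d.commute_J hv).pow_right _
  have hyw : y * w * y⁻¹ = w⁻¹ := by
    rw [hw, ← conj_pow, eq_inv_of_mul_eq_one_right h1, inv_pow]
  have hyinv : y⁻¹ = y := inv_eq_of_mul_eq_one_right hy2
  have hxw : x = w * y * w⁻¹ := by
    rw [hxy, ← hw2, mul_assoc w w y, mul_assoc w y]
    congr 1
    calc w * y = (y * w * y⁻¹)⁻¹ * y := by rw [hyw, inv_inv]
      _ = y * w⁻¹ := by group
  set g' := g * w with hg'
  have hg'J : g' * J * g'⁻¹ = q := by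
    rw [hg', show g * w * J * (g * w)⁻¹ = g * (w * J * w⁻¹) * g⁻¹ by group, ← hwJ.eq, mul_inv_cancel_right, hg]
  have hg'y : g' * y * g'⁻¹ = J := by
    rw [hg', show g * w * y * (g * w)⁻¹ = g * (w * y * w⁻¹) * g⁻¹ by group, ← hxw, hx]; group
  have hyref : y = σ ^ i * τ := by
    rcases hy with ⟨k, rfl⟩ | h
    · exfalso
      rcases eq_of_sq d hy2 with e | e <;> rw [e] at hg'y
      · exact d.J_ne_one (by simpa using hg'y.symm)
      · exact hqJ (hg'J.symm.trans hg'y)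
    · exact h
  set s := σ ^ (M₀ / 2)
  refine ⟨g' * s * g'⁻¹, ?_, ?_, ?_⟩
  · calc g' * s * g'⁻¹ * q * (g' * s * g'⁻¹)⁻¹ = g' * (s * J * s⁻¹) * g'⁻¹ := by rw [← hg'J]; group
      _ = q := by rw [← (d.commute_J_pow (M₀ / 2)).eq, mul_inv_cancel_right, hg'J]
  · calc g' * s * g'⁻¹ * J * (g' * s * g'⁻¹)⁻¹
        = g' * (s * y * s⁻¹) * g'⁻¹ := by rw [← hg'y]; group
      _ = (g' * J * g'⁻¹) * (g' * y * g'⁻¹) := by
          rw [hyref, half_conj d i, conj_mul]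
      _ = J * q := by rw [hg'J, hg'y, (commute_refl d).eq]
  · calc g' * s * g'⁻¹ * (g' * s * g'⁻¹) = g' * (s * s) * g'⁻¹ := by group
      _ = q := by rw [half_sq d, hg'J]

/-- The 3-cycle; it centralises `D_q` modulo an invariant `F` as soon as `σ ^ (M₀/2)` does. -/
theorem exists_r_mod (F : Subgroup G)
    (hF : ∀ g : G, (∀ x ∈ ({σ ^ M₀, σ ^ j * τ, σ ^ M₀ * (σ ^ j * τ)} : Set G),
      g * x * g⁻¹ ∈ ({σ ^ M₀, σ ^ j * τ, σ ^ M₀ * (σ ^ j * τ)} : Set G)) → ∀ f ∈ F, g * f * g⁻¹ ∈ F)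
    (hs : ∀ v ∈ d.V, Commute (σ ^ j * τ) v → σ ^ (M₀ / 2) * v * (σ ^ (M₀ / 2))⁻¹ * v⁻¹ ∈ F) :
    ∃ r : G, r * σ ^ M₀ * r⁻¹ = σ ^ j * τ ∧ r * (σ ^ j * τ) * r⁻¹ = σ ^ M₀ * (σ ^ j * τ) ∧
      ∀ v ∈ d.V, Commute (σ ^ j * τ) v →
        r * v * r⁻¹ ∈ d.V ∧ Commute (σ ^ j * τ) (r * v * r⁻¹) ∧ r * v * r⁻¹ * v⁻¹ ∈ F := by
  set q := σ ^ j * τ with hqdef
  set J := σ ^ M₀ with hJdef
  set s := σ ^ (M₀ / 2) with hsdef
  obtain ⟨s', hs'q, hs'J, hs'2⟩ := exists_swap d (j := j)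
  have hJq : Commute J q := commute_refl d
  have hsJ : s * J * s⁻¹ = J := by rw [← (d.commute_J_pow (M₀ / 2)).eq, mul_inv_cancel_right]
  have hsq : s * q * s⁻¹ = J * q := half_conj d j
  set r := s * s' with hr
  have hrJ : r * J * r⁻¹ = q := by
    rw [hr, show s * s' * J * (s * s')⁻¹ = s * (s' * J * s'⁻¹) * s⁻¹ by group, hs'J, ← conj_mul, hsJ, hsq,
      ← mul_assoc, d.J_sq, one_mul]
  have hrq : r * q * r⁻¹ = J * q := by
    rw [hr, show s * s' * q * (s * s')⁻¹ = s * (s' * q * s'⁻¹) * s⁻¹ by group, hs'q, hsq]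
  have hrJq : r * (J * q) * r⁻¹ = J := by
    rw [← conj_mul, hrJ, hrq, ← mul_assoc, ← hJq.eq, mul_assoc, refl_sq d, mul_one]
  -- conjugation preserving the four group preserves `D_q` and `F`
  have hD : ∀ g : G, Commute J (g * J * g⁻¹) → Commute q (g * J * g⁻¹) →
      g⁻¹ * J * g ∈ ({J, q, J * q} : Set G) → g⁻¹ * q * g ∈ ({J, q, J * q} : Set G) →
      ∀ v ∈ d.V, Commute q v → g * v * g⁻¹ ∈ d.V ∧ Commute q (g * v * g⁻¹) := by
    intro g _ _ h1 h2 v hv hqv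
    have hJv := d.commute_J hv
    have hcomm : ∀ z, g⁻¹ * z * g ∈ ({J, q, J * q} : Set G) → Commute z (g * v * g⁻¹) := by
      intro z hz
      have h : Commute (g⁻¹ * z * g) v := by
        rcases hz with e | e | e <;> rw [e]
        exacts [hJv, hqv, hJv.mul_left hqv]
      calc z * (g * v * g⁻¹) = g * (g⁻¹ * z * g * v) * g⁻¹ := by group
        _ = g * v * g⁻¹ * z := by rw [h.eq]; group
    refine ⟨(d.mem_V _).2 ⟨hcomm J h1, ?_⟩, hcomm q h2⟩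
    rw [show g * v * g⁻¹ = MulAut.conj g v from rfl, MulEquiv.orderOf_eq]
    exact d.odd_of_mem hv
  have hinvq : s'⁻¹ * q * s' = q := by
    calc s'⁻¹ * q * s' = s'⁻¹ * (s' * q * s'⁻¹) * s' := by rw [hs'q]
      _ = q := by group
  have hinvJ : s'⁻¹ * J * s' = J * q := by
    calc s'⁻¹ * J * s' = s'⁻¹ * (s' * J * s'⁻¹ * q) * s' := by
          rw [hs'J, mul_assoc J q, refl_sq d, mul_one]
      _ = J * (s'⁻¹ * q * s') := by group
      _ = J * q := by rw [hinvq]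
  have hβ : ∀ v ∈ d.V, Commute q v → s' * v * s'⁻¹ ∈ d.V ∧ Commute q (s' * v * s'⁻¹) := fun v hv hqv => by
    exact hD s' (by rw [hs'J]; exact (Commute.refl J).mul_right hJq)
      (by rw [hs'J]; exact hJq.symm.mul_right (Commute.refl q))
      (by rw [hinvJ]; simp) (by rw [hinvq]; simp) v hv hqv
  have hββ : ∀ v : G, Commute q v → s' * (s' * v * s'⁻¹) * s'⁻¹ = v := fun v hqv => by
    rw [show s' * (s' * v * s'⁻¹) * s'⁻¹ = s' * s' * v * (s' * s')⁻¹ by group, hs'2, hqv.eq, mul_inv_cancel_right]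
  have hFr : ∀ f ∈ F, r * f * r⁻¹ ∈ F := hF r fun x hx => by
    rcases hx with rfl | rfl | rfl
    · rw [hrJ]; simp
    · rw [hrq]; simp
    · rw [hrJq]; simp
  have hFv : ∀ v ∈ d.V, Commute q v → ∀ f ∈ F, v * f * v⁻¹ ∈ F := fun v hv hqv => hF v fun x hx => by
    have h : Commute x v := by
      rcases hx with rfl | rfl | rfl
      exacts [d.commute_J hv, hqv, (d.commute_J hv).mul_left hqv]
    rw [← h.eq, mul_inv_cancel_right]; exact hx
  -- congruence modulo `F`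
  have trans : ∀ {a b c : G}, a * b⁻¹ ∈ F → b * c⁻¹ ∈ F → a * c⁻¹ ∈ F := fun {a b c} h1 h2 => by
    simpa [mul_assoc] using mul_mem h1 h2
  have conjr : ∀ {g a b : G}, (∀ f ∈ F, g * f * g⁻¹ ∈ F) → a * b⁻¹ ∈ F →
      g * a * g⁻¹ * (g * b * g⁻¹)⁻¹ ∈ F := fun {g a b} hg h => by
    simpa [mul_assoc] using hg _ h
  have hstep : ∀ v ∈ d.V, Commute q v → r * v * r⁻¹ * (s' * v * s'⁻¹)⁻¹ ∈ F := fun v hv hqv => by
    obtain ⟨h1, h2⟩ := hβ v hv hqv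
    rw [hr, show s * s' * v * (s * s')⁻¹ = s * (s' * v * s'⁻¹) * s⁻¹ by group]
    exact hs _ h1 h2
  obtain ⟨δ, hδ, hδq, w, hw, hr3⟩ : ∃ δ ∈ d.V, Commute q δ ∧ ∃ w,
      (w = 1 ∨ w = J ∨ w = q ∨ w = J * q) ∧ r * r * r = δ * w := by
    refine decomp_four d ?_ ?_
    · refine (mul_inv_eq_iff_eq_mul.1 ?_).symm
      calc r * r * r * J * (r * r * r)⁻¹ = r * (r * (r * J * r⁻¹) * r⁻¹) * r⁻¹ := by group
        _ = J := by rw [hrJ, hrq, hrJq]
    · refine (mul_inv_eq_iff_eq_mul.1 ?_).symm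
      calc r * r * r * q * (r * r * r)⁻¹ = r * (r * (r * q * r⁻¹) * r⁻¹) * r⁻¹ := by group
        _ = q := by rw [hrq, hrJq, hrJ]
  have hwv : ∀ v ∈ d.V, Commute q v → Commute w v := fun v hv hqv => by
    rcases hw with rfl | rfl | rfl | rfl
    exacts [Commute.one_left v, d.commute_J hv, hqv, (d.commute_J hv).mul_left hqv]
  have hcube : ∀ v ∈ d.V, Commute q v → δ * v * δ⁻¹ * (s' * v * s'⁻¹)⁻¹ ∈ F := fun v hv hqv => by
    obtain ⟨h1, h2⟩ := hβ v hv hqv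
    have e : δ * v * δ⁻¹ = r * (r * (r * v * r⁻¹) * r⁻¹) * r⁻¹ := by
      rw [show r * (r * (r * v * r⁻¹) * r⁻¹) * r⁻¹ = r * r * r * v * (r * r * r)⁻¹ by group, hr3,
        show δ * w * v * (δ * w)⁻¹ = δ * (w * v * w⁻¹) * δ⁻¹ by group, (hwv v hv hqv).eq, mul_inv_cancel_right]
    rw [e]
    -- `r³ ≡ β³ = β`
    refine trans (conjr hFr (conjr hFr (hstep v hv hqv))) ?_
    refine trans (conjr hFr (hstep _ h1 h2)) ?_
    rw [hββ v hqv]
    exact hstep v hv hqv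
  have hδv : ∀ v ∈ d.V, Commute q v → δ * v * δ⁻¹ ∈ d.V ∧ Commute q (δ * v * δ⁻¹) := fun v hv hqv =>
    ⟨mul_mem (mul_mem hδ hv) (inv_mem hδ), (hδq.mul_right hqv).mul_right hδq.inv_right⟩
  have hsquare : ∀ v ∈ d.V, Commute q v → δ * δ * v * (δ * δ)⁻¹ * v⁻¹ ∈ F := fun v hv hqv => by
    obtain ⟨h1, h2⟩ := hβ v hv hqv
    rw [show δ * δ * v * (δ * δ)⁻¹ = δ * (δ * v * δ⁻¹) * δ⁻¹ by group]
    refine trans (conjr (hFv δ hδ hδq) (hcube v hv hqv)) ?_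
    have h3 := hcube _ h1 h2
    rwa [hββ v hqv] at h3
  have hpow : ∀ n : ℕ, ∀ v ∈ d.V, Commute q v → (δ * δ) ^ n * v * ((δ * δ) ^ n)⁻¹ * v⁻¹ ∈ F := by
    intro n
    induction n with
    | zero => intro v _ _; simp
    | succ n ih =>
      intro v hv hqv
      rw [show (δ * δ) ^ (n + 1) * v * ((δ * δ) ^ (n + 1))⁻¹
        = δ * δ * ((δ * δ) ^ n * v * ((δ * δ) ^ n)⁻¹) * (δ * δ)⁻¹ by
          rw [pow_succ']; generalize (δ * δ) ^ n = a; group]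
      refine trans (conjr (hFv _ (mul_mem hδ hδ) (hδq.mul_right hδq)) (ih v hv hqv)) (hsquare v hv hqv)
  obtain ⟨l, hl⟩ := d.odd_of_mem hδ
  have hδl : (δ * δ) ^ (l + 1) = δ := by
    rw [← pow_two, ← pow_mul, show 2 * (l + 1) = orderOf δ + 1 by omega, pow_succ, pow_orderOf_eq_one, one_mul]
  refine ⟨r, hrJ, hrq, fun v hv hqv => ?_⟩
  obtain ⟨h1, h2⟩ := hβ v hv hqv
  have hfix : r * v * r⁻¹ * v⁻¹ ∈ F := by
    refine trans (hstep v hv hqv) ?_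
    have h3 := hpow (l + 1) v hv hqv
    rw [hδl] at h3
    refine trans ?_ h3
    have h4 := inv_mem (hcube v hv hqv)
    simpa [mul_assoc] using h4
  have hrinvJ : r⁻¹ * J * r = J * q := by
    calc r⁻¹ * J * r = r⁻¹ * (r * (J * q) * r⁻¹) * r := by rw [hrJq]
      _ = J * q := by group
  have hrinvq : r⁻¹ * q * r = J := by
    calc r⁻¹ * q * r = r⁻¹ * (r * J * r⁻¹) * r := by rw [hrJ]
      _ = J := by group
  obtain ⟨h4, h5⟩ := hD r (by rw [hrJ]; exact hJq) (by rw [hrJ])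
    (by rw [hrinvJ]; simp) (by rw [hrinvq]; simp) v hv hqv
  exact ⟨h4, h5, hfix⟩

/-- If `σ ^ (M₀/2)` centralises `D_q`, so does the 3-cycle. -/
theorem exists_r (hs : ∀ v ∈ d.V, Commute (σ ^ j * τ) v → Commute (σ ^ (M₀ / 2)) v) :
    ∃ r : G, r * σ ^ M₀ * r⁻¹ = σ ^ j * τ ∧ r * (σ ^ j * τ) * r⁻¹ = σ ^ M₀ * (σ ^ j * τ) ∧
      ∀ v : G, v ∈ d.V → Commute (σ ^ j * τ) v → Commute r v := by
  obtain ⟨r, h1, h2, h3⟩ := exists_r_mod d (j := j) ⊥ (fun g _ f hf => by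
    rw [Subgroup.mem_bot] at hf ⊢; rw [hf]; group) fun v hv hqv => by
      rw [Subgroup.mem_bot, (hs v hv hqv).eq, mul_inv_cancel_right, mul_inv_cancel]
  exact ⟨r, h1, h2, fun v hv hqv =>
    mul_inv_eq_iff_eq_mul.1 (mul_inv_eq_one.1 (Subgroup.mem_bot.1 (h3 v hv hqv).2.2))⟩

/-- The case `q = τ`. -/
theorem exists_r_tau (hs : ∀ v ∈ d.V, Commute τ v → Commute (σ ^ (M₀ / 2)) v) :
    ∃ r : G, r * σ ^ M₀ * r⁻¹ = τ ∧ r * τ * r⁻¹ = σ ^ M₀ * τ ∧ ∀ v : d.V, Commute τ (v : G) → Commute r v := by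
  obtain ⟨r, h1, h2, h3⟩ := exists_r d (j := 0) (by simpa using hs)
  simp only [pow_zero, one_mul] at h1 h2 h3
  exact ⟨r, h1, h2, fun v hv => h3 v v.2 hv⟩

/-- The case `q = σ * τ`. -/
theorem exists_r_sigma_tau (hs : ∀ v ∈ d.V, Commute (σ * τ) v → Commute (σ ^ (M₀ / 2)) v) :
    ∃ r : G, r * σ ^ M₀ * r⁻¹ = σ * τ ∧ r * (σ * τ) * r⁻¹ = σ ^ M₀ * (σ * τ) ∧
      ∀ v : d.V, Commute (σ * τ) (v : G) → Commute r v := by
  obtain ⟨r, h1, h2, h3⟩ := exists_r d (j := 1) (by simpa using hs)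
  simp only [pow_one] at h1 h2 h3
  exact ⟨r, h1, h2, fun v hv => h3 v v.2 hv⟩

/-- The invariance of a linear character of `V` on `D_q` under the 3-cycle. -/
theorem exists_r_hom {A : Type*} [CommGroup A] (θ : d.V →* A) (F : Subgroup G)
    (hθ : ∀ x : d.V, (x : G) ∈ F → θ x = 1)
    (hF : ∀ g : G, (∀ x ∈ ({σ ^ M₀, σ ^ j * τ, σ ^ M₀ * (σ ^ j * τ)} : Set G),
      g * x * g⁻¹ ∈ ({σ ^ M₀, σ ^ j * τ, σ ^ M₀ * (σ ^ j * τ)} : Set G)) → ∀ f ∈ F, g * f * g⁻¹ ∈ F)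
    (hs : ∀ v ∈ d.V, Commute (σ ^ j * τ) v → σ ^ (M₀ / 2) * v * (σ ^ (M₀ / 2))⁻¹ * v⁻¹ ∈ F) :
    ∃ r : G, r * σ ^ M₀ * r⁻¹ = σ ^ j * τ ∧ r * (σ ^ j * τ) * r⁻¹ = σ ^ M₀ * (σ ^ j * τ) ∧
      ∀ v w : d.V, Commute (σ ^ j * τ) (v : G) → (w : G) = r⁻¹ * (v : G) * r → θ w = θ v := by
  obtain ⟨r, h1, h2, h3⟩ := exists_r_mod d (j := j) F hF hs
  refine ⟨r, h1, h2, fun v w hv hw => ?_⟩
  have hwq : Commute (σ ^ j * τ) (w : G) := by
    -- `r q r⁻¹ = J q` commutes with `v`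
    have h : Commute (r * (σ ^ j * τ) * r⁻¹) (v : G) := by
      rw [h2]; exact (d.commute_J v.2).mul_left hv
    rw [hw]
    calc σ ^ j * τ * (r⁻¹ * v * r) = r⁻¹ * (r * (σ ^ j * τ) * r⁻¹ * v) * r := by group
      _ = r⁻¹ * v * r * (σ ^ j * τ) := by rw [h.eq]; group
  obtain ⟨-, -, h4⟩ := h3 w w.2 hwq
  rw [hw, show r * (r⁻¹ * (v : G) * r) * r⁻¹ = v by group, ← hw] at h4
  have h5 := hθ (v * w⁻¹) (by push_cast; exact h4)
  rw [map_mul, map_inv, mul_inv_eq_one] at h5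
  exact h5.symm

end Cfsg.Agent.GW.RhoInvariant
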