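import Cfsg.Agent.Lib.GW.Assembly
import Cfsg.Agent.Lib.RankOneP.Main
import Cfsg.Agent.Lib.Transfer.Frobenius
import Cfsg.Agent.Lib.GW.CompCent
import Cfsg.Agent.S2117
import Cfsg.Agent.Lib.Schur.Basic

/-!
# Quaternion Sylow 2-subgroups with cyclic intersections

`quaternion_ci`: a nonsolvable group with quaternion Sylow 2-subgroups, any two meeting in a cyclic
group, has Sylow 2-subgroups `Q₈` and is `SL₂(q)`, `q ≡ 3, 5 mod 8`, up to odd order, given the
second part of Gorenstein-Walter.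
-/

set_option autoImplicit false
set_option linter.style.haveILetI false

namespace Cfsg.Agent.GW

open Subgroup
open scoped MatrixGroups

universe u v w

/-- Lifting from a perfect group with trivial multiplier, in any universes. -/
theorem exists_lift_of_trivial_multiplier {S : Type v} [Group S] [Finite S]
    (hperf : _root_.commutator S = ⊤) (hS : Cfsg.HasCyclicSchurMultiplier S 1) {Γ : Type u} [Group Γ]
    {Q : Type w} [Group Q] (σ : Γ →* Q) (hσ : Function.Surjective σ) (hz : σ.ker ≤ center Γ)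
    (π : S →* Q) : ∃ f : S →* Γ, σ.comp f = π := by
  let Δ : Subgroup (Γ × S) := (σ.comp (MonoidHom.fst Γ S)).eqLocus (π.comp (MonoidHom.snd Γ S))
  let τ : ↥Δ →* S := (MonoidHom.snd Γ S).comp Δ.subtype
  have hτ : Function.Surjective τ := fun s => by
    obtain ⟨g, hg⟩ := hσ (π s)
    exact ⟨⟨(g, s), hg⟩, rfl⟩
  have hτz : τ.ker ≤ center ↥Δ := by
    intro x hx
    have hx2 : (x : Γ × S).2 = 1 := hx
    have hk : (x : Γ × S).1 ∈ σ.ker := by
      have h0 : σ (x : Γ × S).1 = π (x : Γ × S).2 := x.2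
      rw [MonoidHom.mem_ker, h0, hx2, map_one]
    refine mem_center_iff.2 fun y => Subtype.ext (Prod.ext ?_ ?_)
    · exact mem_center_iff.1 (hz hk) _
    · show (y : Γ × S).2 * (x : Γ × S).2 = (x : Γ × S).2 * (y : Γ × S).2
      rw [hx2, one_mul, mul_one]
  have hbot := Schur.ker_inf_commutator_eq_bot hS τ hτ hτz
  let D : Subgroup ↥Δ := _root_.commutator ↥Δ
  let τ' : ↥D →* S := τ.comp D.subtype
  have hinj : Function.Injective τ' := by
    rw [injective_iff_map_eq_one]
    intro x hx
    have h : (x : ↥Δ) ∈ τ.ker ⊓ _root_.commutator ↥Δ := ⟨hx, x.2⟩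
    rw [hbot, mem_bot] at h
    exact Subtype.ext h
  have hsurj : Function.Surjective τ' := by
    intro s
    have hs : s ∈ D.map τ := by
      show s ∈ (_root_.commutator ↥Δ).map τ
      rw [_root_.commutator_def, map_commutator, map_top_of_surjective τ hτ, ← _root_.commutator_def, hperf]
      exact mem_top s
    obtain ⟨d, hd, hde⟩ := hs
    exact ⟨⟨d, hd⟩, hde⟩
  let e : ↥D ≃* S := MulEquiv.ofBijective τ' ⟨hinj, hsurj⟩
  refine ⟨((MonoidHom.fst Γ S).comp (Δ.subtype.comp D.subtype)).comp e.symm.toMonoidHom, ?_⟩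
  ext s
  have h1 : σ (((e.symm s : ↥D) : ↥Δ) : Γ × S).1 = π (((e.symm s : ↥D) : ↥Δ) : Γ × S).2 :=
    ((e.symm s : ↥D) : ↥Δ).2
  exact h1.trans (congrArg π (e.apply_symm_apply s))

/-- A perfect central extension of `PSL₂(q)` by an order 2 centre without a second involution. -/
theorem nonempty_equiv_SL2 {X : Type u} [Group X] [Finite X] {F : Type} [Field F] [Fintype F]
    (hodd : Odd (Fintype.card F)) (h3 : 3 < Fintype.card F) (h9 : Fintype.card F ≠ 9)
    (σ : X →* PSL(2, F)) (hσ : Function.Surjective σ) (hz : σ.ker ≤ center X)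
    (hker : Nat.card σ.ker = 2) (huniq : ∀ x : X, orderOf x = 2 → x ∈ σ.ker) :
    Nonempty (X ≃* SL(2, F)) := by
  haveI : Fact (Nat.Prime 2) := ⟨Nat.prime_two⟩
  have h4 : 4 ≤ Fintype.card F := h3
  have hne4 : Fintype.card F ≠ 4 := fun h => by rw [h] at hodd; exact absurd hodd (by decide)
  obtain ⟨f, hf⟩ := exists_lift_of_trivial_multiplier (PSL2.sl_commutator_eq_top h4)
    (Cfsg.Agent.S2117.result hne4 h9) σ hσ hz PSL2.mk
  have hf' : ∀ s, σ (f s) = PSL2.mk s := fun s => DFunLike.congr_fun hf s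
  have hcard : Nat.card SL(2, F) = Nat.card X := by
    have h1 := σ.ker.card_eq_card_quotient_mul_card_subgroup
    rw [Nat.card_congr (QuotientGroup.quotientKerEquivOfSurjective σ hσ).toEquiv, hker] at h1
    have h2 := (PSL2.mk (F := F)).ker.card_eq_card_quotient_mul_card_subgroup
    rw [Nat.card_congr (QuotientGroup.quotientKerEquivOfSurjective _ PSL2.mk_surjective).toEquiv,
      PSL2.ker_mk, PSL2.card_center] at h2
    have hg : Nat.gcd 2 (Fintype.card F - 1) = 2 := by
      refine Nat.gcd_eq_left ?_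
      obtain ⟨k, hk⟩ := hodd
      exact ⟨k, by omega⟩
    rw [h1, h2, hg]
  -- some involution of the quotient lifts into the range
  obtain ⟨x, hx⟩ := exists_prime_orderOf_dvd_card' (G := PSL(2, F)) 2
    (IsKnown.even_card (Or.inl ⟨F, _, _, hodd, h3, ⟨MulEquiv.refl _⟩⟩))
  obtain ⟨s, hs⟩ := PSL2.mk_surjective x
  have hmem : σ.ker ≤ f.range := by
    have hsk : f s * f s ∈ σ.ker := by
      rw [MonoidHom.mem_ker, map_mul, hf', hs, ← pow_two]
      exact orderOf_dvd_iff_pow_eq_one.1 hx.dvd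
    have hne : f s ∉ σ.ker := fun h => by
      rw [MonoidHom.mem_ker, hf', hs] at h
      rw [h, orderOf_one] at hx
      omega
    have hsk1 : f s * f s ≠ 1 := fun h => hne (huniq (f s) (orderOf_eq_prime (by rw [pow_two]; exact h)
      (fun h1 => hne (h1 ▸ one_mem _))))
    intro z hz'
    by_cases hz1 : z = 1
    · exact hz1 ▸ one_mem _
    · have he : σ.ker = zpowers (f s * f s) := by
        refine (eq_of_le_of_card_ge (zpowers_le.2 hsk) ?_).symm
        rw [hker, Nat.card_zpowers]
        exact Nat.two_le_iff _ |>.2 ⟨(orderOf_pos _).ne', fun h => hsk1 (orderOf_eq_one_iff.1 h)⟩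
      rw [he] at hz'
      exact zpowers_le.2 (mul_mem (MonoidHom.mem_range.2 ⟨s, rfl⟩) (MonoidHom.mem_range.2 ⟨s, rfl⟩)) hz'
  have hsurj : Function.Surjective f := fun y => by
    obtain ⟨t, ht⟩ := PSL2.mk_surjective (σ y)
    have hk : (f t)⁻¹ * y ∈ σ.ker := by
      rw [MonoidHom.mem_ker, map_mul, map_inv, hf', ht, inv_mul_cancel]
    obtain ⟨r, hr⟩ := hmem hk
    exact ⟨t * r, by rw [map_mul, hr, mul_inv_cancel_left]⟩
  exact ⟨(MulEquiv.ofBijective f (hsurj.bijective_of_nat_card_le hcard.le)).symm⟩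

variable {G : Type u} [Group G] [Finite G]

/-- A four group with a nontrivial odd automizer. -/
theorem exists_four_moved (hd : SubDihedral G) (hnc : ¬ Cfsg.HasNormalPComplement 2 G) :
    ∃ V : Subgroup G, IsKleinFour V ∧ ∃ g ∈ normalizer (V : Set G), Odd (orderOf g) ∧
      g ∉ centralizer (V : Set G) := by
  haveI : Fact (Nat.Prime 2) := ⟨Nat.prime_two⟩
  obtain ⟨S⟩ := (inferInstance : Nonempty (Sylow 2 G))
  obtain ⟨n, hn, ⟨e⟩⟩ := (hd S).resolve_left fun h => hnc (hasNormalPComplement_of_cyclic_two S h)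
  haveI : NeZero n := ⟨by omega⟩
  obtain ⟨K, hK⟩ := DihedralSylow.exists_two_pow e
  obtain ⟨φ, hφ⟩ := DihedralSylow.exists_embeds e
  have h2 : 2 ∣ n := by
    rcases K with _ | K
    · rw [pow_zero] at hK; omega
    · exact ⟨2 ^ K, by rw [hK, pow_succ']⟩
  by_contra hno
  push Not at hno
  refine hnc (Transfer.hasNormalPComplement_of_centralizer S fun Q hQ g hg hco => ?_)
  have hodd : Odd (orderOf g) := Nat.coprime_two_right.1 hco
  exact hφ.mem_centralizer_of_four hK h2 hQ hg hodd fun i hgi =>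
    hno _ (hφ.isKleinFour_map h2 i) g hgi hodd

/-- If every four group lies in only one Sylow 2-subgroup, these have order 4. -/
theorem card_sylow_eq_four (hd : SubDihedral G) (hnc : ¬ Cfsg.HasNormalPComplement 2 G)
    (huniq : ∀ V : Subgroup G, IsKleinFour V → ∀ S T : Sylow 2 G, V ≤ (S : Subgroup G) →
      V ≤ (T : Subgroup G) → S = T) (S : Sylow 2 G) : Nat.card (S : Subgroup G) = 4 := by
  haveI : Fact (Nat.Prime 2) := ⟨Nat.prime_two⟩
  obtain ⟨V, hV, g, hg, hodd, hgC⟩ := exists_four_moved hd hnc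
  haveI := hV
  have hVp : IsPGroup 2 V := IsPGroup.of_card (n := 2) (by rw [IsKleinFour.card_four]; norm_num)
  obtain ⟨T, hT⟩ := hVp.exists_le_sylow
  have hgT : g ∈ normalizer ((T : Subgroup G) : Set G) := by
    refine Sylow.smul_eq_iff_mem_normalizer.1 (huniq V hV _ T ?_ hT)
    intro v hv
    rw [Sylow.coe_subgroup_smul, Subgroup.mem_pointwise_smul_iff_inv_smul_mem]
    apply hT
    have := (mem_normalizer_iff.1 (inv_mem hg) v).1 hv
    simpa using this
  rw [Sylow.card_eq_multiplicity, ← Sylow.card_eq_multiplicity T]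
  obtain ⟨n, hn, ⟨e⟩⟩ := (hd T).resolve_left fun h => hnc (hasNormalPComplement_of_cyclic_two T h)
  haveI : NeZero n := ⟨by omega⟩
  obtain ⟨K, hK⟩ := DihedralSylow.exists_two_pow e
  obtain ⟨φ, hφ⟩ := DihedralSylow.exists_embeds e
  have h2 : 2 ∣ n := by
    rcases K with _ | K
    · rw [pow_zero] at hK; omega
    · exact ⟨2 ^ K, by rw [hK, pow_succ']⟩
  rcases hφ.subgroup_cases hK h2 _ le_rfl with h | ⟨i, h⟩ | ⟨x, t, k, h⟩
  · exact absurd h fun h => hnc (hasNormalPComplement_of_cyclic_two T h)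
  · rw [h, card_map_of_injective hφ.inj, DihedralSylow.card_four h2]
  · exfalso
    refine hgC (mem_centralizer_iff.2 fun s hs => ?_)
    have h1 := h.centralizes_of_odd (g := g) (fun y hy => (mem_normalizer_iff.1 hgT y).1 hy)
      hodd (fun y _ => by rw [pow_orderOf_eq_one]; group) s (hT hs)
    exact (mul_inv_eq_iff_eq_mul.1 h1).symm

/-- The quaternion groups of order `2^(n+3)` have one involution. -/
theorem quaternion_unique {P : Type v} [Group P] (n : ℕ) (e : P ≃* QuaternionGroup (2 ^ (n + 1)))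
    {x y : P} (hx : orderOf x = 2) (hy : orderOf y = 2) : x = y := by
  haveI : Fact (Nat.Prime 2) := ⟨Nat.prime_two⟩
  haveI : NeZero (2 ^ (n + 1)) := ⟨by positivity⟩
  obtain ⟨q, -, -, huniq, -⟩ := QuaternionFactor.quat_facts (Q := (⊤ : Subgroup P))
    (by omega : 1 ≤ n + 1) (topEquiv.trans e)
  have key : ∀ z : P, orderOf z = 2 → z = q := fun z hz => by
    refine (huniq z (mem_top z) (hz ▸ pow_orderOf_eq_one z)).resolve_left fun h => ?_
    rw [h, orderOf_one] at hz
    omega
  rw [key x hx, key y hy]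

/-- **Quaternion Sylow 2-subgroups with cyclic intersections**. -/
theorem quaternion_ci (h2 : PartTwo.{u}) (hns : ¬ Group.IsSolvable G)
    (hQ : ∀ S : Sylow 2 G, ∃ n : ℕ, Nonempty (↥(S : Subgroup G) ≃* QuaternionGroup (2 ^ (n + 1))))
    (hC : ∀ S T : Sylow 2 G, S ≠ T → IsCyclic ↥((S : Subgroup G) ⊓ (T : Subgroup G))) :
    (∀ S : Sylow 2 G, Nonempty (↥(S : Subgroup G) ≃* QuaternionGroup 2)) ∧
    ∃ (G₁ : Subgroup G) (_ : G₁.Normal) (_ : ((Cfsg.oddCore G).subgroupOf G₁).Normal),
      Odd G₁.index ∧ Cfsg.oddCore G ≤ G₁ ∧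
      ∃ (F : Type) (_ : Field F) (_ : Fintype F),
        (Fintype.card F % 8 = 3 ∨ Fintype.card F % 8 = 5) ∧ 3 < Fintype.card F ∧
        Nonempty (↥G₁ ⧸ (Cfsg.oddCore G).subgroupOf G₁ ≃* Matrix.SpecialLinearGroup (Fin 2) F) := by
  haveI : Fact (Nat.Prime 2) := ⟨Nat.prime_two⟩
  obtain ⟨T⟩ := (inferInstance : Nonempty (Sylow 2 G))
  obtain ⟨n, ⟨e⟩⟩ := hQ T
  set O := Cfsg.oddCore G with hOdef
  set μ := QuotientGroup.mk' O with hμ
  have hμs : Function.Surjective μ := QuotientGroup.mk'_surjective O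
  set TX := T.mapSurjective hμs
  have hTinj : Function.Injective (μ.comp (T : Subgroup G).subtype) := by
    rw [injective_iff_map_eq_one]
    intro x hx
    have hxO : (x : G) ∈ O := (QuotientGroup.eq_one_iff _).1 hx
    obtain ⟨k, hk⟩ := T.2 x
    refine orderOf_eq_one_iff.1 (Nat.eq_one_of_dvd_coprimes
      ((Nat.coprime_two_right.2 (PCore.odd_card_oddCore (G := G))).pow_right k) ?_ (orderOf_dvd_of_pow_eq_one hk))
    rw [← Subgroup.orderOf_coe]
    exact Subgroup.orderOf_dvd_natCard O hxO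
  let eX : (TX : Subgroup (G ⧸ O)) ≃* QuaternionGroup (2 ^ (n + 1)) :=
    ((MulEquiv.subgroupCongr (show (TX : Subgroup (G ⧸ O)) = (μ.comp (T : Subgroup G).subtype).range by
      rw [Sylow.coe_mapSurjective, MonoidHom.range_eq_map, ← map_map, ← MonoidHom.range_eq_map,
        range_subtype])).trans (MonoidHom.ofInjective hTinj).symm).trans e
  obtain ⟨hZ, hZT, hOY, TY, ⟨eY⟩⟩ := RankOneP.quaternion_quotient TX (n + 1) (by omega) eX
    PCore.pPrimeCore_quotient_self_eq_bot
  set Z := center (G ⧸ O)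
  set ν := QuotientGroup.mk' Z with hν
  have hνs : Function.Surjective ν := QuotientGroup.mk'_surjective Z
  haveI : NeZero (2 ^ (n + 1)) := ⟨by positivity⟩
  have h2n : 2 ≤ 2 ^ (n + 1) := by
    calc 2 = 2 ^ 1 := (pow_one 2).symm
      _ ≤ 2 ^ (n + 1) := Nat.pow_le_pow_right two_pos (by omega)
  have hd : SubDihedral ((G ⧸ O) ⧸ Z) := subDihedral_of_sylow TY h2n eY
  have hnsY : ¬ Group.IsSolvable ((G ⧸ O) ⧸ Z) := fun h => by
    haveI := h
    haveI : Group.IsSolvable Z :=
      Group.isSolvable_of_comm fun a b => Subtype.ext (mem_center_iff.1 b.2 a)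
    haveI : Group.IsSolvable (G ⧸ O) :=
      Group.isSolvable_of_ker_le_range Z.subtype ν (by simp [ν])
    haveI : Group.IsSolvable O := Cfsg.Agent.S0205.result PCore.odd_card_oddCore
    exact hns (Group.isSolvable_of_ker_le_range O.subtype μ (by simp [μ]))
  have hncY : ¬ Cfsg.HasNormalPComplement 2 ((G ⧸ O) ⧸ Z) := fun h => by
    haveI := (isPGroup_of_complement h hOY).isNilpotent
    exact hnsY inferInstance
  -- four groups lie in one Sylow subgroup
  set π := ν.comp μ with hπ
  have hπs : Function.Surjective π := hνs.comp hμs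
  have huniq : ∀ V : Subgroup ((G ⧸ O) ⧸ Z), IsKleinFour V → ∀ U U' : Sylow 2 ((G ⧸ O) ⧸ Z),
      V ≤ (U : Subgroup _) → V ≤ (U' : Subgroup _) → U = U' := by
    intro V hV U U' hU hU'
    by_contra hne
    haveI := hV
    obtain ⟨R⟩ : Nonempty (Sylow 2 (V.comap π)) := inferInstance
    set R' := (R : Subgroup (V.comap π)).map (V.comap π).subtype with hR'
    have hmapR : R'.map π = V := by
      have hle : R'.map π ≤ V := (map_mono (map_subtype_le _)).trans (map_comap_le _ _)
      refine eq_of_le_of_card_ge hle ?_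
      obtain ⟨k, hk⟩ := (IsPGroup.of_card (n := 2) (by rw [IsKleinFour.card_four]; norm_num) :
        IsPGroup 2 V).exists_card_eq
      have hdvd : (R'.map π).relIndex V ∣ R'.relIndex (V.comap π) := by
        have h := relIndex_map_map π R' (V.comap π)
        rw [map_comap_eq_self_of_surjective hπs] at h
        rw [h, sup_eq_left.2 (ker_le_comap _ _)]
        exact relIndex_dvd_of_le_left _ le_sup_left
      have hR : R'.relIndex (V.comap π) = (R : Subgroup (V.comap π)).index := by
        rw [relIndex, hR', subgroupOf, comap_map_eq_self_of_injective (subtype_injective _)]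
      have h1 : (R'.map π).relIndex V = 1 := by
        obtain ⟨j, -, hj⟩ := (Nat.dvd_prime_pow Nat.prime_two).1
          (show (R'.map π).relIndex V ∣ 2 ^ k from hk ▸ ((R'.map π).subgroupOf V).index_dvd_card)
        rcases Nat.eq_zero_or_pos j with rfl | hj0
        · simpa using hj
        · refine absurd ((dvd_pow_self 2 hj0.ne').trans (hj ▸ dvd_refl _) |>.trans hdvd) ?_
          rw [hR]
          exact R.not_dvd_index
      exact card_le_of_le (relIndex_eq_one.1 h1)
    have hlift : ∀ W : Sylow 2 ((G ⧸ O) ⧸ Z), V ≤ (W : Subgroup _) →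
        ∃ W' : Sylow 2 G, R' ≤ (W' : Subgroup G) ∧ (W' : Subgroup G).map π = W := by
      intro W hW
      have hR'W : R' ≤ (W : Subgroup _).comap π :=
        (map_subtype_le _).trans (comap_mono hW)
      have hR'p : IsPGroup 2 (R'.subgroupOf ((W : Subgroup _).comap π)) :=
        (R.2.map _).comap_subtype
      obtain ⟨W₀, hW₀⟩ := hR'p.exists_le_sylow
      set W₁ := (W₀ : Subgroup ((W : Subgroup _).comap π)).map ((W : Subgroup _).comap π).subtype
        with hW₁
      obtain ⟨W', hW'⟩ := (W₀.2.map ((W : Subgroup _).comap π).subtype).exists_le_sylow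
      refine ⟨W', fun r hr => hW' ⟨⟨r, hR'W hr⟩, hW₀ hr, rfl⟩, ?_⟩
      -- `W₁` already has full order
      have hW₁' : W₁ = (W' : Subgroup G) := by
        refine eq_of_le_of_card_ge hW' ?_
        obtain ⟨a, ha⟩ := W'.2.exists_card_eq
        obtain ⟨b, hb⟩ := (W₀.2.map ((W : Subgroup _).comap π).subtype).exists_card_eq
        rw [ha, hb]
        refine Nat.le_of_dvd (pow_pos two_pos _) ?_
        have hidx : ¬ 2 ∣ W₁.index := by
          rw [hW₁, index_map_subtype, index_comap_of_surjective _ hπs]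
          exact Nat.prime_two.not_dvd_mul W₀.not_dvd_index W.not_dvd_index
        have h := (W' : Subgroup G).card_subgroup_dvd_card
        rw [← W₁.card_mul_index, ha, hb] at h
        exact ((Nat.prime_two.coprime_iff_not_dvd.2 hidx).pow_left a).dvd_of_dvd_mul_right h
      have hle : (W' : Subgroup G).map π ≤ W := by
        rw [← hW₁', hW₁, map_le_iff_le_comap]
        exact map_subtype_le _
      have h := (Sylow.mapSurjective hπs W').3 W.2 (by rw [Sylow.coe_mapSurjective]; exact hle)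
      exact (h.trans (Sylow.coe_mapSurjective hπs W')).symm
    obtain ⟨W, hW, hWU⟩ := hlift U hU
    obtain ⟨W', hW', hWU'⟩ := hlift U' hU'
    have hWne : W ≠ W' := fun h => hne (Sylow.ext (by rw [← hWU, ← hWU', h]))
    haveI := hC W W' hWne
    haveI : IsCyclic R' := isCyclic_of_le (le_inf hW hW')
    have hVc : IsCyclic V := by
      rw [← hmapR]
      exact isCyclic_of_surjective (π.subgroupMap R') (π.subgroupMap_surjective R')
    exact IsKleinFour.not_isCyclic hVc
  have h4 := card_sylow_eq_four hd hncY huniq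
  have hn0 : n = 0 := by
    have h := h4 TY
    rw [Nat.card_congr eY.toEquiv, DihedralGroup.nat_card, pow_succ] at h
    by_contra hn
    have : 2 ≤ 2 ^ n := by
      calc 2 = 2 ^ 1 := (pow_one 2).symm
        _ ≤ 2 ^ n := Nat.pow_le_pow_right two_pos (by omega)
    omega
  subst hn0
  refine ⟨fun S => ?_, ?_⟩
  · exact ⟨(S.equiv T).trans e⟩
  -- the simple subgroup
  rcases structure_of_oddCore_eq_bot hd (knownSections h2) hOY with h | ⟨⟨f⟩⟩ | ⟨⟨f⟩⟩ | ⟨E, hEn, hEs, hEk, -⟩
  · haveI : Group.IsNilpotent ((G ⧸ O) ⧸ Z) := h.isNilpotent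
    exact (hnsY inferInstance).elim
  · refine absurd (CharInt.isSolvable_of_card_eq (a := 2) (b := 1) Nat.prime_two Nat.prime_three ?_) hnsY
    rw [Nat.card_congr f.toEquiv, nat_card_alternatingGroup, Nat.card_fin]; rfl
  · refine absurd (CharInt.isSolvable_of_card_eq (a := 3) (b := 1) Nat.prime_two Nat.prime_three ?_) hnsY
    rw [Nat.card_congr f.toEquiv, Nat.card_perm, Nat.card_fin]; rfl
  haveI := hEn
  haveI := hEs
  obtain ⟨RE⟩ : Nonempty (Sylow 2 E) := inferInstance
  obtain ⟨U, hU⟩ := (RE.2.map E.subtype).exists_le_sylow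
  have hREcard : Nat.card (RE : Subgroup E) = 4 := by
    have hle : Nat.card (RE : Subgroup E) ∣ 4 := by
      rw [← h4 U, ← card_map_of_injective E.subtype_injective]
      exact card_dvd_of_le hU
    obtain ⟨k, hk, hk'⟩ := (Nat.dvd_prime_pow Nat.prime_two).1 (show _ ∣ 2 ^ 2 from hle)
    interval_cases k
    · exfalso
      refine RE.not_dvd_index ?_
      rw [pow_zero] at hk'
      rw [(RE : Subgroup E).card_eq_one.1 hk', index_bot]
      exact hEk.even_card
    · haveI := isCyclic_of_prime_card (p := 2) (α := ↥(RE : Subgroup E)) (by rw [hk', pow_one])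
      exact absurd (hasNormalPComplement_of_cyclic_two RE this)
        (not_complement_of_simple hEk.not_comm hEk.even_card)
    · exact hk'
  have hEfac : (Nat.card E).factorization 2 = 2 := by
    have h := RE.card_eq_multiplicity
    rw [hREcard] at h
    exact (Nat.pow_right_injective le_rfl (h.symm.trans (by norm_num : 4 = 2 ^ 2)))
  have hEodd : ¬ 2 ∣ E.index := by
    intro h
    have h1 := congrArg (fun m => m.factorization 2) E.card_mul_index
    simp only [Nat.factorization_mul Nat.card_pos.ne' index_ne_zero_of_finite, Finsupp.add_apply,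
      hEfac] at h1
    obtain ⟨U⟩ : Nonempty (Sylow 2 ((G ⧸ O) ⧸ Z)) := inferInstance
    have h2' := U.card_eq_multiplicity
    rw [h4 U] at h2'
    have h3 := (Nat.prime_two.dvd_iff_one_le_factorization index_ne_zero_of_finite).1 h
    have h5 := Nat.pow_right_injective le_rfl (h2'.symm.trans (by norm_num : 4 = 2 ^ 2))
    omega
  rcases hEk with ⟨F, iF, iF', hodd, h3, ⟨eF⟩⟩ | ⟨⟨eA⟩⟩
  swap
  · exfalso
    rw [Nat.card_congr eA.toEquiv, nat_card_alternatingGroup, Nat.card_fin] at hEfac
    have : (8 : ℕ) ∣ (Nat.factorial 7 / 2) := by decide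
    have := (Nat.prime_two.pow_dvd_iff_le_factorization (by decide)).1 (show 2 ^ 3 ∣ _ from this)
    omega
  have hq8 : Fintype.card F % 8 = 3 ∨ Fintype.card F % 8 = 5 := by
    have h := PSL2.two_mul_card_PSL (PSL2.odd_card_iff.1 hodd)
    rw [← Nat.card_congr eF.toEquiv] at h
    set q := Fintype.card F
    have hq2 : q % 2 = 1 := Nat.odd_iff.1 hodd
    by_contra hne
    have hd16 : 16 ∣ q ^ 2 - 1 := by
      obtain ⟨a, b, hb, hab⟩ : ∃ a b, (b = 1 ∨ b = 7) ∧ q = 8 * a + b :=
        ⟨q / 8, q % 8, by omega, (Nat.div_add_mod q 8).symm⟩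
      rcases hb with rfl | rfl
      · exact ⟨4 * a * a + a, by rw [hab]; ring_nf; omega⟩
      · exact ⟨4 * a * a + 7 * a + 3, by rw [hab]; ring_nf; omega⟩
    have h16 : 16 ∣ 2 * Nat.card E := h ▸ dvd_mul_of_dvd_right hd16 _
    have h8 : 2 ^ 3 ∣ Nat.card E :=
      (Nat.mul_dvd_mul_iff_left two_pos).1 (show 2 * 2 ^ 3 ∣ 2 * Nat.card E from h16)
    have := (Nat.prime_two.pow_dvd_iff_le_factorization Nat.card_pos.ne').1 h8
    omega
  set X₁ := E.comap ν with hX₁
  set G₁ := X₁.comap μ with hG₁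
  have hOG₁ : O ≤ G₁ := fun x hx => by
    show μ x ∈ X₁
    rw [show μ x = 1 from (QuotientGroup.eq_one_iff x).2 hx]
    exact one_mem _
  refine ⟨G₁, inferInstance, inferInstance, ?_, hOG₁, F, iF, iF', hq8, h3, ?_⟩
  · rw [hG₁, index_comap_of_surjective _ hμs, hX₁, index_comap_of_surjective _ hνs]
    exact Nat.not_even_iff_odd.1 fun he => hEodd (even_iff_two_dvd.1 he)
  -- the central extension
  let σ : X₁ →* PSL(2, F) := eF.toMonoidHom.comp (ν.subgroupComap E)
  have hσs : Function.Surjective σ := by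
    refine eF.surjective.comp ?_
    rintro ⟨y, hy⟩
    obtain ⟨x, rfl⟩ := hνs y
    exact ⟨⟨x, hy⟩, rfl⟩
  have hker : σ.ker = Z.subgroupOf X₁ := by
    ext x
    rw [MonoidHom.mem_ker, mem_subgroupOf]
    show eF _ = 1 ↔ _
    rw [eF.map_eq_one_iff, Subtype.ext_iff]
    exact QuotientGroup.eq_one_iff (x : G ⧸ O)
  have hZX₁ : Z ≤ X₁ := fun z hz => by
    show ν z ∈ E
    rw [show ν z = 1 from (QuotientGroup.eq_one_iff z).2 hz]
    exact one_mem _
  obtain ⟨f⟩ := nonempty_equiv_SL2 hodd h3 (fun h => by omega) σ hσs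
    (hker ▸ fun x hx => mem_center_iff.2 fun y => Subtype.ext (mem_center_iff.1 (mem_subgroupOf.1 hx) y))
    (by rw [hker, Nat.card_congr (subgroupOfEquivOfLe hZX₁).toEquiv, hZ]) (by
      intro x hx
      rw [hker, mem_subgroupOf]
      rw [← Subgroup.orderOf_coe] at hx
      obtain ⟨U, hU⟩ := (IsPGroup.of_card (p := 2) (n := 1)
        (by rw [Nat.card_zpowers, hx, pow_one]) : IsPGroup 2 (zpowers (x : G ⧸ O))).exists_le_sylow
      have hxU := hU (mem_zpowers _)
      obtain ⟨z, hzne⟩ : ∃ z : Z, z ≠ 1 := by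
        haveI : Nontrivial Z := Finite.one_lt_card_iff_nontrivial.1 (by omega)
        exact exists_ne 1
      have hz2 : orderOf z = 2 := by
        have := orderOf_dvd_natCard z
        rw [hZ] at this
        rcases (Nat.dvd_prime Nat.prime_two).1 this with h | h
        · exact absurd (orderOf_eq_one_iff.1 h) hzne
        · exact h
      rw [← Subgroup.orderOf_coe] at hz2
      have hzU : (z : G ⧸ O) ∈ (U : Subgroup (G ⧸ O)) :=
        (IsPGroup.of_card (p := 2) (n := 1) (by rw [hZ, pow_one]) : IsPGroup 2 Z).le_sylow_of_normal U z.2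
      have := quaternion_unique 0 ((U.equiv TX).trans eX) (x := ⟨x, hxU⟩) (y := ⟨z, hzU⟩)
        (by rwa [Subgroup.orderOf_mk]) (by rwa [Subgroup.orderOf_mk])
      rw [show (x : G ⧸ O) = z from congrArg Subtype.val this]
      exact z.2)
  refine ⟨MulEquiv.trans (QuotientGroup.quotientMulEquivOfEq ?_)
    ((QuotientGroup.quotientKerEquivOfSurjective (μ.subgroupComap X₁) ?_).trans f)⟩
  · ext x
    rw [mem_subgroupOf, MonoidHom.mem_ker, Subtype.ext_iff]
    exact (QuotientGroup.eq_one_iff (x : G)).symm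
  · rintro ⟨y, hy⟩
    obtain ⟨x, rfl⟩ := hμs y
    exact ⟨⟨x, hy⟩, rfl⟩

end Cfsg.Agent.GW
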