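import Cfsg.Agent.Lib.GW.Setting
import Mathlib.GroupTheory.Transfer
import Mathlib.GroupTheory.PGroup

/-!
# A transfer criterion for an element centralising an involution

If every fixed point of a `q`-element `h` on `G / H` comes from the centraliser of `h`, and a
homomorphism of `H` into a commutative `q`-group kills all conjugates of proper `q`-powers of `h`,
then the transfer of `h` is a power, with exponent prime to `q`, of the image of `h`.
-/

set_option autoImplicit false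
set_option linter.unusedSectionVars false
set_option linter.style.haveILetI false
set_option linter.unusedSimpArgs false

namespace Cfsg.Agent.GW

open Subgroup

universe u

variable {G : Type u} [Group G] [Finite G] {A : Type*} [CommGroup A]

/-- The value of a transfer at a `q`-element all whose fixed cosets come from its centraliser. -/
theorem transfer_eq_pow_relIndex {H : Subgroup G} (φ : H →* A) {h : G} (hh : h ∈ H) {q : ℕ}
    (hq : q.Prime) (hpow : ∃ k, h ^ q ^ k = 1)
    (hfix : ∀ g : G, g⁻¹ * h * g ∈ H → ∃ c ∈ Cent h, c⁻¹ * g ∈ H)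
    (hkill : ∀ (g : G) (i : ℕ), 1 ≤ i → ∀ hm : g⁻¹ * h ^ q ^ i * g ∈ H, φ ⟨_, hm⟩ = 1) :
    MonoidHom.transfer φ h = φ ⟨h, hh⟩ ^ H.relIndex (Cent h) := by
  classical
  haveI : Fintype (Quotient (MulAction.orbitRel (Subgroup.zpowers h) (G ⧸ H))) := Fintype.ofFinite _
  rw [MonoidHom.transfer_eq_prod_quotient_orbitRel_zpowers_quot]
  obtain ⟨k, hk⟩ := hpow
  have hmem : ∀ g : G, h • (g : G ⧸ H) = (g : G ⧸ H) ↔ g⁻¹ * h * g ∈ H := by
    intro g
    rw [MulAction.Quotient.smul_mk, smul_eq_mul, QuotientGroup.eq, ← inv_mem_iff]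
    simp [mul_assoc]
  have hcent : ∀ c ∈ Cent h, c⁻¹ * h * c = h := by
    intro c hc
    rw [mul_assoc, mem_centralizer_iff.1 hc h rfl, ← mul_assoc, inv_mul_cancel, one_mul]
  have hterm : ∀ Q : Quotient (MulAction.orbitRel (Subgroup.zpowers h) (G ⧸ H)),
      φ ⟨Q.out.out⁻¹ * h ^ Function.minimalPeriod (h • ·) Q.out * Q.out.out,
        QuotientGroup.out_conj_pow_minimalPeriod_mem H h Q.out⟩ =
      if h • Q.out = Q.out then φ ⟨h, hh⟩ else 1 := by
    intro Q
    split_ifs with hQ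
    · have hQ' : Q.out.out⁻¹ * h * Q.out.out ∈ H := (hmem _).1 (by rwa [QuotientGroup.out_eq'])
      obtain ⟨c, hc, hcH⟩ := hfix _ hQ'
      have he : (⟨Q.out.out⁻¹ * h ^ Function.minimalPeriod (h • ·) Q.out * Q.out.out,
          QuotientGroup.out_conj_pow_minimalPeriod_mem H h Q.out⟩ : H) =
          ⟨c⁻¹ * Q.out.out, hcH⟩⁻¹ * ⟨h, hh⟩ * ⟨c⁻¹ * Q.out.out, hcH⟩ := by
        refine Subtype.ext ?_
        show Q.out.out⁻¹ * h ^ Function.minimalPeriod (h • ·) Q.out * Q.out.out =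
          (c⁻¹ * Q.out.out)⁻¹ * h * (c⁻¹ * Q.out.out)
        rw [Function.minimalPeriod_eq_one_iff_isFixedPt.2 hQ, pow_one]
        calc Q.out.out⁻¹ * h * Q.out.out
            = Q.out.out⁻¹ * (c * (c⁻¹ * h * c) * c⁻¹) * Q.out.out := by group
          _ = _ := by rw [hcent c hc]; group
      rw [he, map_mul, map_mul, map_inv, mul_comm, ← mul_assoc, mul_inv_cancel, one_mul]
    · have hper : Function.IsPeriodicPt (h • · : G ⧸ H → G ⧸ H) (q ^ k) Q.out := by
        rw [Function.IsPeriodicPt, Function.IsFixedPt, smul_iterate_apply, hk, one_smul]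
      obtain ⟨i, -, hi⟩ := (Nat.dvd_prime_pow hq).1 hper.minimalPeriod_dvd
      have hi1 : 1 ≤ i := by
        rcases Nat.eq_zero_or_pos i with rfl | hpos
        · exact absurd (Function.minimalPeriod_eq_one_iff_isFixedPt.1 (by simpa using hi)) hQ
        · exact hpos
      have hm : Q.out.out⁻¹ * h ^ q ^ i * Q.out.out ∈ H :=
        hi ▸ QuotientGroup.out_conj_pow_minimalPeriod_mem H h Q.out
      rw [← hkill _ i hi1 hm]
      congr 1
      exact Subtype.ext (by simp only [hi])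
  rw [Finset.prod_congr rfl fun Q _ => hterm Q, Finset.prod_ite, Finset.prod_const,
    Finset.prod_const_one, mul_one]
  -- the fixed orbits are in bijection with the cosets of the centraliser
  congr 1
  have hfixc : ∀ x : G ⧸ H, h • x = x →
      (Quotient.mk'' x : Quotient (MulAction.orbitRel (Subgroup.zpowers h) (G ⧸ H))).out = x := by
    intro x hx
    obtain ⟨g, hg⟩ : (Quotient.mk'' x :
        Quotient (MulAction.orbitRel (Subgroup.zpowers h) (G ⧸ H))).out ∈
        MulAction.orbit ↥(Subgroup.zpowers h) x :=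
      MulAction.orbitRel_apply.1 (Quotient.exact' (Quotient.out_eq' _))
    obtain ⟨i, hi⟩ := g.2
    rw [← hg]
    show (g : G) • x = x
    rw [← hi]
    exact MulAction.mem_stabilizer_iff.1
      (Subgroup.zpow_mem _ (MulAction.mem_stabilizer_iff.2 hx) i)
  let f : ↥(Cent h) ⧸ H.subgroupOf (Cent h) →
      {Q : Quotient (MulAction.orbitRel (Subgroup.zpowers h) (G ⧸ H)) // h • Q.out = Q.out} :=
    Quotient.lift (fun c => ⟨Quotient.mk'' ((c : G) : G ⧸ H), by
      have hc : h • ((c : G) : G ⧸ H) = (c : G) := (hmem _).2 (by rw [hcent _ c.2]; exact hh)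
      rw [hfixc _ hc]
      exact hc⟩) (by
      intro a b hab
      refine Subtype.ext (congrArg Quotient.mk'' (QuotientGroup.eq.2 ?_))
      simpa using mem_subgroupOf.1 (QuotientGroup.leftRel_apply.1 hab))
  have hbij : Function.Bijective f := by
    constructor
    · intro a b hab
      induction a using Quotient.inductionOn' with | h a => ?_
      induction b using Quotient.inductionOn' with | h b => ?_
      have h1 := congrArg (fun Q => Q.1.out) hab
      have hc : ∀ c : Cent h, h • ((c : G) : G ⧸ H) = (c : G) :=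
        fun c => (hmem _).2 (by rw [hcent _ c.2]; exact hh)
      change (Quotient.mk'' ((a : G) : G ⧸ H) :
          Quotient (MulAction.orbitRel (Subgroup.zpowers h) (G ⧸ H))).out =
        (Quotient.mk'' ((b : G) : G ⧸ H) :
          Quotient (MulAction.orbitRel (Subgroup.zpowers h) (G ⧸ H))).out at h1
      rw [hfixc _ (hc a), hfixc _ (hc b)] at h1
      exact QuotientGroup.eq.2 (mem_subgroupOf.2 (by simpa using QuotientGroup.eq.1 h1))
    · rintro ⟨Q, hQ⟩
      have hQ' : Q.out.out⁻¹ * h * Q.out.out ∈ H := (hmem _).1 (by rwa [QuotientGroup.out_eq'])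
      obtain ⟨c, hc, hcH⟩ := hfix _ hQ'
      refine ⟨QuotientGroup.mk (⟨c, hc⟩ : Cent h), Subtype.ext ?_⟩
      show (Quotient.mk'' ((c : G) : G ⧸ H) :
          Quotient (MulAction.orbitRel (Subgroup.zpowers h) (G ⧸ H))) = Q
      rw [show ((c : G) : G ⧸ H) = Q.out from
        (QuotientGroup.eq.2 hcH).trans (QuotientGroup.out_eq' _)]
      exact Quotient.out_eq' _
  rw [Subgroup.relIndex, Subgroup.index, Nat.card_congr (Equiv.ofBijective f hbij),
    Nat.card_eq_fintype_card, Fintype.card_subtype]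

/-- The transfer is then non-trivial when `φ h ≠ 1` and `q` does not divide the number of fixed
cosets. -/
theorem transfer_ne_one {H : Subgroup G} (φ : H →* A) {h : G} (hh : h ∈ H) {q : ℕ}
    (hq : q.Prime) (hA : IsPGroup q A) (hne : φ ⟨h, hh⟩ ≠ 1) (hpow : ∃ k, h ^ q ^ k = 1)
    (hfix : ∀ g : G, g⁻¹ * h * g ∈ H → ∃ c ∈ Cent h, c⁻¹ * g ∈ H)
    (hkill : ∀ (g : G) (i : ℕ), 1 ≤ i → ∀ hm : g⁻¹ * h ^ q ^ i * g ∈ H, φ ⟨_, hm⟩ = 1)
    (hidx : ¬ q ∣ H.relIndex (Cent h)) : MonoidHom.transfer φ h ≠ 1 := by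
  haveI : Fact q.Prime := ⟨hq⟩
  rw [transfer_eq_pow_relIndex φ hh hq hpow hfix hkill]
  intro h1
  obtain ⟨j, hj⟩ := hA (φ ⟨h, hh⟩)
  have h2 := pow_gcd_eq_one.mpr ⟨hj, h1⟩
  rw [Nat.Coprime.gcd_eq_one ((hq.coprime_iff_not_dvd.2 hidx).pow_left j), pow_one] at h2
  exact hne h2

/-- The criterion for the centraliser of an involution: `G` has a proper normal subgroup with
commutative quotient. -/
theorem exists_normal_of_transfer {t : G} (φ : Cent t →* A) {h : G} (hh : h ∈ Cent t) {q : ℕ}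
    (hq : q.Prime) (hA : IsPGroup q A) (hne : φ ⟨h, hh⟩ ≠ 1) (hpow : ∃ k, h ^ q ^ k = 1)
    (hconj : ∀ g : G, g * t * g⁻¹ ∈ Cent h → ∃ c ∈ Cent h, c * t * c⁻¹ = g * t * g⁻¹)
    (hkill : ∀ (g : G) (i : ℕ), 1 ≤ i →
      ∀ hm : g⁻¹ * h ^ q ^ i * g ∈ Cent t, φ ⟨_, hm⟩ = 1)
    (hidx : ¬ q ∣ (Cent t).relIndex (Cent h)) :
    ∃ M : Subgroup G, M.Normal ∧ M ≠ ⊤ ∧ ∀ a b : G, a * b * a⁻¹ * b⁻¹ ∈ M := by
  have hne' : MonoidHom.transfer φ h ≠ 1 := by
    refine transfer_ne_one φ hh hq hA hne hpow (fun g hg => ?_) hkill hidx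
    have h1 : g * t * g⁻¹ ∈ Cent h := by
      refine mem_centralizer_iff.2 fun x hx => ?_
      rw [Set.mem_singleton_iff] at hx
      rw [hx]
      have h2 := mem_centralizer_iff.1 hg t rfl
      calc h * (g * t * g⁻¹) = g * ((g⁻¹ * h * g) * t) * g⁻¹ := by group
        _ = g * (t * (g⁻¹ * h * g)) * g⁻¹ := by rw [h2]
        _ = g * t * g⁻¹ * h := by group
    obtain ⟨c, hc, hct⟩ := hconj g h1
    refine ⟨c, hc, mem_centralizer_iff.2 fun x hx => ?_⟩
    rw [Set.mem_singleton_iff] at hx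
    rw [hx]
    calc t * (c⁻¹ * g) = c⁻¹ * (c * t * c⁻¹) * g := by group
      _ = c⁻¹ * (g * t * g⁻¹) * g := by rw [hct]
      _ = c⁻¹ * g * t := by group
  refine ⟨(MonoidHom.transfer φ).ker, inferInstance, fun htop => hne' ?_, fun a b => ?_⟩
  · exact MonoidHom.mem_ker.1 (by rw [htop]; exact mem_top h)
  · simp [MonoidHom.mem_ker, mul_comm]

/-- In particular a non-abelian simple group has no such element. -/
theorem false_of_transfer [IsSimpleGroup G] (hG : ∃ a b : G, a * b ≠ b * a) {t : G}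
    (φ : Cent t →* A) {h : G} (hh : h ∈ Cent t) {q : ℕ} (hq : q.Prime) (hA : IsPGroup q A)
    (hne : φ ⟨h, hh⟩ ≠ 1) (hpow : ∃ k, h ^ q ^ k = 1)
    (hconj : ∀ g : G, g * t * g⁻¹ ∈ Cent h → ∃ c ∈ Cent h, c * t * c⁻¹ = g * t * g⁻¹)
    (hkill : ∀ (g : G) (i : ℕ), 1 ≤ i →
      ∀ hm : g⁻¹ * h ^ q ^ i * g ∈ Cent t, φ ⟨_, hm⟩ = 1)
    (hidx : ¬ q ∣ (Cent t).relIndex (Cent h)) : False := by
  obtain ⟨M, hMn, hM, hcomm⟩ := exists_normal_of_transfer φ hh hq hA hne hpow hconj hkill hidx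
  obtain ⟨a, b, hab⟩ := hG
  rcases hMn.eq_bot_or_eq_top with h0 | h0
  · refine hab ?_
    have := hcomm a b
    rw [h0, mem_bot, mul_inv_eq_one, mul_inv_eq_iff_eq_mul] at this
    exact this
  · exact hM h0

end Cfsg.Agent.GW
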